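import Groth.Agent.ProjBC35.AwayPushout
import Groth.Agent.LineCone35.Scale

/-!
Surjectivity and injectivity of maps of homogeneous localizations.
-/

universe u

open CategoryTheory AlgebraicGeometry HomogeneousLocalization
open scoped HomogeneousIdeal

noncomputable section

namespace Groth.Agent.RLPsi35

variable {A B σ τ R : Type u} [CommRing A] [CommRing B] [CommRing R] [SetLike σ A] [AddSubgroupClass σ A]
  [SetLike τ B] [AddSubgroupClass τ B] {𝒜 : ℕ → σ} [GradedRing 𝒜] {ℬ : ℕ → τ} [GradedRing ℬ]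
  (ψ : 𝒜 →+*ᵍ ℬ) (ρ : R →+* B) (hρ : ∀ r, ρ r ∈ ℬ 0) {f : A} {d : ℕ} (hf : f ∈ 𝒜 d)

include hρ hf in
lemma surjective_awayMap_iff (hb : Function.Surjective (ProjBC35.baseToAway ρ hρ (ψ f))) :
    Function.Surjective (Away.map ψ f) ↔
      ∀ t : R, ∃ m : ℕ, 0 < m ∧ ∃ s' ∈ 𝒜 (m * d), ρ t * ψ f ^ m = ψ s' := by
  constructor
  · intro h t
    obtain ⟨q, hq⟩ := h (ProjBC35.baseToAway ρ hρ (ψ f) t)
    obtain ⟨m, a, ha, rfl⟩ := q.mk_surjective 𝒜 hf
    have h0 := congrArg HomogeneousLocalization.val hq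
    rw [Away.map_mk, Away.val_mk, ProjBC35.val_baseToAway, ← Localization.mk_one_eq_algebraMap,
      Localization.mk_eq_mk_iff, Localization.r_iff_exists] at h0
    obtain ⟨⟨_, k, rfl⟩, hk⟩ := h0
    refine ⟨m + k + 1, by omega, f ^ (k + 1) * a, ?_, ?_⟩
    · rw [show (m + k + 1) * d = (k + 1) • d + m • d by simp only [smul_eq_mul]; ring]
      exact SetLike.mul_mem_graded (SetLike.pow_mem_graded _ hf) ha
    · simp only [OneMemClass.coe_one, one_mul] at hk
      rw [map_mul, map_pow, pow_succ _ k, pow_succ _ (m + k), pow_add]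
      linear_combination (-(ψ f)) * hk
  · intro h y
    obtain ⟨t, rfl⟩ := hb y
    obtain ⟨m, -, s', hs', he⟩ := h t
    refine ⟨Away.mk 𝒜 hf m s' (by rwa [smul_eq_mul]), val_injective _ ?_⟩
    rw [Away.map_mk, Away.val_mk, ProjBC35.val_baseToAway, ← Localization.mk_one_eq_algebraMap,
      Localization.mk_eq_mk_iff, Localization.r_iff_exists]
    exact ⟨1, by simp [← he, mul_comm]⟩

include hf in
lemma injective_awayMap_iff :
    Function.Injective (Away.map ψ f) ↔
      ∀ m : ℕ, 0 < m → ∀ s' ∈ 𝒜 (m * d), ψ s' = 0 → ∃ k : ℕ, 0 < k ∧ f ^ k * s' = 0 := by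
  constructor
  · intro h m _ s' hs' h0
    have hq : Away.mk 𝒜 hf m s' (by rwa [smul_eq_mul]) = 0 := by
      refine (injective_iff_map_eq_zero _).mp h _ (val_injective _ ?_)
      rw [Away.map_mk, Away.val_mk, val_zero, Localization.mk_eq_mk', IsLocalization.mk'_eq_zero_iff]
      exact ⟨1, by simp [h0]⟩
    have h1 := congrArg HomogeneousLocalization.val hq
    rw [Away.val_mk, val_zero, Localization.mk_eq_mk', IsLocalization.mk'_eq_zero_iff] at h1
    obtain ⟨⟨_, k, rfl⟩, hk⟩ := h1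
    exact ⟨k + 1, k.succ_pos, by rw [pow_succ', mul_assoc]; exact (congrArg (f * ·) hk).trans (mul_zero f)⟩
  · intro h
    rw [injective_iff_map_eq_zero]
    intro q hq
    obtain ⟨m, a, ha, rfl⟩ := q.mk_surjective 𝒜 hf
    have h0 := congrArg HomogeneousLocalization.val hq
    rw [Away.map_mk, Away.val_mk, val_zero, Localization.mk_eq_mk', IsLocalization.mk'_eq_zero_iff] at h0
    obtain ⟨⟨_, k, rfl⟩, hk⟩ := h0
    have hk' : ψ f ^ k * ψ a = 0 := hk
    obtain ⟨l, -, hl⟩ := h (m + k + 1) (by omega) (f ^ (k + 1) * a) (by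
      rw [show (m + k + 1) * d = (k + 1) • d + m • d by simp only [smul_eq_mul]; ring]
      exact SetLike.mul_mem_graded (SetLike.pow_mem_graded _ hf) ha)
      (by rw [map_mul, map_pow, pow_succ', mul_assoc, hk', mul_zero])
    refine val_injective _ ?_
    rw [Away.val_mk, val_zero, Localization.mk_eq_mk', IsLocalization.mk'_eq_zero_iff]
    exact ⟨⟨_, l + (k + 1), rfl⟩, by simpa [pow_add, mul_assoc] using hl⟩

end Groth.Agent.RLPsi35
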