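import Groth.Agent.RLPsi35.Gen
import Groth.Agent.RLPsi35.AwayCrit
import Mathlib.AlgebraicGeometry.Morphisms.Immersion

/-!
Immersion criteria.
-/

universe u

open CategoryTheory CategoryTheory.Limits AlgebraicGeometry TopologicalSpace Opposite
open HomogeneousLocalization
open scoped HomogeneousIdeal

noncomputable section

namespace Groth.Agent.RLPsi35

lemma surjective_of_isClosedImmersion {R S : CommRingCat.{u}} (φ : R ⟶ S) [IsClosedImmersion (Spec.map φ)] :
    Function.Surjective φ.hom := by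
  intro y
  have h := (IsClosedImmersion.isAffine_surjective_of_isAffine (Spec.map φ)).2
  obtain ⟨x, hx⟩ := h ((Scheme.ΓSpecIso S).inv.hom y)
  refine ⟨(Scheme.ΓSpecIso R).hom.hom x, ?_⟩
  have := congr($(Scheme.ΓSpecIso_naturality φ).hom x)
  simp only [CommRingCat.hom_comp, RingHom.comp_apply] at this
  rw [← this, show (Spec.map φ).appTop.hom x = _ from hx]
  exact congr($((Scheme.ΓSpecIso S).inv_hom_id).hom y)

lemma bijective_of_isIso {R S : CommRingCat.{u}} (φ : R ⟶ S) [IsIso (Spec.map φ)] :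
    Function.Bijective φ.hom := by
  have : IsIso (Scheme.Spec.map φ.op) := by
    rw [Scheme.Spec_map]; exact inferInstanceAs (IsIso (Spec.map φ))
  have : IsIso φ.op := isIso_of_fully_faithful Scheme.Spec φ.op
  have : IsIso φ := isIso_of_op φ
  exact ConcreteCategory.bijective_of_isIso φ

variable {Y X : Scheme.{u}} {q : X ⟶ Y} {𝒮 : RelProj.QCGrAlg Y} {𝒮L : RelProj.QCGrAlg X}
  {u : RelProj.QGrHom q 𝒮 𝒮L}
  {P : Scheme.{u}} {p : P ⟶ Y}
  {chart : ∀ (U : Y.Opens) (hU : IsAffineOpen U), (((p ⁻¹ᵁ U : P.Opens) : Scheme.{u}) ≅ Proj (𝒮.deg U hU))}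
  {PL : Scheme.{u}} {pL : PL ⟶ X}
  {chartL : ∀ (U : X.Opens) (hU : IsAffineOpen U), (((pL ⁻¹ᵁ U : PL.Opens) : Scheme.{u}) ≅ Proj (𝒮L.deg U hU))}

variable (u pL chartL) in
/-- A standard open of `P` whose inverse image is an affine open of `X`. -/
structure Piece where
  U : Y.Opens
  hU : IsAffineOpen U
  d : ℕ
  hd : 0 < d
  f : 𝒮.presheaf.obj (op U)
  hf : f ∈ 𝒮.deg U hU d
  V : X.Opens
  hV : IsAffineOpen V
  hle : V ≤ q ⁻¹ᵁ U
  mem_iff : ∀ z : PL, Hit u pL chartL U hU f z ↔ pL z ∈ V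

namespace Piece

/-- The chart of a piece. -/
abbrev toChart (c : Piece u pL chartL) : ProjQMapX.Chart u :=
  ⟨c.U, c.hU, c.V, c.hV, c.hle, c.d, c.hd, c.f, c.hf⟩

/-- The ring map of a piece. -/
abbrev ψ (c : Piece u pL chartL) : 𝒮.deg c.U c.hU →+*ᵍ 𝒮L.deg c.V c.hV :=
  u.gradedAt c.U c.hU c.V c.hV c.hle

variable (p chart) in
/-- The standard open of a piece. -/
def open' (c : Piece u pL chartL) : P.Opens :=
  RelProj.emb p chart c.U c.hU ''ᵁ Proj.basicOpen (𝒮.deg c.U c.hU) c.f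

variable (hP : RelProj.IsRelProj 𝒮 p chart) (hPL : RelProj.IsRelProj 𝒮L pL chartL)
  {r : ((RelProj.domQ u pL chartL : PL.Opens) : Scheme.{u}) ⟶ P}
  (hr : RelProj.IsProjQMapOn u p chart pL chartL (RelProj.domQ u pL chartL) r)

include hP hPL in
lemma mem_basicOpen (c : Piece u pL chartL) (w : Proj (𝒮L.deg c.V c.hV)) :
    w ∈ Proj.basicOpen (𝒮L.deg c.V c.hV) (c.ψ c.f) :=
  (hit_emb_iff hP hPL c.hd c.hf c.V c.hV c.hle w).mp
    ((c.mem_iff _).mpr (ProjQMapX.emb_mem c.V c.hV w))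

include hP hPL hr in
lemma range_lift (c : Piece u pL chartL) :
    Set.range (c.toChart.lift pL chartL) = r ⁻¹' (c.open' p chart : Set P) := by
  ext x
  refine ((ProjQMapX.mem_range_lift u).trans ProjQMapX.Chart.mem_range_emb).trans ?_
  constructor
  · rintro ⟨w, hw, hwx⟩
    exact (hit_iff_apply_mem hP hPL hr c.hU c.hd c.hf x).mp ⟨c.V, c.hV, c.hle, w, hwx, hw⟩
  · intro hx
    obtain ⟨w, hw⟩ := ProjQMapX.exists_emb_eq (chart := chartL) c.V c.hV
      ((c.mem_iff _).mp ((hit_iff_apply_mem hP hPL hr c.hU c.hd c.hf x).mpr hx))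
    exact ⟨w, c.mem_basicOpen hP hPL w, hw⟩

include hP hPL hr in
/-- The chart of a piece is cartesian, also after factoring `r` through an open containing the
standard open. -/
theorem arrowIso (c : Piece u pL chartL) {T : Scheme.{u}} (m : T ⟶ P) [IsOpenImmersion m]
    (r₀ : ((RelProj.domQ u pL chartL : PL.Opens) : Scheme.{u}) ⟶ T) (hm : r₀ ≫ m = r)
    (hT : c.open' p chart ≤ m.opensRange) :
    Nonempty (Arrow.mk (r₀ ∣_ (m ⁻¹ᵁ c.open' p chart)) ≅
      Arrow.mk (Spec.map (CommRingCat.ofHom (Away.map c.ψ c.f)))) := by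
  let a := Proj.awayι (𝒮.deg c.U c.hU) c.f c.hf c.hd ≫ RelProj.emb p chart c.U c.hU
  have ha : Set.range a = (c.open' p chart : Set P) := ProjQMapX.range_toP_base c.U c.hU c.hd c.hf
  have hsub : Set.range a ⊆ Set.range m := ha.le.trans hT
  let k := IsOpenImmersion.lift m a hsub
  have hk : k ≫ m = a := IsOpenImmersion.lift_fac _ _ _
  have : IsOpenImmersion (k ≫ m) := by rw [hk]; infer_instance
  have : IsOpenImmersion k := IsOpenImmersion.of_comp k m
  have hrange : k.opensRange = m ⁻¹ᵁ c.open' p chart := by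
    refine Opens.ext (Set.ext fun t => ⟨?_, fun ht => ?_⟩)
    · rintro ⟨s, rfl⟩
      show m (k s) ∈ (c.open' p chart : Set P)
      rw [← Scheme.Hom.comp_apply, hk, ← ha]
      exact ⟨s, rfl⟩
    · obtain ⟨s, hs⟩ := ha.ge ht
      exact ⟨s, m.isOpenEmbedding.injective (by rw [← Scheme.Hom.comp_apply, hk, hs])⟩
  have sq : IsPullback (c.toChart.lift pL chartL)
      (Spec.map (CommRingCat.ofHom (Away.map c.ψ c.f))) r₀ k := by
    refine (IsOpenImmersion.isPullback _ (c.toChart.lift pL chartL) _ r₀ ?_ ?_).flip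
    · rw [← cancel_mono m, Category.assoc, Category.assoc, hm, hk,
        (ProjQMapX.isProjQMapOn_iff u).mp hr c.toChart]
      rfl
    · apply Opens.ext
      show r₀ ⁻¹' (k.opensRange : Set T) = Set.range (c.toChart.lift pL chartL)
      rw [c.range_lift hP hPL hr, hrange, ← hm, Scheme.Hom.comp_base, TopCat.coe_comp, Set.preimage_comp]
      rfl
  rw [← hrange]
  exact ⟨morphismRestrictOpensRange r₀ k ≪≫ Arrow.isoMk sq.isoPullback.symm (Iso.refl _)
    ((sq.isoPullback_inv_snd).trans (Category.comp_id _).symm)⟩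

include hP hPL in
lemma surjective_baseToAway (c : Piece u pL chartL) [IsIso pL] :
    Function.Surjective (ProjBC35.baseToAway (𝒮L.str.app (op c.V)).hom (𝒮L.str_mem c.V c.hV) (c.ψ c.f)) := by
  have hx : c.ψ c.f ∈ 𝒮L.deg c.V c.hV c.d := c.ψ.map_mem c.hf
  have : IsIso (Proj.awayι (𝒮L.deg c.V c.hV) (c.ψ c.f) hx c.hd) :=
    isIso_of_isOpenImmersion_of_opensRange_eq_top _ (by
      rw [Proj.opensRange_awayι]; exact eq_top_iff.mpr fun w _ => c.mem_basicOpen hP hPL w)
  have : IsIso (pL ∣_ c.V) := inferInstance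
  have h : IsIso (Spec.map (CommRingCat.ofHom
      (ProjBC35.baseToAway (𝒮L.str.app (op c.V)).hom (𝒮L.str_mem c.V c.hV) (c.ψ c.f))) ≫
        c.hV.isoSpec.inv) := by
    have e : Spec.map (CommRingCat.ofHom
        (ProjBC35.baseToAway (𝒮L.str.app (op c.V)).hom (𝒮L.str_mem c.V c.hV) (c.ψ c.f))) ≫
          c.hV.isoSpec.inv =
        Proj.awayι (𝒮L.deg c.V c.hV) (c.ψ c.f) hx c.hd ≫ (chartL c.V c.hV).inv ≫ pL ∣_ c.V := by
      rw [← cancel_mono c.V.ι, Category.assoc, Category.assoc, Category.assoc, morphismRestrict_ι,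
        IsAffineOpen.isoSpec_inv_ι, ← ProjBC35.awayι_emb_comp hPL c.V c.hV c.hd _ hx, Category.assoc]
      simp [RelProj.emb]
    rw [e]; infer_instance
  have : IsIso (Spec.map (CommRingCat.ofHom
      (ProjBC35.baseToAway (𝒮L.str.app (op c.V)).hom (𝒮L.str_mem c.V c.hV) (c.ψ c.f)))) :=
    IsIso.of_isIso_comp_right _ c.hV.isoSpec.inv
  exact (bijective_of_isIso (CommRingCat.ofHom
    (ProjBC35.baseToAway (𝒮L.str.app (op c.V)).hom (𝒮L.str_mem c.V c.hV) (c.ψ c.f)))).2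

/-- The condition on functions of the published criterion. -/
def Cond (c : Piece u pL chartL) : Prop :=
  ∀ t : X.presheaf.obj (op c.V), ∃ m : ℕ, 0 < m ∧ ∃ s' ∈ 𝒮.deg c.U c.hU (m * c.d),
    (𝒮L.str.app (op c.V)).hom t * (u.appLE c.U c.V c.hle).hom c.f ^ m = (u.appLE c.U c.V c.hle).hom s'

/-- The condition on relations of the published criterion. -/
def CondInj (c : Piece u pL chartL) : Prop :=
  ∀ m : ℕ, 0 < m → ∀ s' ∈ 𝒮.deg c.U c.hU (m * c.d),
    (u.appLE c.U c.V c.hle).hom s' = 0 → ∃ k : ℕ, 0 < k ∧ c.f ^ k * s' = 0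

include hP hPL in
lemma cond_iff [IsIso pL] (c : Piece u pL chartL) : c.Cond ↔ Function.Surjective (Away.map c.ψ c.f) :=
  (surjective_awayMap_iff c.ψ (𝒮L.str.app (op c.V)).hom (𝒮L.str_mem c.V c.hV) c.hf
    (c.surjective_baseToAway hP hPL)).symm

lemma condInj_iff (c : Piece u pL chartL) : c.CondInj ↔ Function.Injective (Away.map c.ψ c.f) :=
  (injective_awayMap_iff c.ψ c.hf).symm

include hP hPL hr in
/-- A property local at the target holds for a factor of `r` if it holds on pieces. -/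
theorem of_cover {ι : Type*} (c : ι → Piece u pL chartL) (Pr : MorphismProperty Scheme.{u})
    [IsZariskiLocalAtTarget Pr] {T : Scheme.{u}} (m : T ⟶ P) [IsOpenImmersion m]
    (r₀ : ((RelProj.domQ u pL chartL : PL.Opens) : Scheme.{u}) ⟶ T) (hm : r₀ ≫ m = r)
    (hT : m.opensRange = ⨆ a, (c a).open' p chart)
    (h : ∀ a, Pr (Spec.map (CommRingCat.ofHom (Away.map (c a).ψ (c a).f)))) : Pr r₀ := by
  refine IsZariskiLocalAtTarget.of_iSup_eq_top (fun a => m ⁻¹ᵁ (c a).open' p chart) ?_ fun a => ?_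
  · refine eq_top_iff.mpr fun t _ => ?_
    have : m t ∈ ⨆ a, (c a).open' p chart := hT ▸ ⟨t, rfl⟩
    obtain ⟨a, ha⟩ := Opens.mem_iSup.mp this
    exact Opens.mem_iSup.mpr ⟨a, ha⟩
  · obtain ⟨e⟩ := (c a).arrowIso hP hPL hr m r₀ hm (hT ▸ le_iSup (fun a => (c a).open' p chart) a)
    exact (Pr.arrow_mk_iso_iff e).mpr (h a)

include hP hPL hr in
/-- Factorization of `r` through the standard opens of covering pieces. -/
theorem exists_factor_iSup {ι : Type*} (c : ι → Piece u pL chartL) (hcov : ∀ z : PL, ∃ a, pL z ∈ (c a).V) :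
    RelProj.domQ u pL chartL = ⊤ ∧
    ∃ r₀ : ((RelProj.domQ u pL chartL : PL.Opens) : Scheme.{u}) ⟶ (⨆ a, (c a).open' p chart : P.Opens),
      r₀ ≫ (⨆ a, (c a).open' p chart : P.Opens).ι = r := by
  refine ⟨eq_top_iff.mpr fun z _ => ?_, ?_⟩
  · obtain ⟨a, ha⟩ := hcov z
    exact (((c a).mem_iff z).mpr ha).mem_domQ (c a).hd (c a).hf
  · have hsub : Set.range r ⊆ Set.range (⨆ a, (c a).open' p chart : P.Opens).ι := by
      rintro _ ⟨x, rfl⟩
      rw [Scheme.Opens.range_ι]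
      obtain ⟨a, ha⟩ := hcov ((RelProj.domQ u pL chartL).ι x)
      exact Opens.mem_iSup.mpr ⟨a,
        (hit_iff_apply_mem hP hPL hr (c a).hU (c a).hd (c a).hf x).mp (((c a).mem_iff _).mpr ha)⟩
    exact ⟨IsOpenImmersion.lift _ _ hsub, IsOpenImmersion.lift_fac _ _ _⟩

include hP hPL hr in
theorem isImmersion_of_cover {ι : Type*} [IsIso pL] (c : ι → Piece u pL chartL)
    (hcov : ∀ z : PL, ∃ a, pL z ∈ (c a).V) (h : ∀ a, (c a).Cond) :
    RelProj.domQ u pL chartL = ⊤ ∧ IsImmersion r := by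
  obtain ⟨htop, r₀, hr₀⟩ := exists_factor_iSup hP hPL hr c hcov
  have : IsClosedImmersion r₀ := of_cover hP hPL hr c @IsClosedImmersion.{u}
    (⨆ a, (c a).open' p chart : P.Opens).ι r₀ hr₀ (Scheme.Opens.opensRange_ι _) fun a =>
      IsClosedImmersion.spec_of_surjective _ (((c a).cond_iff hP hPL).mp (h a))
  refine ⟨htop, ?_⟩
  rw [← hr₀]; infer_instance

include hP hPL hr in
theorem isOpenImmersion_of_cover {ι : Type*} [IsIso pL] (c : ι → Piece u pL chartL)
    (hcov : ∀ z : PL, ∃ a, pL z ∈ (c a).V) (h : ∀ a, (c a).Cond ∧ (c a).CondInj) :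
    RelProj.domQ u pL chartL = ⊤ ∧ IsOpenImmersion r := by
  obtain ⟨htop, r₀, hr₀⟩ := exists_factor_iSup hP hPL hr c hcov
  have : IsOpenImmersion r₀ := of_cover hP hPL hr c @IsOpenImmersion.{u}
    (⨆ a, (c a).open' p chart : P.Opens).ι r₀ hr₀ (Scheme.Opens.opensRange_ι _) fun a => by
      have : IsIso (CommRingCat.ofHom (Away.map (c a).ψ (c a).f)) :=
        (RingEquiv.ofBijective _ ⟨((c a).condInj_iff).mp (h a).2,
          ((c a).cond_iff hP hPL).mp (h a).1⟩).toCommRingCatIso.isIso_hom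
      infer_instance
  refine ⟨htop, ?_⟩
  rw [← hr₀]; infer_instance

include hP hPL hr in
theorem isClosedImmersion_of_cover {ι : Type*} [IsIso pL] (c : ι → Piece u pL chartL)
    (hcov : ∀ z : PL, ∃ a, pL z ∈ (c a).V) (h : ∀ a, (c a).Cond)
    (htot : ⨆ a, (c a).open' p chart = ⊤) :
    RelProj.domQ u pL chartL = ⊤ ∧ IsClosedImmersion r := by
  obtain ⟨htop, -⟩ := exists_factor_iSup hP hPL hr c hcov
  refine ⟨htop, of_cover hP hPL hr c @IsClosedImmersion.{u} (𝟙 P) r (Category.comp_id r) ?_ fun a =>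
    IsClosedImmersion.spec_of_surjective _ (((c a).cond_iff hP hPL).mp (h a))⟩
  rw [htot, Scheme.Hom.opensRange_of_isIso]

include hP hPL hr in
lemma closed_piece [IsIso pL] (c : Piece u pL chartL) (h : IsClosedImmersion (r ∣_ c.open' p chart)) :
    c.Cond := by
  obtain ⟨e⟩ := c.arrowIso hP hPL hr (𝟙 P) r (Category.comp_id r) (by rw [Scheme.Hom.opensRange_of_isIso]; exact le_top)
  have : IsClosedImmersion (Spec.map (CommRingCat.ofHom (Away.map c.ψ c.f))) :=
    (MorphismProperty.arrow_mk_iso_iff @IsClosedImmersion.{u} e).mp h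
  exact (c.cond_iff hP hPL).mpr (surjective_of_isClosedImmersion (CommRingCat.ofHom (Away.map c.ψ c.f)))

include hP hPL hr in
lemma open_piece [IsIso pL] (c : Piece u pL chartL) (h : IsIso (r ∣_ c.open' p chart)) :
    c.Cond ∧ c.CondInj := by
  obtain ⟨e⟩ := c.arrowIso hP hPL hr (𝟙 P) r (Category.comp_id r) (by rw [Scheme.Hom.opensRange_of_isIso]; exact le_top)
  have : IsIso (Spec.map (CommRingCat.ofHom (Away.map c.ψ c.f))) :=
    (MorphismProperty.arrow_mk_iso_iff (MorphismProperty.isomorphisms Scheme.{u}) e).mp h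
  exact ⟨(c.cond_iff hP hPL).mpr (bijective_of_isIso (CommRingCat.ofHom (Away.map c.ψ c.f))).2,
    c.condInj_iff.mpr (bijective_of_isIso (CommRingCat.ofHom (Away.map c.ψ c.f))).1⟩

end Piece

variable (hP : RelProj.IsRelProj 𝒮 p chart) (hPL : RelProj.IsRelProj 𝒮L pL chartL)
  {r : ((RelProj.domQ u pL chartL : PL.Opens) : Scheme.{u}) ⟶ P}
  (hr : RelProj.IsProjQMapOn u p chart pL chartL (RelProj.domQ u pL chartL) r)

include hP hPL hr in
/-- A standard open over which `r` is a closed immersion is a piece. -/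
theorem exists_piece [IsIso pL] {U : Y.Opens} (hU : IsAffineOpen U) {d : ℕ} (hd : 0 < d)
    {f : 𝒮.presheaf.obj (op U)} (hf : f ∈ 𝒮.deg U hU d)
    (h : IsClosedImmersion (r ∣_ (RelProj.emb p chart U hU ''ᵁ Proj.basicOpen (𝒮.deg U hU) f))) :
    ∃ c : Piece u pL chartL, c.U = U ∧ c.d = d ∧
      c.open' p chart = RelProj.emb p chart U hU ''ᵁ Proj.basicOpen (𝒮.deg U hU) f ∧ c.Cond := by
  let O := RelProj.emb p chart U hU ''ᵁ Proj.basicOpen (𝒮.deg U hU) f
  have hO : IsAffineOpen O := by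
    have : O = (Proj.awayι (𝒮.deg U hU) f hf hd ≫ RelProj.emb p chart U hU).opensRange :=
      Opens.ext (ProjQMapX.range_toP_base U hU hd hf).symm
    rw [this]
    exact isAffineOpen_opensRange _
  have : IsAffine O := hO
  have hpre : IsAffineOpen (r ⁻¹ᵁ O) := isAffine_of_isAffineHom (r ∣_ O)
  let V := ((RelProj.domQ u pL chartL).ι ≫ pL) ''ᵁ (r ⁻¹ᵁ O)
  have hV : IsAffineOpen V := hpre.image_of_isOpenImmersion _
  have hle : V ≤ q ⁻¹ᵁ U := by
    rintro _ ⟨x, hx, rfl⟩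
    exact le_preimage_of_apply_mem hP hPL hr hU hx
  have hmem : ∀ z : PL, Hit u pL chartL U hU f z ↔ pL z ∈ V := fun z => by
    constructor
    · intro hz
      exact ⟨⟨z, hz.mem_domQ hd hf⟩, (hit_iff_apply_mem hP hPL hr hU hd hf ⟨z, hz.mem_domQ hd hf⟩).mp hz, rfl⟩
    · rintro ⟨x, hx, hxz⟩
      rw [show z = (RelProj.domQ u pL chartL).ι x from pL.isOpenEmbedding.injective hxz.symm]
      exact (hit_iff_apply_mem hP hPL hr hU hd hf x).mpr hx
  exact ⟨⟨U, hU, d, hd, f, hf, V, hV, hle, hmem⟩, rfl, rfl, rfl, Piece.closed_piece hP hPL hr _ h⟩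

/-- An immersion is closed over opens of its coborder range. -/
lemma isClosedImmersion_morphismRestrict {A B : Scheme.{u}} (g : A ⟶ B) [IsImmersion g] {O : B.Opens}
    (hO : O ≤ g.coborderRange) : IsClosedImmersion (g ∣_ O) := by
  have : IsImmersion (g ∣_ O) := MorphismProperty.of_isPullback (isPullback_morphismRestrict g O).flip ‹_›
  refine IsClosedImmersion.of_isPreimmersion _ ?_
  have e : Set.range (g ∣_ O) = (Subtype.val : O → B) ⁻¹' Set.range g := by
    ext x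
    constructor
    · rintro ⟨a, rfl⟩
      exact ⟨(g ⁻¹ᵁ O).ι a, by rw [← Scheme.Hom.comp_apply, ← morphismRestrict_ι]; rfl⟩
    · rintro ⟨a, ha⟩
      refine ⟨⟨a, show g a ∈ O from ha ▸ x.2⟩, Subtype.ext ?_⟩
      show O.ι ((g ∣_ O) _) = _
      rw [← Scheme.Hom.comp_apply, morphismRestrict_ι]
      exact ha
  rw [e, show (Subtype.val : O → B) = (Subtype.val : g.coborderRange → B) ∘ Set.inclusion hO from rfl,
    Set.preimage_comp]
  exact IsClosed.preimage (continuous_inclusion hO) isClosed_preimage_val_coborder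

/-- Standard opens over an affine open form a basis. -/
lemma exists_open_le {U : Y.Opens} (hU : IsAffineOpen U) {y : P} (hy : p y ∈ U) {O : P.Opens} (hyO : y ∈ O) :
    ∃ (d : ℕ) (f : 𝒮.presheaf.obj (op U)), 0 < d ∧ f ∈ 𝒮.deg U hU d ∧
      y ∈ RelProj.emb p chart U hU ''ᵁ Proj.basicOpen (𝒮.deg U hU) f ∧
      RelProj.emb p chart U hU ''ᵁ Proj.basicOpen (𝒮.deg U hU) f ≤ O := by
  obtain ⟨w, rfl⟩ := ProjQMapX.exists_emb_eq (chart := chart) U hU hy
  obtain ⟨d, f, hd, hf, hwf, hle⟩ := exists_basicOpen_le (O := RelProj.emb p chart U hU ⁻¹ᵁ O) (w := w) hyO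
  exact ⟨d, f, hd, hf, ⟨w, hwf, rfl⟩, by rintro _ ⟨v, hv, rfl⟩; exact hle hv⟩

end Groth.Agent.RLPsi35
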