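import Groth.Agent.RLPsi35.Ext
import Groth.Agent.RLPsi35.Crit
import Groth.Agent.AmpleX.Rel

/-!
`r_{L,σ}` for the algebra of all direct images of the powers of an invertible module.
-/

universe u

set_option backward.isDefEq.respectTransparency false
set_option backward.isDefEq.respectTransparency.types false

open CategoryTheory CategoryTheory.Limits AlgebraicGeometry TopologicalSpace Opposite
open Groth.Agent.QCoh

noncomputable section

namespace Groth.Agent.RLPsi35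

open AModX AmpleX

variable {Y X : Scheme.{u}} {q : X ⟶ Y} {L : X.Modules} (hL : PicF.IsInvertible L) (hLq : Coh.IsQCoh L)
  {𝒮L : RelProj.QCGrAlg X} {j : L ⟶ 𝒮L.toModule} (hj : RelProj.IsGrSymAlg L 𝒮L j)
  {𝒜 : RelProj.QCGrAlg Y} (u : RelProj.QGrHom q 𝒜 𝒮L)

lemma rB_app {U : Y.Opens} {W : X.Opens} (h : W ≤ q ⁻¹ᵁ U) (s : 𝒜.presheaf.obj (op U)) :
    rB 𝒮L.toQCAlg h ((u.app U).hom s) = (u.appLE U W h).hom s := rfl

lemma app_mem_degSub {U : Y.Opens} (hU : IsAffineOpen U) {n : ℕ} {s : 𝒜.presheaf.obj (op U)}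
    (hs : s ∈ 𝒜.deg U hU n) :
    (show Γ(𝒮L.toQCAlg.toModule, q ⁻¹ᵁ U) from (u.app U).hom s) ∈ (degSub 𝒮L n).mem (q ⁻¹ᵁ U) :=
  fun V hV h => u.map_mem U hU V hV h hs

lemma mem_deg_of_app_mem {U : Y.Opens} (hU : IsAffineOpen U) (hinj : Function.Injective (u.app U).hom)
    {n : ℕ} {s : 𝒜.presheaf.obj (op U)}
    (hs : (show Γ(𝒮L.toQCAlg.toModule, q ⁻¹ᵁ U) from (u.app U).hom s) ∈ (degSub 𝒮L n).mem (q ⁻¹ᵁ U)) :
    s ∈ 𝒜.deg U hU n := by
  suffices h : s = GradedRing.proj (𝒜.deg U hU) n s by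
    rw [h, GradedRing.proj_apply]
    exact SetLike.coe_mem _
  refine hinj (eq_of_locally_alg 𝒮L _ _ fun x hx => ?_)
  obtain ⟨_, ⟨V, hV₀, rfl⟩, hxV, hle⟩ := X.isBasis_affineOpens.exists_subset_of_mem_open hx (q ⁻¹ᵁ U).2
  have hV : IsAffineOpen V := hV₀
  refine ⟨V, hle, hxV, ?_⟩
  have h1 : GradedRing.proj (𝒮L.deg V hV) n (u.gradedAt U hU V hV hle s) =
      u.gradedAt U hU V hV hle (GradedRing.proj (𝒜.deg U hU) n s) :=
    ConeLib35.proj_map (u.gradedAt U hU V hV hle) n s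
  refine Eq.trans ?_ h1
  exact (Proj16.proj_of_mem _ (hs V hV hle)).symm

variable {PL : Scheme.{u}} {pL : PL ⟶ X}
  {chartL : ∀ (U : X.Opens) (hU : IsAffineOpen U), (((pL ⁻¹ᵁ U : PL.Opens) : Scheme.{u}) ≅ Proj (𝒮L.deg U hU))}
  (hPL : RelProj.IsRelProj 𝒮L pL chartL)
  {P : Scheme.{u}} {p : P ⟶ Y}
  {chart : ∀ (U : Y.Opens) (hU : IsAffineOpen U), (((p ⁻¹ᵁ U : P.Opens) : Scheme.{u}) ≅ Proj (𝒜.deg U hU))}
  (hP : RelProj.IsRelProj 𝒜 p chart)
  {r : ((RelProj.domQ u pL chartL : PL.Opens) : Scheme.{u}) ⟶ P}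
  (hr : RelProj.IsProjQMapOn u p chart pL chartL (RelProj.domQ u pL chartL) r)

include hL hLq hj hPL in
lemma exists_hit_of_injective {U : Y.Opens} {hU : IsAffineOpen U} (hinj : Function.Injective (u.app U).hom)
    (hc : IsCompact ((q ⁻¹ᵁ U : X.Opens) : Set X)) {n : ℕ} (hn : 0 < n) {s : 𝒜.presheaf.obj (op U)}
    (hs : s ∈ 𝒜.deg U hU n) (hnil : ¬ IsNilpotent s) : ∃ z, Hit u pL chartL U hU s z := by
  classical
  obtain ⟨S, hS⟩ := exists_finite_frames hL hc
  by_contra hno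
  have h : ∀ a : {a : Fr L // a.U ≤ q ⁻¹ᵁ U}, IsNilpotent ((u.appLE U a.1.U a.2).hom s) := fun a => by
    by_contra ha
    exact hno (exists_hit_of_not_isNilpotent hLq hj hPL hL hn hs a.1.1.2 a.1.2.2 a.2 ha)
  choose k hk using h
  refine hnil ⟨S.sup k, hinj ((eq_of_locally_alg 𝒮L _ _ fun x hx => ?_).trans (map_zero _).symm)⟩
  obtain ⟨a, ha, hxa⟩ := hS x hx
  refine ⟨_, a.2, hxa, ?_⟩
  rw [rB_app, map_zero, map_pow]
  exact pow_eq_zero_of_le (Finset.le_sup ha) (hk a)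

include hL hLq hj hPL hP hr in
/-- Dominance. -/
theorem isDominant_of_injective [QuasiCompact q]
    (hu : ∀ U : Y.Opens, IsAffineOpen U → Function.Injective (u.app U).hom) : IsDominant r :=
  (isDominant_iff_hit hP hPL hr).mpr fun U hU _ _ hd hs hnil =>
    exists_hit_of_injective hL hLq hj u hPL (hu U hU) (q.isCompact_preimage hU.isCompact) hd hs hnil

include hL hLq hj hPL hP hr in
/-- For an ample module: everywhere defined and an open immersion. -/
theorem isOpenImmersion_of_relAmple [QuasiCompact q]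
    (hu : ∀ U : Y.Opens, IsAffineOpen U → Function.Bijective (u.app U).hom)
    (h : RelAmple.IsRelAmple q L) : RelProj.domQ u pL chartL = ⊤ ∧ IsOpenImmersion r := by
  have := isIso_pL hLq hj hPL hL
  have : IsSeparated q := AmpleX.isSeparated_of_ampleOn fun x => AmpleX.ampleOn_of_isRelAmple h (q x)
  have key : ∀ x : X, ∃ c : Piece u pL chartL, x ∈ c.V ∧ c.Cond ∧ c.CondInj := fun x => by
    obtain ⟨_, ⟨U, hU₀, rfl⟩, hxU, -⟩ := Y.isBasis_affineOpens.exists_subset_of_mem_open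
      (Set.mem_univ (q x)) isOpen_univ
    have hU : IsAffineOpen U := hU₀
    obtain ⟨m, hm, a, hxa, -, ha⟩ := exists_sections_of_isRelAmple h hU hxU (U := ⊤) trivial
    obtain ⟨s, hs⟩ := (hu U hU).2 (pw hL j a)
    have hsm : s ∈ 𝒜.deg U hU m := mem_deg_of_app_mem u hU (hu U hU).1 (by rw [hs]; exact pw_mem hL hj a)
    refine ⟨⟨U, hU, m, hm, s, hsm, locus a, ha, locus_le a,
      hit_iff_locus hL hLq hj hPL hP hm hsm hs.symm⟩, hxa, fun t => ?_, fun k hk s' hs' h0 => ?_⟩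
    · obtain ⟨N, T, hN, hT, hTa⟩ := exists_pw_extend hL hLq hj (q.isCompact_preimage hU.isCompact)
        (q.isQuasiSeparated_preimage hU.isQuasiSeparated) a t
      obtain ⟨s', rfl⟩ := (hu U hU).2 T
      refine ⟨N, hN, s', mem_deg_of_app_mem u hU (hu U hU).1 hT, ?_⟩
      rw [← hs, rB_app, rB_app] at hTa
      exact hTa.symm
    · obtain ⟨M, hM⟩ := exists_pw_pow_mul_eq_zero hL hLq hj (q.isCompact_preimage hU.isCompact) a
        (app_mem_degSub u hU hs') ((rB_app u (locus_le a) s').trans h0)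
      refine ⟨M + 1, M.succ_pos, (hu U hU).1 ?_⟩
      rw [map_mul, map_pow, map_zero, hs]
      exact hM _ M.le_succ
  choose c hxc hc using key
  exact Piece.isOpenImmersion_of_cover hP hPL hr c (fun z => ⟨pL z, hxc _⟩) fun x => hc x

include hL hLq hj hPL hP hr in
/-- The converse: an everywhere defined embedding makes the module ample. -/
theorem isRelAmple_of_isEmbedding [QuasiCompact q] (htop : RelProj.domQ u pL chartL = ⊤)
    (hemb : Topology.IsEmbedding r.base) : RelAmple.IsRelAmple q L := by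
  have := isIso_pL hLq hj hPL hL
  refine AmpleX.isRelAmple_of_sections hL fun x => ?_
  obtain ⟨_, ⟨U, hU₀, rfl⟩, hxU, -⟩ := Y.isBasis_affineOpens.exists_subset_of_mem_open
    (Set.mem_univ (q x)) isOpen_univ
  have hU : IsAffineOpen U := hU₀
  refine ⟨U, hxU, q.isCompact_preimage hU.isCompact, fun x' hx' => ?_⟩
  obtain ⟨V, hV, t, ht, hxV, hVU⟩ := exists_affine_frame hL (show x' ∈ q ⁻¹ᵁ U from hx')
  obtain ⟨z, rfl⟩ := pL.surjective x'
  let zz : (RelProj.domQ u pL chartL : PL.Opens) := ⟨z, htop ▸ trivial⟩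
  obtain ⟨O, hO, hOV⟩ := hemb.isInducing.isOpen_iff.mp
    (((RelProj.domQ u pL chartL).ι ≫ pL) ⁻¹ᵁ V).2
  have hzO : r zz ∈ (⟨O, hO⟩ : P.Opens) := (hOV.ge (show _ from hxV) : zz ∈ r.base ⁻¹' O)
  have hzU : p (r zz) ∈ U := by
    rw [← Scheme.Hom.comp_apply, ProjQMapX.isProjQMapOn_comp hP hPL hr]
    exact hx'
  obtain ⟨d, f, hd, hf, hzf, hle⟩ := exists_open_le (chart := chart) hU hzU hzO
  obtain ⟨a, ha⟩ := exists_pw_eq hL hLq hj (app_mem_degSub u hU hf)
  have hH := hit_iff_locus hL hLq hj hPL hP hd hf ha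
  refine ⟨d, hd, a, (hH z).mp ((hit_iff_apply_mem hP hPL hr hU hd hf zz).mpr hzf), ?_⟩
  have haV : locus a ≤ V := fun y hy => by
    obtain ⟨z', rfl⟩ := pL.surjective y
    have hz' := (hit_iff_apply_mem hP hPL hr hU hd hf ⟨z', htop ▸ trivial⟩).mp ((hH z').mpr hy)
    exact hOV.le (show (⟨z', htop ▸ trivial⟩ : (RelProj.domQ u pL chartL : PL.Opens)) ∈ r.base ⁻¹' O from hle hz')
  obtain ⟨c, hc⟩ := (isFrame_powElt ht d).exists_coord le_rfl (res _ hVU a)
  rw [res_self] at hc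
  rw [← inf_eq_left.mpr haV, locus_frame hVU ht hc]
  exact hV.basicOpen c

end Groth.Agent.RLPsi35
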