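import Groth.Agent.RLPsi35.TwFrame
import Groth.Agent.RLPsi35.Ample
import Groth.Agent.InvX.GenLocusPull
import Groth.Agent.ProjPt.Sections
import Groth.Agent.DivX.MeroMod

/-!
The inverse image of a twisting sheaf under `r_{L,ψ}`.
-/

universe u

set_option backward.isDefEq.respectTransparency false
set_option backward.isDefEq.respectTransparency.types false

open CategoryTheory CategoryTheory.Limits AlgebraicGeometry TopologicalSpace Opposite
open HomogeneousLocalization Groth.Agent.QCoh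
open scoped HomogeneousIdeal

noncomputable section

namespace Groth.Agent.RLPsi35

open AModX AmpleX

lemma injective_appLE_top {A B : Scheme.{u}} (l : A ⟶ B) [IsOpenImmersion l] {O : B.Opens}
    (h : l.opensRange = O) (e : (⊤ : A.Opens) ≤ l ⁻¹ᵁ O) : Function.Injective (l.appLE O ⊤ e) := by
  subst h
  obtain ⟨O, hO⟩ : ∃ O, O = l ''ᵁ ⊤ := ⟨_, rfl⟩
  have h2 : l.opensRange = l ''ᵁ ⊤ := l.image_top_eq_opensRange.symm
  revert e
  rw [h2]
  intro e
  rw [← Scheme.Hom.appIso_hom']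
  exact ((ConcreteCategory.isIso_iff_bijective _).1 inferInstance).1

variable {X Y : Scheme.{u}} {q : X ⟶ Y} {L : X.Modules} (hLq : Coh.IsQCoh L)
  {𝒮L : RelProj.QCGrAlg X} {j : L ⟶ 𝒮L.toModule} (hj : RelProj.IsGrSymAlg L 𝒮L j)
  {𝒜 : RelProj.QCGrAlg Y} {u : RelProj.QGrHom q 𝒜 𝒮L}
  {PL : Scheme.{u}} {pL : PL ⟶ X}
  {chartL : ∀ (U : X.Opens) (hU : IsAffineOpen U), (((pL ⁻¹ᵁ U : PL.Opens) : Scheme.{u}) ≅ Proj (𝒮L.deg U hU))}
  (hPL : RelProj.IsRelProj 𝒮L pL chartL)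
  {P : Scheme.{u}} {p : P ⟶ Y}
  {chart : ∀ (U : Y.Opens) (hU : IsAffineOpen U), (((p ⁻¹ᵁ U : P.Opens) : Scheme.{u}) ≅ Proj (𝒜.deg U hU))}
  (hP : RelProj.IsRelProj 𝒜 p chart)
  {r : ((RelProj.domQ u pL chartL : PL.Opens) : Scheme.{u}) ⟶ P}
  (hr : RelProj.IsProjQMapOn u p chart pL chartL (RelProj.domQ u pL chartL) r)

include hLq hj hPL in
/-- A section that is nonvanishing everywhere over a frame is a unit multiple of the power of the frame. -/
lemma exists_unit_coord (hP : RelProj.IsRelProj 𝒜 p chart) {U : Y.Opens} {hU : IsAffineOpen U} {D : ℕ}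
    (hD : 0 < D) {f : 𝒜.presheaf.obj (op U)} (hf : f ∈ 𝒜.deg U hU D) {V : X.Opens} (hV : IsAffineOpen V)
    (hle : V ≤ q ⁻¹ᵁ U) {t : Γ(L, V)} (ht : InvX.IsFrame t)
    (hH : ∀ z : PL, pL z ∈ V → Hit u pL chartL U hU f z) :
    ∃ c : Γ(X, V), IsUnit c ∧
      (u.appLE U V hle).hom f = (𝒮L.str.app (op V)).hom c * LineCone35.elt j t ^ D := by
  obtain ⟨c, hc⟩ := LineCone35.exists_of_mem_deg j hLq hj hV ht D _ (u.map_mem U hU V hV hle hf)
  have hc' : (u.appLE U V hle).hom f = _ := hc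
  refine ⟨c, ?_, hc'⟩
  have htop : X.basicOpen c = V := by
    refine le_antisymm (X.basicOpen_le c) fun y hy => ?_
    have := isIso_morphismRestrict_frame hLq hj hV ht hPL
    obtain ⟨w', hw'⟩ := (pL ∣_ V).surjective ⟨y, hy⟩
    obtain ⟨w, hw⟩ := ProjQMapX.exists_emb_eq (chart := chartL) V hV (show pL ((pL ⁻¹ᵁ V).ι w') ∈ V from w'.2)
    have hyw : pL (RelProj.emb pL chartL V hV w) = y := by
      rw [hw, ← Scheme.Hom.comp_apply, ← morphismRestrict_ι, Scheme.Hom.comp_apply, hw']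
      rfl
    have h1 := (hit_emb_iff hP hPL hD hf V hV hle w).mp (hH _ (hyw ▸ hy))
    rw [show u.gradedAt U hU V hV hle f = _ from hc', mem_basicOpen_iff hLq hj hV ht hPL hD c w, hyw] at h1
    exact h1
  have := RingedSpace.isUnit_res_basicOpen X.toLocallyRingedSpace.toRingedSpace c
  have hmap : (X.presheaf.map (homOfLE (X.basicOpen_le c)).op).hom c =
      (X.presheaf.map (eqToHom htop).op).hom c := rfl
  exact isUnit_of_map_unit (X.presheaf.map (eqToHom htop).op).hom c (hmap ▸ this)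

include hLq hj hPL hr in
/-- The pullback of a function on a standard open. -/
theorem app_fn_eq {U : Y.Opens} (hU : IsAffineOpen U) {D : ℕ} (hD : 0 < D)
    {f a : 𝒜.presheaf.obj (op U)} (hf : f ∈ 𝒜.deg U hU D) (ha : a ∈ 𝒜.deg U hU (1 • D))
    {V : X.Opens} (hV : IsAffineOpen V) (hle : V ≤ q ⁻¹ᵁ U) {t : Γ(L, V)} (ht : InvX.IsFrame t)
    {c : Γ(X, V)} (hc : IsUnit c)
    (hfc : (u.appLE U V hle).hom f = (𝒮L.str.app (op V)).hom c * LineCone35.elt j t ^ D)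
    {h : Γ(X, V)} (hh : (u.appLE U V hle).hom a = (𝒮L.str.app (op V)).hom h * (u.appLE U V hle).hom f)
    (hO : ((RelProj.domQ u pL chartL).ι ≫ pL) ⁻¹ᵁ V ≤
      r ⁻¹ᵁ (RelProj.emb p chart U hU ''ᵁ Proj.basicOpen (𝒜.deg U hU) f)) :
    resR hO (r.app _ (fn p chart U hU f (Away.mk (𝒜.deg U hU) hf 1 a ha))) =
      ((RelProj.domQ u pL chartL).ι ≫ pL).app V h := by
  let c₀ : ProjQMapX.Chart u := ⟨U, hU, V, hV, hle, D, hD, f, hf⟩
  set Φ := (RelProj.domQ u pL chartL).ι ≫ pL with hΦ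
  let l := c₀.lift pL chartL
  have hw : ∀ w : Proj (𝒮L.deg V hV), w ∈ Proj.basicOpen (𝒮L.deg V hV) (u.gradedAt U hU V hV hle f) := fun w => by
    rw [show u.gradedAt U hU V hV hle f = _ from hfc, mem_basicOpen_iff hLq hj hV ht hPL hD c w,
      X.basicOpen_of_isUnit hc]
    exact ProjQMapX.emb_mem V hV w
  have hrange : l.opensRange = Φ ⁻¹ᵁ V := by
    refine Opens.ext (Set.ext fun x => ?_)
    refine ((ProjQMapX.mem_range_lift u).trans ProjQMapX.Chart.mem_range_emb).trans ⟨?_, fun hx => ?_⟩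
    · rintro ⟨w, -, hwx⟩
      show pL ((RelProj.domQ u pL chartL).ι x) ∈ V
      rw [← hwx]
      exact ProjQMapX.emb_mem V hV w
    · obtain ⟨w, hwx⟩ := ProjQMapX.exists_emb_eq (chart := chartL) V hV (show pL _ ∈ V from hx)
      exact ⟨w, hw w, hwx⟩
  have el : (⊤ : c₀.src.Opens) ≤ l ⁻¹ᵁ (Φ ⁻¹ᵁ V) := fun x _ => hrange.le ⟨x, rfl⟩
  refine injective_appLE_top l hrange el ?_
  let ψ := u.gradedAt U hU V hV hle
  let O := RelProj.emb p chart U hU ''ᵁ Proj.basicOpen (𝒜.deg U hU) f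
  -- the two morphisms out of the chart
  have hlr : l ≫ r = (Spec.map (CommRingCat.ofHom (Away.map ψ f)) ≫ Proj.awayι (𝒜.deg U hU) f hf hD) ≫
      RelProj.emb p chart U hU := by
    rw [(ProjQMapX.isProjQMapOn_iff u).mp hr c₀, Category.assoc]
    rfl
  have hlΦ : l ≫ Φ = Spec.map (CommRingCat.ofHom
      (ProjBC35.baseToAway (𝒮L.str.app (op V)).hom (𝒮L.str_mem V hV) (ψ f))) ≫ hV.fromSpec := by
    rw [hΦ, c₀.lift_ι_assoc]
    exact ProjBC35.awayι_emb_comp hPL V hV hD _ ((u.gradedAt U hU V hV hle).2 hf)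
  have e1 : (⊤ : (Spec (CommRingCat.of (Away (𝒜.deg U hU) f))).Opens) ≤
      Proj.awayι (𝒜.deg U hU) f hf hD ⁻¹ᵁ Proj.basicOpen (𝒜.deg U hU) f := by
    rw [← Proj.opensRange_awayι (𝒜.deg U hU) f hf hD, Scheme.Hom.preimage_opensRange]
  have e2 : (⊤ : c₀.src.Opens) ≤ (Spec.map (CommRingCat.ofHom (Away.map ψ f)) ≫
      Proj.awayι (𝒜.deg U hU) f hf hD) ⁻¹ᵁ Proj.basicOpen (𝒜.deg U hU) f :=
    fun x _ => e1 (show Spec.map (CommRingCat.ofHom (Away.map ψ f)) x ∈ (⊤ : Opens _) from trivial)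
  have L1 : l.appLE (Φ ⁻¹ᵁ V) ⊤ el (resR hO (r.app O (fn p chart U hU f (Away.mk (𝒜.deg U hU) hf 1 a ha)))) =
      (Scheme.ΓSpecIso _).inv (Away.map ψ f (Away.mk (𝒜.deg U hU) hf 1 a ha)) := by
    show ((r.app O ≫ ((RelProj.domQ u pL chartL : PL.Opens) : Scheme.{u}).presheaf.map (homOfLE hO).op) ≫ l.appLE (Φ ⁻¹ᵁ V) ⊤ el).hom _ = _
    rw [Category.assoc, Scheme.Hom.map_appLE, Scheme.Hom.app_eq_appLE, Scheme.Hom.appLE_comp_appLE]
    simp only [hlr]
    rw [← Scheme.Hom.appLE_comp_appLE _ _ _ (Proj.basicOpen (𝒜.deg U hU) f) _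
      ((RelProj.emb p chart U hU).preimage_image_eq _).ge e2,
      ← Scheme.Hom.appLE_comp_appLE _ _ _ ⊤ _ e1 le_top, CommRingCat.comp_apply, CommRingCat.comp_apply]
    rw [app_fn (p := p) (chart := chart) U hU f _ le_rfl ((RelProj.emb p chart U hU).preimage_image_eq _).ge]
    rw [show (homOfLE (le_refl (Proj.basicOpen (𝒜.deg U hU) f))).op = 𝟙 _ from rfl, CategoryTheory.Functor.map_id]
    show (Spec.map _).appLE ⊤ ⊤ le_top ((Proj.awayι _ _ _ _).appLE _ ⊤ e1 ((Proj.awayToSection _ f).hom _)) = _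
    rw [← CommRingCat.comp_apply (Proj.awayToSection (𝒜.deg U hU) f), ProjPt.awayι_appLE _ hf hD e1,
      ← CommRingCat.comp_apply]
    have : (Spec.map (CommRingCat.ofHom (Away.map ψ f))).appLE ⊤ ⊤ le_top =
        (Spec.map (CommRingCat.ofHom (Away.map ψ f))).appTop := (Scheme.Hom.app_eq_appLE _).symm
    rw [this, ← Scheme.ΓSpecIso_inv_naturality]
    rfl
  have L2 : l.appLE (Φ ⁻¹ᵁ V) ⊤ el (Φ.app V h) =
      (Scheme.ΓSpecIso _).inv (ProjBC35.baseToAway (𝒮L.str.app (op V)).hom (𝒮L.str_mem V hV) (ψ f) h) := by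
    rw [← CommRingCat.comp_apply, Scheme.Hom.app_eq_appLE, Scheme.Hom.appLE_comp_appLE]
    simp only [hlΦ]
    rw [← Scheme.Hom.appLE_comp_appLE _ _ _ ⊤ _ (fun x _ => hV.fromSpec_preimage_self.ge trivial) le_top]
    have h1 : hV.fromSpec.appLE V ⊤ (fun x _ => hV.fromSpec_preimage_self.ge trivial) = (Scheme.ΓSpecIso _).inv := by
      rw [Scheme.Hom.appLE, hV.fromSpec_app_self, Category.assoc, ← Functor.map_comp]
      exact (congrArg (_ ≫ ·) ((Spec Γ(X, V)).presheaf.map_id _)).trans (Category.comp_id _)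
    have h2 : (Spec.map (CommRingCat.ofHom
        (ProjBC35.baseToAway (𝒮L.str.app (op V)).hom (𝒮L.str_mem V hV) (ψ f)))).appLE ⊤ ⊤ le_top =
        (Spec.map (CommRingCat.ofHom
          (ProjBC35.baseToAway (𝒮L.str.app (op V)).hom (𝒮L.str_mem V hV) (ψ f)))).appTop :=
      (Scheme.Hom.app_eq_appLE _).symm
    rw [h1, h2, ← Scheme.ΓSpecIso_inv_naturality]
    rfl
  rw [L1, L2]
  congr 1
  refine val_injective _ ?_
  rw [Away.map_mk, Away.val_mk, ProjBC35.val_baseToAway, ← Localization.mk_one_eq_algebraMap,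
    Localization.mk_eq_mk_iff, Localization.r_iff_exists]
  refine ⟨1, ?_⟩
  have hh' : ψ a = (𝒮L.str.app (op V)).hom h * ψ f := hh
  simp [hh', mul_comm]

variable (hL : PicF.IsInvertible L) {n : ℕ}

/-- A fraction with a value on an affine open of `X`. -/
structure FJ (u : RelProj.QGrHom q 𝒜 𝒮L) (pL : PL ⟶ X)
    (chartL : ∀ (U : X.Opens) (hU : IsAffineOpen U), (((pL ⁻¹ᵁ U : PL.Opens) : Scheme.{u}) ≅ Proj (𝒮L.deg U hU)))
    (hL : PicF.IsInvertible L) (j : L ⟶ 𝒮L.toModule) (n : ℕ) where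
  c : FI 𝒜 (n : ℤ)
  V : X.Opens
  hV : IsAffineOpen V
  hle : V ≤ q ⁻¹ᵁ c.U
  ha : ∀ z : PL, pL z ∈ V → Hit u pL chartL c.U c.hU c.a z
  hs : ∀ z : PL, pL z ∈ V → Hit u pL chartL c.U c.hU c.s z
  σ : Γ(CohB1.tensorPow L n, V)
  hσ : pw hL j σ * (u.appLE c.U V hle).hom c.s = (u.appLE c.U V hle).hom c.a

include hLq hj hPL in
/-- Existence of the value of an invertible fraction. -/
lemma exists_value (hP : RelProj.IsRelProj 𝒜 p chart) (c : FI 𝒜 (n : ℤ)) {V : X.Opens}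
    (hV : IsAffineOpen V) (hle : V ≤ q ⁻¹ᵁ c.U) {t : Γ(L, V)} (ht : InvX.IsFrame t)
    (ha : ∀ z : PL, pL z ∈ V → Hit u pL chartL c.U c.hU c.a z)
    (hs : ∀ z : PL, pL z ∈ V → Hit u pL chartL c.U c.hU c.s z) :
    ∃ σ : Γ(CohB1.tensorPow L n, V), InvX.IsFrame σ ∧
      pw hL j σ * (u.appLE c.U V hle).hom c.s = (u.appLE c.U V hle).hom c.a := by
  obtain ⟨α, hα, hα'⟩ := exists_unit_coord hLq hj hPL hP c.hi c.ha hV hle ht ha
  obtain ⟨β, hβ, hβ'⟩ := exists_unit_coord hLq hj hPL hP c.hj c.hs hV hle ht hs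
  refine ⟨(α * (hβ.unit⁻¹ : (_)ˣ)) • powElt t n, (isFrame_powElt ht n).isUnit_smul (hα.mul (Units.isUnit _)), ?_⟩
  have hij : c.i = n + c.j := by have := c.deg_eq; omega
  calc pw hL j ((α * (hβ.unit⁻¹ : (_)ˣ)) • powElt t n) * (u.appLE c.U V hle).hom c.s
      = (𝒮L.str.app (op V)).hom (α * ((hβ.unit⁻¹ : (_)ˣ) * β)) * (LineCone35.elt j t ^ n * LineCone35.elt j t ^ c.j) := by
        rw [pw_frame_smul hL hV ht, hβ']
        simp only [map_mul]
        ring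
    _ = (u.appLE c.U V hle).hom c.a := by rw [hβ.val_inv_mul, mul_one, ← pow_add, ← hij, hα']

variable {On : P.Modules}
  {lam : ∀ (U : Y.Opens) (hU : IsAffineOpen U),
    On ⟶ (Scheme.Modules.pushforward (RelProj.emb p chart U hU)).obj (GrTwist.twist (𝒜.deg U hU) (n : ℤ))}
  (hOn : RelProj.IsRelTwist 𝒜 p chart (n : ℤ) On lam)

include hLq hj hPL hP hr hOn in
/-- Where fractions of degree `n` have invertible values, the inverse image of `O(n)` is the tensor power. -/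
theorem nonempty_pullback_iso
    (hcov : ∀ z : (RelProj.domQ u pL chartL : PL.Opens), ∃ J : FJ u pL chartL hL j n,
      pL ((RelProj.domQ u pL chartL).ι z) ∈ J.V) :
    Nonempty ((Scheme.Modules.pullback r).obj On ≅
      (Scheme.Modules.pullback ((RelProj.domQ u pL chartL).ι ≫ pL)).obj (CohB1.tensorPow L n)) := by
  set Φ := (RelProj.domQ u pL chartL).ι ≫ pL with hΦ
  have := isIso_pL hLq hj hPL hL
  let Ω : FJ u pL chartL hL j n → ((RelProj.domQ u pL chartL : PL.Opens) : Scheme.{u}).Opens :=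
    fun J => Φ ⁻¹ᵁ J.V ⊓ r ⁻¹ᵁ J.c.op p chart
  have hmem : ∀ (J : FJ u pL chartL hL j n) z, Φ z ∈ J.V → z ∈ r ⁻¹ᵁ J.c.op p chart := fun J z hz => by
    obtain ⟨w, hw1, hw2⟩ := (hit_iff_apply_mem hP hPL hr J.c.hU J.c.hi J.c.ha z).mp (J.ha _ hz)
    obtain ⟨w', hw1', hw2'⟩ := (hit_iff_apply_mem hP hPL hr J.c.hU J.c.hj J.c.hs z).mp (J.hs _ hz)
    obtain rfl : w' = w := (RelProj.emb p chart J.c.U J.c.hU).isOpenEmbedding.injective (hw2'.trans hw2.symm)
    exact ⟨w', ⟨hw1, hw1'⟩, hw2⟩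
  have hσf : ∀ J : FJ u pL chartL hL j n, InvX.IsFrame J.σ := fun J => by
    refine InvX.isFrame_of_germ fun y hy => ?_
    obtain ⟨W, hW, t, ht, hyW, hWV⟩ := exists_affine_frame hL hy
    obtain ⟨τ, hτ, hτ'⟩ := exists_value hLq hj hPL hL hP J.c hW (hWV.trans J.hle) ht
      (fun z hz => J.ha z (hWV hz)) (fun z hz => J.hs z (hWV hz))
    obtain ⟨β, hβ, hβ'⟩ := exists_unit_coord hLq hj hPL hP J.c.hj J.c.hs hW (hWV.trans J.hle) ht
      (fun z hz => J.hs z (hWV hz))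
    have hβT : (u.appLE J.c.U W (hWV.trans J.hle)).hom J.c.s = _ := hβ'
    have e : res _ hWV J.σ = τ := by
      obtain ⟨γ, hγ⟩ := (isFrame_powElt ht n).exists_coord le_rfl (res _ hWV J.σ)
      obtain ⟨δ, hδ⟩ := (isFrame_powElt ht n).exists_coord le_rfl τ
      rw [res_self] at hγ hδ
      have h1 := congrArg (rB 𝒮L.toQCAlg hWV) J.hσ
      rw [map_mul, pw_res, ← rB_app, ← rB_app, CExt24.rB_rB, CExt24.rB_rB, rB_app, rB_app, hγ, ← hτ', hδ, hβT,
        pw_frame_smul hL hW ht, pw_frame_smul hL hW ht] at h1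
      have h2 : γ * β = δ * β := sub_eq_zero.mp (LineCone35.eq_zero_of_mul_pow j hLq hj hW ht _ (n + J.c.j) (by
        rw [map_sub, map_mul, map_mul, sub_mul, sub_eq_zero, pow_add]
        linear_combination h1))
      rw [hγ, hδ, hβ.mul_left_inj.mp h2]
    have hb := (hτ.germ_bijective hyW)
    rw [← e, InvX.germ_res'] at hb
    exact hb
  let e : ∀ J, Γ((Scheme.Modules.pullback r).obj On, Ω J) := fun J =>
    res _ inf_le_right (InvX.pullElt r (fr hOn J.c))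
  have he : ∀ J, InvX.IsFrame (e J) := fun J => (InvX.isFrame_pullElt r (isFrame_fr hOn J.c)).res _
  let m : ∀ J, Γ((Scheme.Modules.pullback Φ).obj (CohB1.tensorPow L n), Ω J) := fun J =>
    res _ inf_le_left (InvX.pullElt Φ J.σ)
  have hcov' : ∀ z, ∃ J, z ∈ Ω J := fun z => (hcov z).imp fun J hJ => ⟨hJ, hmem J z hJ⟩
  have hc : ∀ (a b : FJ u pL chartL hL j n) (W : _) (ha : W ≤ Ω a) (hb : W ≤ Ω b) (g : Γ(((RelProj.domQ u pL chartL : PL.Opens) : Scheme.{u}), W)),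
      res _ hb (e b) = g • res _ ha (e a) → res _ hb (m b) = g • res _ ha (m a) := by
    intro a b W hWa hWb g hg
    refine AModX.eq_of_locally _ _ fun z hz => ?_
    have hza := hWa hz
    have hzb := hWb hz
    have hqz : p (r z) = q (Φ z) := by
      rw [← Scheme.Hom.comp_apply, ProjQMapX.isProjQMapOn_comp hP hPL hr]
      rfl
    obtain ⟨U, hU, hzU, -, hba, hbb⟩ := ProjQMapX.exists_affine_basic_inter a.c.hU b.c.hU (O := ⊤)
      (a.hle hza.1) (b.hle hzb.1) trivial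
    have hiA := ProjQMapX.le_of_basic hba
    have hiB := ProjQMapX.le_of_basic hbb
    obtain ⟨V, hV, t, ht, hzV, hVle⟩ := exists_affine_frame hL
      (show Φ z ∈ (a.V ⊓ b.V) ⊓ q ⁻¹ᵁ U from ⟨⟨hza.1, hzb.1⟩, hzU⟩)
    have hVU : V ≤ q ⁻¹ᵁ U := hVle.trans inf_le_right
    have hVa : V ≤ a.V := hVle.trans (inf_le_left.trans inf_le_left)
    have hVb : V ≤ b.V := hVle.trans (inf_le_left.trans inf_le_right)
    let A := a.c.restr hU hiA
    let B := b.c.restr hU hiB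
    let A1 : 𝒜.presheaf.obj (op U) := 𝒜.res a.c.hU hU hiA a.c.a
    let A2 : 𝒜.presheaf.obj (op U) := 𝒜.res a.c.hU hU hiA a.c.s
    let B1 : 𝒜.presheaf.obj (op U) := 𝒜.res b.c.hU hU hiB b.c.a
    let B2 : 𝒜.presheaf.obj (op U) := 𝒜.res b.c.hU hU hiB b.c.s
    have hA1 : A1 ∈ 𝒜.deg U hU a.c.i := A.ha
    have hA2 : A2 ∈ 𝒜.deg U hU a.c.j := A.hs
    have hB1 : B1 ∈ 𝒜.deg U hU b.c.i := B.ha
    have hB2 : B2 ∈ 𝒜.deg U hU b.c.j := B.hs
    -- values on the small open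
    have hres : ∀ (c : FI 𝒜 (n : ℤ)) (i : U ≤ c.U) (hle : V ≤ q ⁻¹ᵁ c.U) (x : 𝒜.presheaf.obj (op c.U)),
        (u.appLE U V hVU).hom (𝒜.res c.hU hU i x) = (u.appLE c.U V hle).hom x := fun c i hle x =>
      congr($(u.toQHom.map_appLE i hVU).hom x)
    have hσ' : ∀ (J : FJ u pL chartL hL j n) (i : U ≤ J.c.U) (hJ : V ≤ J.V),
        pw hL j (res _ hJ J.σ) * (u.appLE U V hVU).hom (J.c.restr hU i).s =
          (u.appLE U V hVU).hom (J.c.restr hU i).a := fun J i hJ => by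
      show _ * (u.appLE U V hVU).hom (𝒜.res J.c.hU hU i J.c.s) = (u.appLE U V hVU).hom (𝒜.res J.c.hU hU i J.c.a)
      rw [hres J.c i (hJ.trans J.hle), hres J.c i (hJ.trans J.hle)]
      have h1 := congrArg (rB 𝒮L.toQCAlg hJ) J.hσ
      rw [map_mul, pw_res, ← rB_app, ← rB_app, CExt24.rB_rB, CExt24.rB_rB] at h1
      exact h1
    have hH : ∀ (J : FJ u pL chartL hL j n) (i : U ≤ J.c.U) (hJ : V ≤ J.V) {d : ℕ} (hd : 0 < d)
        (x : 𝒜.presheaf.obj (op J.c.U)) (hx : x ∈ 𝒜.deg J.c.U J.c.hU d)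
        (hHit : ∀ z', pL z' ∈ J.V → Hit u pL chartL J.c.U J.c.hU x z'),
        ∀ z', pL z' ∈ V → Hit u pL chartL U hU (𝒜.res J.c.hU hU i x) z' := by
      intro J i hJ d hd x hx hHit z' hz'
      obtain ⟨w, rfl⟩ := ProjQMapX.exists_emb_eq (chart := chartL) V hV hz'
      have h1 := (hit_emb_iff hP hPL hd hx V hV (hJ.trans J.hle) w).mp (hHit _ (hJ hz'))
      refine ⟨V, hV, hVU, w, rfl, ?_⟩
      rw [u.gradedAt_apply, hres J.c i (hJ.trans J.hle)]
      exact h1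
    obtain ⟨αa, hαa, hαa'⟩ := exists_unit_coord hLq hj hPL hP a.c.hi hA1 hV hVU ht
      (hH a hiA hVa a.c.hi a.c.a a.c.ha a.ha)
    obtain ⟨βa, hβa, hβa'⟩ := exists_unit_coord hLq hj hPL hP a.c.hj hA2 hV hVU ht
      (hH a hiA hVa a.c.hj a.c.s a.c.hs a.hs)
    obtain ⟨αb, hαb, hαb'⟩ := exists_unit_coord hLq hj hPL hP b.c.hi hB1 hV hVU ht
      (hH b hiB hVb b.c.hi b.c.a b.c.ha b.ha)
    obtain ⟨βb, hβb, hβb'⟩ := exists_unit_coord hLq hj hPL hP b.c.hj hB2 hV hVU ht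
      (hH b hiB hVb b.c.hj b.c.s b.c.hs b.hs)
    -- the comparing function
    let D := a.c.i + a.c.j + (b.c.i + b.c.j)
    have hD : 0 < D := by have := a.c.hi; omega
    have hfD : A1 * A2 * (B1 * B2) ∈ 𝒜.deg U hU D :=
      SetLike.mul_mem_graded (SetLike.mul_mem_graded hA1 hA2) (SetLike.mul_mem_graded hB1 hB2)
    have hφ : B1 ^ 2 * A2 ^ 2 ∈ 𝒜.deg U hU (1 • D) := by
      rw [show 1 • D = 2 • b.c.i + 2 • a.c.j by
        have := a.c.deg_eq; have := b.c.deg_eq; simp only [smul_eq_mul]; omega]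
      exact SetLike.mul_mem_graded (SetLike.pow_mem_graded 2 hB1) (SetLike.pow_mem_graded 2 hA2)
    let O := RelProj.emb p chart U hU ''ᵁ Proj.basicOpen (𝒜.deg U hU) (A1 * A2 * (B1 * B2))
    have hOA : O ≤ A.op p chart := by
      rintro _ ⟨w, hw, rfl⟩
      rw [Proj.basicOpen_mul, Proj.basicOpen_mul] at hw
      exact ⟨w, hw.1, rfl⟩
    have hOB : O ≤ B.op p chart := by
      rintro _ ⟨w, hw, rfl⟩
      rw [Proj.basicOpen_mul, Proj.basicOpen_mul (𝒜.deg U hU) B1] at hw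
      exact ⟨w, hw.2, rfl⟩
    have hcoord : res On hOB (fr hOn B) = fn p chart U hU _ (Away.mk (𝒜.deg U hU) hfD 1 _ hφ) •
        res On hOA (fr hOn A) :=
      res_fr_eq_smul hOn A B.hi B.hj B.ha B.hs B.deg_eq rfl hfD hφ hOA hOB
    rw [← res_fr hOn hP a.c hU hba, ← res_fr hOn hP b.c hU hbb, res_res, res_res] at hcoord
    -- the open around `z`
    let cf : Γ(X, V) := αa * βa * (αb * βb)
    have hcf : IsUnit cf := (hαa.mul hβa).mul (hαb.mul hβb)
    have hfc : (u.appLE U V hVU).hom (A1 * A2 * (B1 * B2)) =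
        (𝒮L.str.app (op V)).hom cf * LineCone35.elt j t ^ D := by
      simp only [map_mul, hαa', hβa', hαb', hβb', cf, D, pow_add]
      ring
    have hVO : Φ ⁻¹ᵁ V ≤ r ⁻¹ᵁ O := fun z' hz' => by
      obtain ⟨w, hw⟩ := ProjQMapX.exists_emb_eq (chart := chartL) V hV (show pL _ ∈ V from hz')
      refine (hit_iff_apply_mem hP hPL hr hU hD hfD z').mp ⟨V, hV, hVU, w, hw, ?_⟩
      rw [show u.gradedAt U hU V hV hVU _ = _ from hfc, mem_basicOpen_iff hLq hj hV ht hPL hD cf w, hw,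
        X.basicOpen_of_isUnit hcf]
      exact hz'
    obtain ⟨γa, hγa⟩ := (isFrame_powElt ht n).exists_coord le_rfl (res _ hVa a.σ)
    obtain ⟨γb, hγb⟩ := (isFrame_powElt ht n).exists_coord le_rfl (res _ hVb b.σ)
    rw [res_self] at hγa hγb
    have ha2 : pw hL j (res _ hVa a.σ) * (u.appLE U V hVU).hom A2 = (u.appLE U V hVU).hom A1 := hσ' a hiA hVa
    have hb2 : pw hL j (res _ hVb b.σ) * (u.appLE U V hVU).hom B2 = (u.appLE U V hVU).hom B1 := hσ' b hiB hVb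
    rw [hγa, pw_frame_smul hL hV ht] at ha2
    rw [hγb, pw_frame_smul hL hV ht] at hb2
    obtain ⟨γ, hγ⟩ : ∃ γ, γb = γ * γa := by
      have hu : IsUnit γa := by
        refine isUnit_of_mul_isUnit_left (y := βa) ?_
        have : γa * βa = αa := sub_eq_zero.mp (LineCone35.eq_zero_of_mul_pow j hLq hj hV ht _ a.c.i (by
          rw [map_sub, map_mul, sub_mul, sub_eq_zero, ← hαa', ← ha2, hβa',
            show a.c.i = n + a.c.j by have := a.c.deg_eq; omega]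
          simp only [pow_add]
          ring))
        rwa [this]
      exact ⟨γb * (hu.unit⁻¹ : (_)ˣ), by rw [mul_assoc, hu.val_inv_mul, mul_one]⟩
    have hh : (u.appLE U V hVU).hom (B1 ^ 2 * A2 ^ 2) =
        (𝒮L.str.app (op V)).hom γ * (u.appLE U V hVU).hom (A1 * A2 * (B1 * B2)) := by
      simp only [map_mul, map_pow]
      rw [← ha2, ← hb2, hγ, map_mul]
      ring
    have key := app_fn_eq hLq hj hPL hr hU hD hfD hφ hV hVU ht hcf hfc hh hVO
    -- conclude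
    refine ⟨W ⊓ Φ ⁻¹ᵁ V, inf_le_left, ⟨hz, hzV⟩, ?_⟩
    have hW' : W ⊓ Φ ⁻¹ᵁ V ≤ Φ ⁻¹ᵁ V := inf_le_right
    have h1 := congrArg (fun y => res _ (hW'.trans hVO) (InvX.pullElt r y)) hcoord
    rw [InvX.pullElt_smul, res_smul, ← InvX.res_pullElt, ← InvX.res_pullElt, res_res, res_res,
      ← resR_resR hVO hW', key] at h1
    have h2 := congrArg (res _ (inf_le_left : W ⊓ Φ ⁻¹ᵁ V ≤ W)) hg
    simp only [e, res_smul, res_res] at h2
    have hgγ : resR (inf_le_left : W ⊓ Φ ⁻¹ᵁ V ≤ W) g = resR hW' (Φ.app V γ) :=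
      (InvX.isFrame_pullElt r (isFrame_fr hOn a.c)).coord_unique _
        (((congrArg (_ • ·) (res_res _ _ _)).symm.trans (h2.symm.trans ((res_res _ _ _).trans h1))))
    have hσσ : res _ hVb b.σ = γ • res _ hVa a.σ := by rw [hγa, hγb, hγ, mul_smul]
    have h3 := congrArg (fun y => res _ hW' (InvX.pullElt Φ y)) hσσ
    rw [InvX.pullElt_smul, res_smul, ← InvX.res_pullElt, ← InvX.res_pullElt, res_res, res_res] at h3
    simp only [m, res_smul, res_res, hgγ]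
    exact (res_res _ _ _).trans (h3.trans (congrArg (_ • ·) (res_res _ _ _).symm))
  let φ := InvX.ofFrames hcov' he hc
  have : IsIso φ := DivX.isIso_of_frames φ fun z => by
    obtain ⟨J, hJ⟩ := hcov' z
    exact ⟨Ω J, hJ, e J, he J, by
      rw [InvX.ofFrames_app hcov' he hc J]
      exact (InvX.isFrame_pullElt Φ (hσf J)).res _⟩
  exact ⟨asIso φ⟩

end Groth.Agent.RLPsi35
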