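import Groth.Agent.RLPsi35.Taut
import Groth.Agent.RLPsi35.TwPull
import Groth.Agent.RelTildeX.Props
import Mathlib.AlgebraicGeometry.Cover.Open

/-!
A morphism into `Proj` of an algebra generated in degree one is the `r_{L,ψ}` of its inverse image of `O(1)`.
-/

universe u

set_option backward.isDefEq.respectTransparency false
set_option backward.isDefEq.respectTransparency.types false

open CategoryTheory CategoryTheory.Limits AlgebraicGeometry TopologicalSpace Opposite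
open HomogeneousLocalization
open scoped HomogeneousIdeal

noncomputable section

namespace Groth.Agent.RLPsi35

section ring

variable {A σ : Type u} [CommRing A] [SetLike σ A] [AddSubgroupClass σ A] {𝒜 : ℕ → σ} [GradedRing 𝒜]

/-- Homomorphisms out of a homogeneous localization of a ring generated in degree one. -/
theorem away_ringHom_ext (hgen : Subring.closure ((𝒜 0 : Set A) ∪ (𝒜 1 : Set A)) = ⊤) {e : A} (he : e ∈ 𝒜 1)
    {R : Type*} [CommRing R] {g g' : Away 𝒜 e →+* R}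
    (h : ∀ (x : A) (hx : x ∈ 𝒜 (1 • 1)), g (Away.mk 𝒜 he 1 x hx) = g' (Away.mk 𝒜 he 1 x hx)) : g = g' := by
  classical
  let M : ℕ → AddSubgroup A := fun k =>
    { carrier := {a | ∃ ha : a ∈ 𝒜 (k • 1), g (Away.mk 𝒜 he k a ha) = g' (Away.mk 𝒜 he k a ha)}
      zero_mem' := ⟨zero_mem _, by
        rw [show Away.mk 𝒜 he k 0 (zero_mem _) = 0 from val_injective _ (by
          rw [Away.val_mk, val_zero, Localization.mk_zero]), map_zero, map_zero]⟩
      add_mem' := by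
        rintro a b ⟨ha, ha'⟩ ⟨hb, hb'⟩
        refine ⟨add_mem ha hb, ?_⟩
        rw [show Away.mk 𝒜 he k (a + b) (add_mem ha hb) = Away.mk 𝒜 he k a ha + Away.mk 𝒜 he k b hb from
          val_injective _ (by rw [Away.val_mk, val_add, Away.val_mk, Away.val_mk, Localization.add_mk_self]),
          map_add, map_add, ha', hb']
      neg_mem' := by
        rintro a ⟨ha, ha'⟩
        refine ⟨neg_mem ha, ?_⟩
        rw [show Away.mk 𝒜 he k (-a) (neg_mem ha) = -Away.mk 𝒜 he k a ha from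
          val_injective _ (by rw [Away.val_mk, val_neg, Away.val_mk, Localization.neg_mk]),
          map_neg, map_neg, ha'] }
  let S : AddSubgroup A := ⨅ k, (M k).comap (GradedRing.proj 𝒜 k)
  have hmem : ∀ {a}, a ∈ S ↔ ∀ k, GradedRing.proj 𝒜 k a ∈ M k := by
    intro a
    simp only [S, AddSubgroup.mem_iInf, AddSubgroup.mem_comap]
  have hhom : ∀ (k : ℕ) (a : A), a ∈ 𝒜 k → a ∈ M k → a ∈ S := fun k a hak ha => hmem.mpr fun l => by
    rcases eq_or_ne k l with rfl | hne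
    · rw [GradedRing.proj_apply, DirectSum.decompose_of_mem_same _ hak]; exact ha
    · rw [GradedRing.proj_apply, DirectSum.decompose_of_mem_ne _ hak hne]; exact zero_mem _
  have hall : ∀ a, a ∈ S := fun a => by
    have ha : a ∈ (⊤ : Subring A) := trivial
    rw [← hgen] at ha
    induction ha using Subring.closure_induction with
    | mem y hy =>
      rcases hy with hy | hy
      · refine hhom 0 y hy ⟨by rwa [zero_smul], ?_⟩
        have hye : y * e ∈ 𝒜 (1 • 1) := by simpa using SetLike.mul_mem_graded hy he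
        rw [show Away.mk 𝒜 he 0 y (by rwa [zero_smul]) = Away.mk 𝒜 he 1 (y * e) hye from
          val_injective _ (by
            rw [Away.val_mk, Away.val_mk, Localization.mk_eq_mk_iff, Localization.r_iff_exists]
            exact ⟨1, by simp [mul_comm]⟩)]
        exact h _ hye
      · exact hhom 1 y hy ⟨by rwa [one_smul], h y _⟩
    | zero => exact zero_mem _
    | one =>
      refine hhom 0 1 SetLike.GradedOne.one_mem ⟨by rw [zero_smul]; exact SetLike.GradedOne.one_mem, ?_⟩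
      rw [show Away.mk 𝒜 he 0 1 (by rw [zero_smul]; exact SetLike.GradedOne.one_mem) = 1 from
        val_injective _ (by
          rw [Away.val_mk, val_one, ← Localization.mk_one]
          congr 1
          exact Subtype.ext (pow_zero e)), map_one, map_one]
    | add a b _ _ ha hb => exact add_mem ha hb
    | neg a _ ha => exact neg_mem ha
    | mul a b _ _ ha hb =>
      rw [← DirectSum.sum_support_decompose 𝒜 a, ← DirectSum.sum_support_decompose 𝒜 b, Finset.sum_mul_sum]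
      refine sum_mem fun k _ => sum_mem fun l _ => ?_
      obtain ⟨ha₁, ha₂⟩ := hmem.mp ha k
      obtain ⟨hb₁, hb₂⟩ := hmem.mp hb l
      rw [GradedRing.proj_apply] at ha₁ hb₁
      simp only [GradedRing.proj_apply] at ha₂ hb₂
      have hab := SetLike.mul_mem_graded ((DirectSum.decompose 𝒜 a) k).2 ((DirectSum.decompose 𝒜 b) l).2
      refine hhom (k + l) _ hab ⟨by simpa using hab, ?_⟩
      rw [show Away.mk 𝒜 he (k + l) _ (by simpa using hab) =
          Away.mk 𝒜 he k _ ha₁ * Away.mk 𝒜 he l _ hb₁ from val_injective _ (by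
          rw [Away.val_mk, val_mul, Away.val_mk, Away.val_mk, Localization.mk_mul]
          congr 1
          exact Subtype.ext (pow_add e k l)), map_mul, map_mul, ha₂, hb₂]
  refine RingHom.ext fun q => ?_
  obtain ⟨k, a, ha, rfl⟩ := q.mk_surjective 𝒜 he
  have h0 := hmem.mp (hall a) k
  have e' : GradedRing.proj 𝒜 k a = a := by
    rw [GradedRing.proj_apply, DirectSum.decompose_of_mem_same]
    simpa using ha
  rw [e'] at h0
  exact h0.2

end ring

/-- Morphisms into a scheme with image in an affine open agree if their values on it agree. -/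
lemma hom_ext_affine {A B : Scheme.{u}} (O : B.Opens) (hO : IsAffineOpen O) {f g : A ⟶ B}
    (hf : (⊤ : A.Opens) ≤ f ⁻¹ᵁ O) (hg : (⊤ : A.Opens) ≤ g ⁻¹ᵁ O)
    (h : f.appLE O ⊤ hf = g.appLE O ⊤ hg) : f = g := by
  have : IsAffine O := hO
  have hrange : ∀ {k : A ⟶ B}, (⊤ : A.Opens) ≤ k ⁻¹ᵁ O → Set.range k ⊆ Set.range O.ι := fun {k} hk => by
    rw [Scheme.Opens.range_ι]
    rintro _ ⟨a, rfl⟩
    exact hk (show a ∈ (⊤ : A.Opens) from trivial)
  have key₀ : ∀ (l : A ⟶ O.toScheme) (hk : (⊤ : A.Opens) ≤ (l ≫ O.ι) ⁻¹ᵁ O),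
      O.topIso.inv ≫ l.appTop = (l ≫ O.ι).appLE O ⊤ hk := fun l hk => by
    rw [← Scheme.Hom.appLE_comp_appLE l O.ι O ⊤ ⊤ (fun (x : O.toScheme) _ => (x.2 : x.1 ∈ O)) le_top, Scheme.Opens.ι_appLE]
    show _ ≫ Scheme.Hom.app _ ⊤ = _
    rw [Scheme.Hom.app_eq_appLE]
    rfl
  have key : ∀ {k : A ⟶ B} (hk : (⊤ : A.Opens) ≤ k ⁻¹ᵁ O),
      O.topIso.inv ≫ (IsOpenImmersion.lift O.ι k (hrange hk)).appTop = k.appLE O ⊤ hk := fun {k} hk => by
    have e := IsOpenImmersion.lift_fac O.ι k (hrange hk)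
    rw [key₀ _ (by rw [e]; exact hk)]
    simp only [e]
  rw [← IsOpenImmersion.lift_fac O.ι f (hrange hf), ← IsOpenImmersion.lift_fac O.ι g (hrange hg)]
  congr 1
  refine ext_of_isAffine ?_
  rw [← cancel_epi O.topIso.inv, key hf, key hg, h]

variable {X Y P : Scheme.{u}} {𝒮 : RelProj.QCGrAlg Y} {p : P ⟶ Y}
  {chart : ∀ (U : Y.Opens) (hU : IsAffineOpen U), (((p ⁻¹ᵁ U : P.Opens) : Scheme.{u}) ≅ Proj (𝒮.deg U hU))}
  (hP : RelProj.IsRelProj 𝒮 p chart) {O1 : P.Modules}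
  {lam : ∀ (U : Y.Opens) (hU : IsAffineOpen U),
    O1 ⟶ (Scheme.Modules.pushforward (RelProj.emb p chart U hU)).obj (GrTwist.twist (𝒮.deg U hU) 1)}
  (hO1 : RelProj.IsRelTwist 𝒮 p chart 1 O1 lam)
  {L : X.Modules} (hLq : Coh.IsQCoh L) {𝒮L : RelProj.QCGrAlg X} {jL : L ⟶ 𝒮L.toModule}
  (hjL : RelProj.IsGrSymAlg L 𝒮L jL)
  {PL : Scheme.{u}} {pL : PL ⟶ X}
  {chartL : ∀ (U : X.Opens) (hU : IsAffineOpen U), (((pL ⁻¹ᵁ U : PL.Opens) : Scheme.{u}) ≅ Proj (𝒮L.deg U hU))}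
  (hPL : RelProj.IsRelProj 𝒮L pL chartL)
  (i : X ⟶ P) (θ : L ≅ (Scheme.Modules.pullback i).obj O1)

/-- The section of `L` corresponding to a degree one element. -/
abbrev pullSec {U : Y.Opens} (hU : IsAffineOpen U) {e : 𝒮.presheaf.obj (op U)} (he : e ∈ 𝒮.deg U hU 1) :
    Γ(L, (i ≫ p) ⁻¹ᵁ U) :=
  θ.inv.app (i ⁻¹ᵁ (p ⁻¹ᵁ U)) (InvX.pullElt i (sec1 hO1 hU he))

include hP hO1 hLq hjL hPL in
/-- `i` is the morphism defined by the sections of `L` it gives. -/
theorem eq_comp_of_pullback (hgen : 𝒮.IsGenDegOne) {u : RelProj.QGrHom (i ≫ p) 𝒮 𝒮L}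
    (hu : ∀ (U : Y.Opens) (hU : IsAffineOpen U) (e : 𝒮.presheaf.obj (op U)) (he : e ∈ 𝒮.deg U hU 1),
      (u.app U).hom e = LineCone35.elt jL (pullSec hO1 i θ hU he))
    {r : ((RelProj.domQ u pL chartL : PL.Opens) : Scheme.{u}) ⟶ P}
    (hr : RelProj.IsProjQMapOn u p chart pL chartL (RelProj.domQ u pL chartL) r) :
    RelProj.domQ u pL chartL = ⊤ ∧ r = (RelProj.domQ u pL chartL).ι ≫ pL ≫ i := by
  -- the frames
  have key : ∀ x : X, ∃ (U : Y.Opens) (hU : IsAffineOpen U) (e : 𝒮.presheaf.obj (op U))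
      (he : e ∈ 𝒮.deg U hU 1) (V : X.Opens) (_ : IsAffineOpen V) (hVU : V ≤ (i ≫ p) ⁻¹ᵁ U),
      x ∈ V ∧ V ≤ i ⁻¹ᵁ (RelProj.emb p chart U hU ''ᵁ Proj.basicOpen (𝒮.deg U hU) e) ∧
        InvX.IsFrame (AModX.res L hVU (pullSec hO1 i θ hU he)) := fun x => by
    obtain ⟨_, ⟨U, hU, rfl⟩, hxU, -⟩ := Y.isBasis_affineOpens.exists_subset_of_mem_open
      (Set.mem_univ (p (i x))) isOpen_univ
    obtain ⟨w, hw⟩ := ProjQMapX.exists_emb_eq (chart := chart) U hU hxU
    obtain ⟨e, he, hwe⟩ : ∃ e ∈ 𝒮.deg U hU 1, e ∉ w.asHomogeneousIdeal := by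
      by_contra! hall
      exact w.not_irrelevant_le (show ((𝒮.deg U hU)₊).toIdeal ≤ w.asHomogeneousIdeal.toIdeal from
        RelTildeX.irrelevant_eq_span_deg_one hgen U hU ▸ Ideal.span_le.mpr hall)
    obtain ⟨_, ⟨V, hV, rfl⟩, hxV, hle⟩ := X.isBasis_affineOpens.exists_subset_of_mem_open
      (show x ∈ i ⁻¹ᵁ (RelProj.emb p chart U hU ''ᵁ Proj.basicOpen (𝒮.deg U hU) e) from ⟨w, hwe, hw⟩)
      (i ⁻¹ᵁ (RelProj.emb p chart U hU ''ᵁ Proj.basicOpen (𝒮.deg U hU) e)).2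
    have hVU : V ≤ (i ≫ p) ⁻¹ᵁ U := le_trans hle (i.preimage_mono (preimage_le_of_emb U hU e))
    refine ⟨U, hU, e, he, V, hV, hVU, hxV, hle, ?_⟩
    have h1 := (InvX.isFrame_pullElt i (isFrame_sec1 hO1 hU he)).map_iso θ.symm
    rw [← InvX.res_pullElt, AModX.app_res] at h1
    have h2 := h1.res hle
    rw [AModX.res_res] at h2
    exact h2
  have hL : PicF.IsInvertible L := InvX.isInvertible_of_frames fun x => by
    obtain ⟨U, hU, e, he, V, -, hVU, hxV, -, hf⟩ := key x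
    exact ⟨V, hxV, _, hf⟩
  have := isIso_pL hLq hjL hPL hL
  set Φ := (RelProj.domQ u pL chartL).ι ≫ pL with hΦ
  have happ : ∀ {U : Y.Opens} (hU : IsAffineOpen U) {e : 𝒮.presheaf.obj (op U)} (he : e ∈ 𝒮.deg U hU 1)
      {V : X.Opens} (hVU : V ≤ (i ≫ p) ⁻¹ᵁ U),
      (u.appLE U V hVU).hom e = LineCone35.elt jL (AModX.res L hVU (pullSec hO1 i θ hU he)) := by
    intro U hU e he V hVU
    rw [← rB_app, hu U hU e he]
    exact LineCone35.elt_res jL hVU _
  have hit : ∀ {U : Y.Opens} (hU : IsAffineOpen U) {e : 𝒮.presheaf.obj (op U)} (he : e ∈ 𝒮.deg U hU 1)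
      {V : X.Opens} (hV : IsAffineOpen V) (hVU : V ≤ (i ≫ p) ⁻¹ᵁ U)
      (_ : InvX.IsFrame (AModX.res L hVU (pullSec hO1 i θ hU he))) (z : PL), pL z ∈ V →
      Hit u pL chartL U hU e z := by
    intro U hU e he V hV hVU hf z hz
    obtain ⟨w, hw⟩ := ProjQMapX.exists_emb_eq (chart := chartL) V hV hz
    refine ⟨V, hV, hVU, w, hw, ?_⟩
    rw [show u.gradedAt U hU V hV hVU e = (𝒮L.str.app (op V)).hom 1 * LineCone35.elt jL
      (AModX.res L hVU (pullSec hO1 i θ hU he)) ^ 1 by rw [map_one, one_mul, pow_one]; exact happ hU he hVU,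
      mem_basicOpen_iff hLq hjL hV hf hPL one_pos, hw, X.basicOpen_of_isUnit isUnit_one]
    exact hz
  have htop : RelProj.domQ u pL chartL = ⊤ := by
    refine eq_top_iff.mpr fun z _ => ?_
    obtain ⟨U, hU, e, he, V, hV, hVU, hzV, -, hf⟩ := key (pL z)
    exact (hit hU he hV hVU hf z hzV).mem_domQ one_pos he
  refine ⟨htop, ?_⟩
  choose U hU e he V hV hVU hxV hVD hf using key
  have hcov : ⨆ x, Φ ⁻¹ᵁ V x = ⊤ :=
    eq_top_iff.mpr fun z _ => Opens.mem_iSup.mpr ⟨Φ z, hxV _⟩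
  rw [← Category.assoc]
  refine Scheme.Cover.hom_ext (Scheme.openCoverOfIsOpenCover _ (fun x => Φ ⁻¹ᵁ V x) hcov) _ _ fun x => ?_
  show (Φ ⁻¹ᵁ V x).ι ≫ r = (Φ ⁻¹ᵁ V x).ι ≫ Φ ≫ i
  let O := RelProj.emb p chart (U x) (hU x) ''ᵁ Proj.basicOpen (𝒮.deg (U x) (hU x)) (e x)
  have hO : IsAffineOpen O := by
    have : O = (Proj.awayι (𝒮.deg (U x) (hU x)) (e x) (he x) one_pos ≫ RelProj.emb p chart (U x) (hU x)).opensRange :=
      Opens.ext (ProjQMapX.range_toP_base (U x) (hU x) one_pos (he x)).symm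
    rw [this]
    exact isAffineOpen_opensRange _
  have hr1 : Φ ⁻¹ᵁ V x ≤ r ⁻¹ᵁ O := fun z hz =>
    (hit_iff_apply_mem hP hPL hr (hU x) one_pos (he x) z).mp (hit (hU x) (he x) (hV x) (hVU x) (hf x) _ hz)
  have hr2 : Φ ⁻¹ᵁ V x ≤ (Φ ≫ i) ⁻¹ᵁ O := fun z hz => hVD x hz
  have hl1 : (⊤ : (Φ ⁻¹ᵁ V x).toScheme.Opens) ≤ (Φ ⁻¹ᵁ V x).ι ⁻¹ᵁ (Φ ⁻¹ᵁ V x) := fun z _ => z.2
  refine hom_ext_affine O hO (fun z _ => hr1 z.2) (fun z _ => hr2 z.2) ?_
  rw [← Scheme.Hom.appLE_comp_appLE _ _ _ (Φ ⁻¹ᵁ V x) _ hr1 hl1,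
    ← Scheme.Hom.appLE_comp_appLE (Φ ⁻¹ᵁ V x).ι (Φ ≫ i) _ (Φ ⁻¹ᵁ V x) _ hr2 hl1]
  congr 1
  let c : Away (𝒮.deg (U x) (hU x)) (e x) →+* Γ(P, O) :=
    ((RelProj.emb p chart (U x) (hU x)).appIso _).inv.hom.comp (Proj.awayToSection _ _).hom
  have hfnc : ∀ φ, fn p chart (U x) (hU x) (e x) φ = c φ := fun φ => rfl
  have hsurj : Function.Surjective c := by
    have h1 : IsIso (Proj.awayToSection (𝒮.deg (U x) (hU x)) (e x)) := by
      rw [← Proj.basicOpenIsoAway_hom (𝒮.deg (U x) (hU x)) (e x) (he x) one_pos]; infer_instance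
    exact ((ConcreteCategory.bijective_of_isIso ((RelProj.emb p chart (U x) (hU x)).appIso _).inv).2).comp
      (ConcreteCategory.bijective_of_isIso (Proj.awayToSection (𝒮.deg (U x) (hU x)) (e x))).2
  refine CommRingCat.hom_ext (RingHom.ext fun y => ?_)
  obtain ⟨φ, rfl⟩ := hsurj y
  refine RingHom.congr_fun (f := (r.appLE O _ hr1).hom.comp c) (g := ((Φ ≫ i).appLE O _ hr2).hom.comp c)
    (away_ringHom_ext (hgen (U x) (hU x)) (he x) fun a ha => ?_) φ
  simp only [RingHom.comp_apply]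
  rw [← hfnc]
  have ha1 : a ∈ 𝒮.deg (U x) (hU x) 1 := by rwa [one_smul] at ha
  -- the value of `i` on the coordinate
  let h : Γ(X, V x) := AModX.resR (hVD x) (i.app O (fn p chart (U x) (hU x) (e x)
    (Away.mk (𝒮.deg (U x) (hU x)) (he x) 1 a ha)))
  have hσ : AModX.res L (hVU x) (pullSec hO1 i θ (hU x) ha1) =
      h • AModX.res L (hVU x) (pullSec hO1 i θ (hU x) (he x)) := by
    have h1 := congrArg (fun y => AModX.res L (hVD x) (θ.inv.app (i ⁻¹ᵁ O) (InvX.pullElt i y)))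
      (res_sec1_eq_smul hO1 (hU x) (he x) ha1 ha)
    rw [InvX.pullElt_smul, Scheme.Modules.Hom.app_smul, AModX.res_smul, ← InvX.res_pullElt, ← InvX.res_pullElt,
      AModX.app_res, AModX.app_res, AModX.res_res, AModX.res_res] at h1
    exact h1
  have hh : (u.appLE (U x) (V x) (hVU x)).hom a =
      (𝒮L.str.app (op (V x))).hom h * (u.appLE (U x) (V x) (hVU x)).hom (e x) := by
    rw [happ (hU x) ha1, happ (hU x) (he x), hσ, LineCone35.elt_smul]
  have key := app_fn_eq hLq hjL hPL hr (hU x) one_pos (he x) ha (hV x) (hVU x) (hf x)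
    (c := 1) isUnit_one (by rw [map_one, one_mul, pow_one]; exact happ (hU x) (he x) (hVU x)) hh hr1
  rw [Scheme.Hom.app_eq_appLE] at key
  have key' : (r.appLE O (r ⁻¹ᵁ O) le_rfl ≫
      ((RelProj.domQ u pL chartL : PL.Opens) : Scheme.{u}).presheaf.map (homOfLE hr1).op).hom
        (fn p chart (U x) (hU x) (e x) (Away.mk (𝒮.deg (U x) (hU x)) (he x) 1 a ha)) = (Φ.app (V x)).hom h := key
  rw [Scheme.Hom.appLE_map] at key'
  refine key'.trans ?_
  show (i.app O ≫ X.presheaf.map (homOfLE (hVD x)).op ≫ Φ.app (V x)).hom _ = _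
  rw [Scheme.Hom.app_eq_appLE, Scheme.Hom.app_eq_appLE, ← Category.assoc, Scheme.Hom.appLE_map,
    Scheme.Hom.appLE_comp_appLE]

end Groth.Agent.RLPsi35
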