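import Groth.Agent.SymAlgX.Universal
import Groth.Agent.SymAlgX.Grading
import Groth.Agent.SymAlgX.GrSym
import Groth.Prelude.Def_RelProj4

/-!
Morphisms out of a symmetric algebra over any morphism of schemes.
-/

universe u

set_option backward.isDefEq.respectTransparency false
set_option backward.isDefEq.respectTransparency.types false

open CategoryTheory CategoryTheory.Limits AlgebraicGeometry TopologicalSpace Opposite

noncomputable section

namespace Groth.Agent.RLPsi35

variable {X Y : Scheme.{u}} {q : X ⟶ Y}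

/-- The graded morphism `Sym E → q_* 𝒮'` with a given restriction to `E`, for any `q`. -/
theorem exists_qLift_gen {E : Y.Modules} {𝒯 : RelProj.QCGrAlg Y} {jE : E ⟶ 𝒯.toModule} (hE : Coh.IsQCoh E)
    (hjE : RelProj.IsGrSymAlg E 𝒯 jE) (𝒮' : RelProj.QCGrAlg X)
    (φ : E ⟶ (Scheme.Modules.pushforward q).obj 𝒮'.toModule)
    (hφ : ∀ (U : Y.Opens) (_ : IsAffineOpen U) (x : Γ(E, U)) (V : X.Opens) (hV : IsAffineOpen V) (hVU : V ≤ q ⁻¹ᵁ U),
      (𝒮'.presheaf.map (homOfLE hVU).op).hom ((φ.app U) x) ∈ 𝒮'.deg V hV 1) :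
    ∃ u : RelProj.QGrHom q 𝒯 𝒮', ∀ (U : Y.Opens) (x : Γ(E, U)), (u.app U).hom ((jE.app U) x) = (φ.app U) x := by
  let C : TopCat.Presheaf CommRingCat.{u} Y.carrier := q.base _* 𝒮'.presheaf
  have hC : C.IsSheaf := TopCat.Sheaf.pushforward_sheaf_of_sheaf q.base 𝒮'.isSheaf
  let strC : Y.presheaf ⟶ C := q.c ≫ (TopCat.Presheaf.pushforward CommRingCat.{u} q.base).map 𝒮'.str
  have hlin : ∀ (U : Y.Opens) (r : Γ(Y, U)) (x : Γ(E, U)),
      (show C.obj (op U) from (φ.app U) (r • x)) = (strC.app (op U)).hom r * (show C.obj (op U) from (φ.app U) x) :=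
    fun U r x => Scheme.Modules.Hom.app_smul φ r x
  let F := fun U : Y.AffineZariskiSite => SymAlgX.symLift (A := 𝒯.presheaf.obj (op U.1)) (𝒯.str.app (op U.1)).hom
    (jE.app U.1).hom (fun r x => Scheme.Modules.Hom.app_smul jE r x)
  let eF := fun U : Y.AffineZariskiSite => RingEquiv.ofBijective (F U)
    (SymAlgX.bijective_symLift_app hE hjE.1 U.1 U.2)
  let G := fun U : Y.AffineZariskiSite => SymAlgX.symLift (A := C.obj (op U.1)) (strC.app (op U.1)).hom
    (AddMonoidHom.mk' (fun x => (show C.obj (op U.1) from (φ.app U.1) x)) fun a b => map_add (φ.app U.1).hom a b)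
    (hlin U.1)
  have hEr : ∀ (U : Y.AffineZariskiSite) (r : Γ(Y, U.1)),
      (eF U).symm ((𝒯.str.app (op U.1)).hom r) = algebraMap Γ(Y, U.1) _ r := fun U r =>
    (eF U).symm_apply_eq.mpr (SymAlgX.symLift_algebraMap (A := 𝒯.presheaf.obj (op U.1)) _ _ _ r).symm
  have hEx : ∀ (U : Y.AffineZariskiSite) (x : Γ(E, U.1)),
      (eF U).symm (show 𝒯.presheaf.obj (op U.1) from (jE.app U.1) x) = SymmetricAlgebra.ι Γ(Y, U.1) _ x := fun U x =>
    (eF U).symm_apply_eq.mpr (SymAlgX.symLift_ι (A := 𝒯.presheaf.obj (op U.1)) _ _ _ x).symm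
  let β : (Scheme.AffineZariskiSite.toOpensFunctor Y).op ⋙ 𝒯.presheaf ⟶
      (Scheme.AffineZariskiSite.toOpensFunctor Y).op ⋙ C :=
    { app := fun U => CommRingCat.ofHom ((G U.unop).comp (eF U.unop).symm.toRingHom)
      naturality := fun U V i => by
        refine CommRingCat.hom_ext (RingHom.ext fun a => ?_)
        obtain ⟨b, rfl⟩ := (eF U.unop).surjective a
        show G V.unop ((eF V.unop).symm ((𝒯.presheaf.map _).hom (F U.unop b))) =
          (C.map _).hom (G U.unop ((eF U.unop).symm (F U.unop b)))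
        rw [show (eF U.unop).symm (F U.unop b) = b from (eF U.unop).symm_apply_apply b]
        refine congr($(SymAlgX.sym_ringHom_ext (F := ((G V.unop).comp (eF V.unop).symm.toRingHom).comp
          ((𝒯.presheaf.map ((Scheme.AffineZariskiSite.toOpensFunctor Y).op.map i)).hom.comp (F U.unop)))
          (G := (C.map ((Scheme.AffineZariskiSite.toOpensFunctor Y).op.map i)).hom.comp (G U.unop))
          (fun r => ?_) fun x => ?_) b)
        · show G V.unop ((eF V.unop).symm ((𝒯.presheaf.map _).hom (F U.unop (algebraMap _ _ r)))) =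
            (C.map _).hom (G U.unop (algebraMap _ _ r))
          refine (congrArg (fun z => G V.unop ((eF V.unop).symm ((𝒯.presheaf.map _).hom z)))
            (SymAlgX.symLift_algebraMap _ _ _ r)).trans ?_
          refine (congrArg (fun z => G V.unop ((eF V.unop).symm z)) (congr($(𝒯.str.naturality
            ((Scheme.AffineZariskiSite.toOpensFunctor Y).op.map i)).hom r)).symm).trans ?_
          refine (congrArg (G V.unop) (hEr V.unop _)).trans ?_
          refine (SymAlgX.symLift_algebraMap _ _ _ _).trans ?_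
          refine Eq.trans ?_ (congrArg _ (SymAlgX.symLift_algebraMap _ _ _ r)).symm
          exact congr($(strC.naturality ((Scheme.AffineZariskiSite.toOpensFunctor Y).op.map i)).hom r)
        · show G V.unop ((eF V.unop).symm ((𝒯.presheaf.map _).hom (F U.unop (SymmetricAlgebra.ι _ _ x)))) =
            (C.map _).hom (G U.unop (SymmetricAlgebra.ι _ _ x))
          refine (congrArg (fun z => G V.unop ((eF V.unop).symm ((𝒯.presheaf.map _).hom z)))
            (SymAlgX.symLift_ι (A := 𝒯.presheaf.obj (op U.unop.1)) _ _ _ x)).trans ?_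
          refine (congrArg (fun z => G V.unop ((eF V.unop).symm z)) (congr($(jE.mapPresheaf.naturality
            ((Scheme.AffineZariskiSite.toOpensFunctor Y).op.map i)) x)).symm).trans ?_
          refine (congrArg (G V.unop) (hEx V.unop _)).trans ?_
          refine (SymAlgX.symLift_ι (A := C.obj (op V.unop.1)) _ _ _ _).trans ?_
          refine Eq.trans ?_ (congrArg _ (SymAlgX.symLift_ι (A := C.obj (op U.unop.1)) _ _ _ x)).symm
          exact congr($(φ.mapPresheaf.naturality ((Scheme.AffineZariskiSite.toOpensFunctor Y).op.map i)) x) }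
  let e := fun ℱ : TopCat.Presheaf CommRingCat.{u} Y.carrier =>
    Functor.IsCoverDense.restrictHomEquivHom (G := Scheme.AffineZariskiSite.toOpensFunctor Y)
      (K := Opens.grothendieckTopology Y) (ℱ := ℱ) (ℱ' := (⟨C, hC⟩ : TopCat.Sheaf CommRingCat.{u} Y.carrier))
  let f : 𝒯.presheaf ⟶ C := (e _) β
  have hf : ∀ (U : Y.Opens) (hU : IsAffineOpen U) (b : SymmetricAlgebra Γ(Y, U) Γ(E, U)),
      (f.app (op U)).hom (F ⟨U, hU⟩ b) = G ⟨U, hU⟩ b := fun U hU b => by
    refine (congr($(NatTrans.congr_app ((e _).symm_apply_apply β) (op (⟨U, hU⟩ : Y.AffineZariskiSite))).hom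
      (F ⟨U, hU⟩ b))).trans ?_
    exact congrArg (G ⟨U, hU⟩) ((eF ⟨U, hU⟩).symm_apply_apply b)
  have hstr : 𝒯.str ≫ f = strC := by
    apply (e Y.presheaf).symm.injective
    refine NatTrans.ext (funext fun U => CommRingCat.hom_ext (RingHom.ext fun r => ?_))
    have := hf U.unop.1 U.unop.2 (algebraMap Γ(Y, U.unop.1) _ (show Γ(Y, U.unop.1) from r))
    simp only [F, G, SymAlgX.symLift_algebraMap] at this
    exact this
  have hj : ∀ (U : Y.Opens) (x : Γ(E, U)), (f.app (op U)).hom ((jE.app U) x) = (φ.app U) x := by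
    intro U x
    refine AModX.eq_of_locally (M := (Scheme.Modules.pushforward q).obj 𝒮'.toModule) _ _ fun y hy => ?_
    obtain ⟨_, ⟨W, hW, rfl⟩, hyW, hWU⟩ := Y.isBasis_affineOpens.exists_subset_of_mem_open hy U.isOpen
    refine ⟨W, hWU, hyW, ?_⟩
    rw [← AModX.app_res]
    have h1 := hf W hW (SymmetricAlgebra.ι _ _ (AModX.res E hWU x))
    simp only [F, G, SymAlgX.symLift_ι] at h1
    refine Eq.trans ?_ h1
    refine Eq.trans (congr($(f.naturality (homOfLE hWU).op).hom ((jE.app U) x))).symm ?_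
    exact congrArg (f.app (op W)).hom (congr($(jE.mapPresheaf.naturality (homOfLE hWU).op) x)).symm
  let u : RelSpec.QHom q 𝒯.toQCAlg 𝒮'.toQCAlg :=
    { app := fun U => f.app (op U)
      naturality := fun {U V} i => (f.naturality (homOfLE i).op).symm
      str_app := fun U => NatTrans.congr_app hstr (op U) }
  refine ⟨{ u with map_mem := fun U hU U' hU' hle {d x} hx => ?_ }, hj⟩
  obtain ⟨b, rfl⟩ := (SymAlgX.secMap_bijective hE hjE U hU).2 x
  rw [SymAlgX.secMap_mem_iff hE hjE U hU] at hx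
  refine SymAlgX.mem_of_mem_symDeg (𝒮'.deg U' hU')
    ((u.appLE U U' hle).hom.comp (SymAlgX.secMap jE U)) (fun r => ?_) (fun y => ?_) hx
  · rw [RingHom.comp_apply, SymAlgX.secMap_algebraMap]
    have e : (f.app (op U)).hom ((𝒯.str.app (op U)).hom r) =
        (𝒮'.str.app (op (q ⁻¹ᵁ U))).hom (q.app U r) := congr($(u.str_app U).hom r)
    show (𝒮'.presheaf.map (homOfLE hle).op).hom ((f.app (op U)).hom ((𝒯.str.app (op U)).hom r)) ∈ _
    rw [e]
    exact congrArg (· ∈ 𝒮'.deg U' hU' 0) (congr($(𝒮'.str.naturality (homOfLE hle).op).hom (q.app U r))) |>.mp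
      (𝒮'.str_mem U' hU' _)
  · rw [RingHom.comp_apply, SymAlgX.secMap_ι]
    show (𝒮'.presheaf.map (homOfLE hle).op).hom ((f.app (op U)).hom ((jE.app U) y)) ∈ _
    rw [hj]
    exact hφ U hU y U' hU' hle

end Groth.Agent.RLPsi35
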