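import Groth.Agent.RLPsi35.TwPull

/-!
The inverse image of `O(n)` under `r_{L,σ}` for a relatively ample module.
-/

universe u

set_option backward.isDefEq.respectTransparency false
set_option backward.isDefEq.respectTransparency.types false

open CategoryTheory CategoryTheory.Limits AlgebraicGeometry TopologicalSpace Opposite
open Groth.Agent.QCoh

noncomputable section

namespace Groth.Agent.RLPsi35

open AModX AmpleX

variable {X Y : Scheme.{u}} {q : X ⟶ Y} {L : X.Modules} (hL : PicF.IsInvertible L) (hLq : Coh.IsQCoh L)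
  {𝒮L : RelProj.QCGrAlg X} {j : L ⟶ 𝒮L.toModule} (hj : RelProj.IsGrSymAlg L 𝒮L j)
  {𝒜 : RelProj.QCGrAlg Y} (u : RelProj.QGrHom q 𝒜 𝒮L)
  {PL : Scheme.{u}} {pL : PL ⟶ X}
  {chartL : ∀ (U : X.Opens) (hU : IsAffineOpen U), (((pL ⁻¹ᵁ U : PL.Opens) : Scheme.{u}) ≅ Proj (𝒮L.deg U hU))}
  (hPL : RelProj.IsRelProj 𝒮L pL chartL)
  {P : Scheme.{u}} {p : P ⟶ Y}
  {chart : ∀ (U : Y.Opens) (hU : IsAffineOpen U), (((p ⁻¹ᵁ U : P.Opens) : Scheme.{u}) ≅ Proj (𝒜.deg U hU))}
  (hP : RelProj.IsRelProj 𝒜 p chart)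

include hLq hj hPL in
/-- Near every point there is a fraction of degree `n` with invertible value. -/
theorem exists_fj_of_relAmple [QuasiCompact q]
    (hu : ∀ U : Y.Opens, IsAffineOpen U → Function.Bijective (u.app U).hom)
    (h : RelAmple.IsRelAmple q L) (n : ℕ) (x : X) :
    ∃ J : FJ u pL chartL hL j n, x ∈ J.V := by
  have : IsSeparated q := AmpleX.isSeparated_of_ampleOn fun y => AmpleX.ampleOn_of_isRelAmple h (q y)
  obtain ⟨_, ⟨U, hU₀, rfl⟩, hxU, -⟩ := Y.isBasis_affineOpens.exists_subset_of_mem_open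
    (Set.mem_univ (q x)) isOpen_univ
  have hU : IsAffineOpen U := hU₀
  obtain ⟨m, hm, a, hxa, -, ha⟩ := exists_sections_of_isRelAmple h hU hxU (U := ⊤) trivial
  obtain ⟨s, hs⟩ := (hu U hU).2 (pw hL j a)
  have hsm : s ∈ 𝒜.deg U hU m := mem_deg_of_app_mem u hU (hu U hU).1 (by rw [hs]; exact pw_mem hL hj a)
  obtain ⟨V₁, hV₁, t₁, ht₁, hxV₁, -⟩ := exists_affine_frame hL (show x ∈ (⊤ : X.Opens) from trivial)
  obtain ⟨W, hW, hxW, -, hb, hb₁⟩ := ProjQMapX.exists_affine_basic_inter ha hV₁ (O := ⊤) hxa hxV₁ trivial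
  obtain ⟨r, rfl⟩ := hb
  set W := X.basicOpen r with hWdef
  obtain ⟨t, ht⟩ : ∃ t : Γ(L, W), InvX.IsFrame t :=
    ⟨_, ht₁.res (ProjQMapX.le_of_basic hb₁)⟩
  have hWa : W ≤ locus a := X.basicOpen_le r
  -- a section of degree `n` generating near `x`
  letI := (𝒮L.presheaf.map (homOfLE hWa).op).hom.toAlgebra
  have : IsLocalization.Away ((𝒮L.str.app (op (locus a))).hom r) (𝒮L.presheaf.obj (op W)) := 𝒮L.isQC _ ha r
  obtain ⟨⟨b, ⟨_, k, rfl⟩⟩, hb⟩ := IsLocalization.surj (Submonoid.powers ((𝒮L.str.app (op (locus a))).hom r))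
    (LineCone35.elt j t ^ n)
  have hTn : LineCone35.elt j t ^ n ∈ 𝒮L.deg W hW n := by
    simpa using SetLike.pow_mem_graded n (LineCone35.elt_mem j hj hW (t := t))
  have hτ : rB 𝒮L.toQCAlg hWa (GradedRing.proj (𝒮L.deg _ ha) n b) =
      (𝒮L.str.app (op W)).hom (resR hWa r ^ k) * LineCone35.elt j t ^ n := by
    rw [proj_rB 𝒮L ha hW hWa, map_pow, ← str_rB, ← map_pow, mul_comm]
    have hb' : LineCone35.elt j t ^ n * rB 𝒮L.toQCAlg hWa (((𝒮L.str.app (op (locus a))).hom r) ^ k) =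
        rB 𝒮L.toQCAlg hWa b := hb
    rw [hb']
    refine Proj16.proj_of_mem _ (hb' ▸ ?_)
    rw [map_pow, str_rB, ← map_pow]
    exact add_zero n ▸ SetLike.mul_mem_graded hTn (𝒮L.str_mem W hW _)
  obtain ⟨N, T, hN, hT, hTa⟩ := exists_pw_extend_mem hL hLq hj (q.isCompact_preimage hU.isCompact)
    (q.isQuasiSeparated_preimage hU.isQuasiSeparated) a
    ((mem_degSub_iff 𝒮L ha _).mpr (show GradedRing.proj (𝒮L.deg _ ha) n b ∈ 𝒮L.deg _ ha n from Proj16.proj_mem _ n b))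
  obtain ⟨s', rfl⟩ := (hu U hU).2 T
  have hs'm : s' ∈ 𝒜.deg U hU (n + N * m) := mem_deg_of_app_mem u hU (hu U hU).1 hT
  have hsN : s ^ N ∈ 𝒜.deg U hU (N * m) := by
    simpa using SetLike.pow_mem_graded N hsm
  have hWU : W ≤ q ⁻¹ᵁ U := hWa.trans (locus_le a)
  obtain ⟨c, hc⟩ := (isFrame_powElt ht m).exists_coord le_rfl (res _ hWU a)
  rw [res_self] at hc
  have hcu : IsUnit c := by
    have h2 := locus_frame hWU ht hc
    rw [inf_eq_right.mpr hWa] at h2
    have := RingedSpace.isUnit_res_basicOpen X.toLocallyRingedSpace.toRingedSpace c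
    exact isUnit_of_map_unit (X.presheaf.map (eqToHom h2.symm).op).hom c
      (show IsUnit ((X.presheaf.map (homOfLE (X.basicOpen_le c)).op).hom c) from this)
  have hsW : (u.appLE U W hWU).hom (s ^ N) =
      (𝒮L.str.app (op W)).hom (c ^ N) * LineCone35.elt j t ^ (N * m) := by
    rw [map_pow, ← rB_app, hs, pw_res, hc, pw_frame_smul hL hW ht, mul_pow, ← map_pow, ← pow_mul, mul_comm m]
  have hs'W : (u.appLE U W hWU).hom s' =
      (𝒮L.str.app (op W)).hom (resR hWa r ^ k * c ^ N) * LineCone35.elt j t ^ (n + N * m) := by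
    have h1 := congrArg (rB 𝒮L.toQCAlg hWa) hTa
    rw [CExt24.rB_rB, rB_app, map_mul, hτ, map_pow (rB 𝒮L.toQCAlg hWa), CExt24.rB_rB, pw_res, hc,
      pw_frame_smul hL hW ht] at h1
    rw [h1]
    simp only [map_mul, map_pow, pow_add, mul_pow, ← pow_mul, mul_comm N m]
    ring
  have hru : IsUnit (resR hWa r ^ k) :=
    (RingedSpace.isUnit_res_basicOpen X.toLocallyRingedSpace.toRingedSpace r).pow k
  have hNm : 0 < N * m := Nat.mul_pos hN hm
  have hHit : ∀ {d : ℕ} (hd : 0 < d) {f : 𝒜.presheaf.obj (op U)} (hf : f ∈ 𝒜.deg U hU d) {e : Γ(X, W)},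
      IsUnit e → (u.appLE U W hWU).hom f = (𝒮L.str.app (op W)).hom e * LineCone35.elt j t ^ d →
      ∀ z, pL z ∈ W → Hit u pL chartL U hU f z := by
    intro d hd f hf e he hfe z hz
    obtain ⟨w, hw⟩ := ProjQMapX.exists_emb_eq (chart := chartL) W hW hz
    refine ⟨W, hW, hWU, w, hw, ?_⟩
    rw [show u.gradedAt U hU W hW hWU f = _ from hfe, mem_basicOpen_iff hLq hj hW ht hPL hd e w, hw,
      X.basicOpen_of_isUnit he]
    exact hz
  refine ⟨⟨⟨U, hU, n + N * m, N * m, by omega, hNm, s', s ^ N, hs'm, hsN, by push_cast; ring⟩, W, hW, hWU,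
    hHit (by omega) hs'm (hru.mul (hcu.pow N)) hs'W, hHit hNm hsN (hcu.pow N) hsW,
    resR hWa r ^ k • powElt t n, ?_⟩, hxW⟩
  show pw hL j _ * (u.appLE U W hWU).hom (s ^ N) = (u.appLE U W hWU).hom s'
  rw [pw_frame_smul hL hW ht, hsW, hs'W]
  simp only [map_mul, map_pow, pow_add]
  ring

end Groth.Agent.RLPsi35
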