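import Groth.Agent.RLPsi35.Hit
import Groth.Agent.ConeLib35.PolyRing

/-!
Colimits of graded algebras.
-/

universe u

open CategoryTheory CategoryTheory.Limits AlgebraicGeometry TopologicalSpace Opposite
open scoped HomogeneousIdeal

noncomputable section

namespace Groth.Agent.RLPsi35

variable {Y : Scheme.{u}} {Λ : Type u} {𝒮 : RelProj.QCGrAlg Y} {𝒮i : Λ → RelProj.QCGrAlg Y}
  {φ : ∀ i, (𝒮i i).toQCAlg ⟶ 𝒮.toQCAlg}

lemma proj_app {𝒯 : RelProj.QCGrAlg Y} (v : 𝒯.toQCAlg ⟶ 𝒮.toQCAlg) (hv : RelProj.IsGradedHom v)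
    (U : Y.Opens) (hU : IsAffineOpen U) (d : ℕ) (a : 𝒯.presheaf.obj (op U)) :
    GradedRing.proj (𝒮.deg U hU) d ((v.hom.app (op U)).hom a) =
      (v.hom.app (op U)).hom (GradedRing.proj (𝒯.deg U hU) d a) :=
  ConeLib35.proj_map (RelProj.gradedHomAt v hv U hU) d a

/-- Homogeneous elements of a colimit come from homogeneous elements. -/
theorem exists_lift_deg (hφ : ∀ i, RelProj.IsGradedHom (φ i))
    (hsurj : ∀ (U : Y.Opens), IsAffineOpen U → ∀ x : 𝒮.presheaf.obj (op U),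
      ∃ (i : Λ) (y : (𝒮i i).presheaf.obj (op U)), ((φ i).hom.app (op U)).hom y = x)
    (U : Y.Opens) (hU : IsAffineOpen U) {d : ℕ} {x : 𝒮.presheaf.obj (op U)} (hx : x ∈ 𝒮.deg U hU d) :
    ∃ (i : Λ) (y : (𝒮i i).presheaf.obj (op U)), y ∈ (𝒮i i).deg U hU d ∧ ((φ i).hom.app (op U)).hom y = x := by
  obtain ⟨i, y, rfl⟩ := hsurj U hU x
  exact ⟨i, _, Proj16.proj_mem _ d y, by rw [← proj_app (φ i) (hφ i), Proj16.proj_of_mem _ hx]⟩

variable {X : Scheme.{u}} {q : X ⟶ Y} {𝒮' : RelProj.QCGrAlg X} {u : RelProj.QGrHom q 𝒮 𝒮'}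
  {PL : Scheme.{u}} {pL : PL ⟶ X}
  {chartL : ∀ (U : X.Opens) (hU : IsAffineOpen U), (((pL ⁻¹ᵁ U : PL.Opens) : Scheme.{u}) ≅ Proj (𝒮'.deg U hU))}
  [Preorder Λ] {t : ∀ i j, i ≤ j → ((𝒮i i).toQCAlg ⟶ (𝒮i j).toQCAlg)}

lemma app_trans (hφt : ∀ i j (h : i ≤ j), t i j h ≫ φ j = φ i)
    {ui : ∀ i, RelProj.QGrHom q (𝒮i i) 𝒮'}
    (hui : ∀ i (U : Y.Opens), (ui i).app U = (φ i).hom.app (op U) ≫ u.app U) {i j : Λ} (h : i ≤ j)
    (U : Y.Opens) : (ui i).app U = (t i j h).hom.app (op U) ≫ (ui j).app U := by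
  rw [hui, hui, ← hφt i j h, ← Category.assoc]
  rfl

lemma domQ_mono (ht : ∀ i j (h : i ≤ j), RelProj.IsGradedHom (t i j h))
    (hφt : ∀ i j (h : i ≤ j), t i j h ≫ φ j = φ i)
    {ui : ∀ i, RelProj.QGrHom q (𝒮i i) 𝒮'}
    (hui : ∀ i (U : Y.Opens), (ui i).app U = (φ i).hom.app (op U) ≫ u.app U) {i j : Λ} (h : i ≤ j) :
    RelProj.domQ (ui i) pL chartL ≤ RelProj.domQ (ui j) pL chartL := fun x hx => by
  obtain ⟨U, hU, d, f, hd, hf, hh⟩ := mem_domQ_iff_hit.mp hx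
  exact ((hit_comp_iff (t i j h) (ui i) (app_trans hφt hui h)).mp hh).mem_domQ hd (ht i j h U hU d f hf)

theorem domQ_eq_top_iff [CompactSpace PL] [Nonempty Λ] [IsDirected Λ (· ≤ ·)]
    (hφ : ∀ i, RelProj.IsGradedHom (φ i))
    (ht : ∀ i j (h : i ≤ j), RelProj.IsGradedHom (t i j h))
    (hφt : ∀ i j (h : i ≤ j), t i j h ≫ φ j = φ i)
    (hsurj : ∀ (U : Y.Opens), IsAffineOpen U → ∀ x : 𝒮.presheaf.obj (op U),
      ∃ (i : Λ) (y : (𝒮i i).presheaf.obj (op U)), ((φ i).hom.app (op U)).hom y = x)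
    {ui : ∀ i, RelProj.QGrHom q (𝒮i i) 𝒮'}
    (hui : ∀ i (U : Y.Opens), (ui i).app U = (φ i).hom.app (op U) ≫ u.app U) :
    RelProj.domQ u pL chartL = ⊤ ↔ ∃ i, RelProj.domQ (ui i) pL chartL = ⊤ := by
  constructor
  · intro htop
    have hcov : (Set.univ : Set PL) ⊆ ⋃ i, (RelProj.domQ (ui i) pL chartL : Set PL) := fun x _ => by
      obtain ⟨U, hU, d, f, hd, hf, h⟩ := mem_domQ_iff_hit.mp
        (show x ∈ RelProj.domQ u pL chartL from htop ▸ trivial)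
      obtain ⟨i, y, hy, rfl⟩ := exists_lift_deg hφ hsurj U hU hf
      exact Set.mem_iUnion.mpr ⟨i, ((hit_comp_iff (φ i) (ui i) (hui i)).mpr h).mem_domQ hd hy⟩
    obtain ⟨i, hi⟩ := isCompact_univ.elim_directed_cover _ (fun i => (RelProj.domQ (ui i) pL chartL).isOpen)
      hcov fun i j => by
        obtain ⟨k, hik, hjk⟩ := directed_of (· ≤ ·) i j
        exact ⟨k, domQ_mono ht hφt hui hik, domQ_mono ht hφt hui hjk⟩
    exact ⟨i, top_le_iff.mp fun x _ => hi (Set.mem_univ x)⟩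
  · rintro ⟨i, hi⟩
    refine top_le_iff.mp (hi ▸ fun x hx => ?_)
    obtain ⟨U, hU, d, f, hd, hf, h⟩ := mem_domQ_iff_hit.mp hx
    exact ((hit_comp_iff (φ i) (ui i) (hui i)).mp h).mem_domQ hd (hφ i U hU d f hf)

end Groth.Agent.RLPsi35
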