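import Groth.Agent.RLPsi35.Hit
import Groth.Agent.ProjQMapX.Ident
import Groth.Agent.ProjQMapX.TN
import Groth.Agent.ConeLib35.QTools
import Mathlib.AlgebraicGeometry.Morphisms.ClosedImmersion

/-!
`Proj` of a composite with a graded homomorphism over the base.
-/

universe u

open CategoryTheory CategoryTheory.Limits AlgebraicGeometry TopologicalSpace Opposite
open HomogeneousLocalization
open scoped HomogeneousIdeal

noncomputable section

namespace Groth.Agent.RLPsi35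

variable {Y S' : Scheme.{u}} {g : S' ⟶ Y} {𝒮 𝒯 : RelProj.QCGrAlg Y} {𝒮' : RelProj.QCGrAlg S'}
  {u : RelProj.QGrHom g 𝒮 𝒮'} {v : 𝒯.toQCAlg ⟶ 𝒮.toQCAlg} (hv : RelProj.IsGradedHom v)
  {u' : RelProj.QGrHom g 𝒯 𝒮'} (hu' : ∀ U : Y.Opens, u'.app U = v.hom.app (op U) ≫ u.app U)
  {PL : Scheme.{u}} {pL : PL ⟶ S'}
  {chartL : ∀ (U : S'.Opens) (hU : IsAffineOpen U), (((pL ⁻¹ᵁ U : PL.Opens) : Scheme.{u}) ≅ Proj (𝒮'.deg U hU))}

include hv hu' in
lemma domQ_comp_le : RelProj.domQ u' pL chartL ≤ RelProj.domQ u pL chartL := fun x hx => by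
  obtain ⟨U, hU, d, t, hd, ht, h⟩ := mem_domQ_iff_hit.mp hx
  exact ((hit_comp_iff v u' hu').mp h).mem_domQ hd (hv U hU d t ht)

variable (hPL : RelProj.IsRelProj 𝒮' pL chartL)
  {P : Scheme.{u}} {p : P ⟶ Y}
  {chart : ∀ (U : Y.Opens) (hU : IsAffineOpen U), (((p ⁻¹ᵁ U : P.Opens) : Scheme.{u}) ≅ Proj (𝒮.deg U hU))}
  (hP : RelProj.IsRelProj 𝒮 p chart)
  {r : ((RelProj.domQ u pL chartL : PL.Opens) : Scheme.{u}) ⟶ P}
  (hr : RelProj.IsProjQMapOn u p chart pL chartL (RelProj.domQ u pL chartL) r)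
  {P' : Scheme.{u}} {p' : P' ⟶ Y}
  {chart' : ∀ (U : Y.Opens) (hU : IsAffineOpen U), (((p' ⁻¹ᵁ U : P'.Opens) : Scheme.{u}) ≅ Proj (𝒯.deg U hU))}
  (hP' : RelProj.IsRelProj 𝒯 p' chart')
  {r' : ((RelProj.domQ u' pL chartL : PL.Opens) : Scheme.{u}) ⟶ P'}
  (hr' : RelProj.IsProjQMapOn u' p' chart' pL chartL (RelProj.domQ u' pL chartL) r')

include hu' hPL hP hr hP' hr' in
/-- `r'` is `Proj v` after `r`. -/
theorem exists_factor :
    ∃ (Φ : ((RelProj.domQ (RelProj.QGrHom.ofHom v hv) p chart : P.Opens) : Scheme.{u}) ⟶ P')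
      (k : ((RelProj.domQ u' pL chartL : PL.Opens) : Scheme.{u}) ⟶
        ((RelProj.domQ (RelProj.QGrHom.ofHom v hv) p chart : P.Opens) : Scheme.{u})),
      RelProj.IsProjQMapOn (RelProj.QGrHom.ofHom v hv) p' chart' p chart
        (RelProj.domQ (RelProj.QGrHom.ofHom v hv) p chart) Φ ∧
      k ≫ (RelProj.domQ (RelProj.QGrHom.ofHom v hv) p chart).ι =
        PL.homOfLE (domQ_comp_le hv hu') ≫ r ∧
      k ≫ Φ = r' := by
  obtain ⟨Φ, hΦ, -⟩ := ProjQMapX.existsUnique_isProjQMapOn (RelProj.QGrHom.ofHom v hv) hP' hP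
  have hsub : Set.range (PL.homOfLE (domQ_comp_le hv hu') ≫ r) ⊆
      Set.range (RelProj.domQ (RelProj.QGrHom.ofHom v hv) p chart).ι := by
    rintro _ ⟨x, rfl⟩
    rw [Scheme.Opens.range_ι]
    obtain ⟨U, hU, d, t, hd, ht, h⟩ := mem_domQ_iff_hit.mp x.2
    obtain ⟨w, hw, hwx⟩ := (hit_iff_apply_mem hP hPL hr hU hd (hv U hU d t ht)
      (PL.homOfLE (domQ_comp_le hv hu') x)).mp (by
        rw [← Scheme.Hom.comp_apply, Scheme.homOfLE_ι]
        exact (hit_comp_iff v u' hu').mp h)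
    rw [Scheme.Hom.comp_apply, ← hwx]
    refine ProjQMapX.emb_mem_domQ _ U hU U hU le_rfl ?_
    rw [ProjQMapX.ofHom_gradedAt v hv U hU]
    exact (ProjQMapX.mem_domOpen_iff _ w).mpr ⟨d, t, hd, ht, hw⟩
  refine ⟨Φ, IsOpenImmersion.lift _ _ hsub, hΦ, IsOpenImmersion.lift_fac _ _ hsub,
    ProjQMapX.domQ_hom_ext u' fun c => ?_⟩
  have e₁ : u.gradedAt c.U c.hU c.U' c.hU' c.hle ((v.hom.app (op c.U)).hom c.f) = c.img :=
    (gradedAt_comp v u' hu' c.U c.hU c.U' c.hU' c.hle c.f).symm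
  obtain ⟨γ, -, hγι, hγr⟩ := ConeLib35.exists_chartTo hr le_rfl c.hU c.hU' c.hle c.hd
    (hv c.U c.hU c.d c.f c.hf) e₁
  have e₂ : (RelProj.QGrHom.ofHom v hv).gradedAt c.U c.hU c.U c.hU le_rfl c.f =
      (v.hom.app (op c.U)).hom c.f :=
    congrArg (fun ψ : 𝒯.deg c.U c.hU →+*ᵍ 𝒮.deg c.U c.hU => ψ c.f) (ProjQMapX.ofHom_gradedAt v hv c.U c.hU)
  obtain ⟨δ, -, hδι, hδΦ⟩ := ConeLib35.exists_chartTo hΦ le_rfl c.hU c.hU (le_refl c.U) c.hd c.hf e₂
  have hγ : c.lift pL chartL ≫ PL.homOfLE (domQ_comp_le hv hu') = γ := by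
    rw [← cancel_mono (RelProj.domQ u pL chartL).ι, Category.assoc, Scheme.homOfLE_ι, hγι, c.lift_ι]
    rfl
  have hk : c.lift pL chartL ≫ IsOpenImmersion.lift _ _ hsub =
      Spec.map (CommRingCat.ofHom (ProjQMapX.awayMapTo (u.gradedAt c.U c.hU c.U' c.hU' c.hle) e₁)) ≫ δ := by
    rw [← cancel_mono (RelProj.domQ (RelProj.QGrHom.ofHom v hv) p chart).ι, Category.assoc, Category.assoc,
      IsOpenImmersion.lift_fac, reassoc_of% hγ, hγr, hδι]
  rw [← Category.assoc, hk, Category.assoc, hδΦ, (ProjQMapX.isProjQMapOn_iff u').mp hr' c,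
    ProjQMapX.Chart.toP, ← Spec.map_comp_assoc, ← CommRingCat.ofHom_comp, ProjQMapX.awayMapTo_comp]
  congr 3
  rw [← ProjQMapX.awayMapTo_self]
  refine ProjQMapX.awayMapTo_congr (GradedRingHom.ext fun a => ?_) _ _
  refine Eq.trans ?_ (gradedAt_comp v u' hu' c.U c.hU c.U' c.hU' c.hle a).symm
  exact congrArg (u.gradedAt c.U c.hU c.U' c.hU' c.hle)
    (congrArg (fun ψ : 𝒯.deg c.U c.hU →+*ᵍ 𝒮.deg c.U c.hU => ψ a) (ProjQMapX.ofHom_gradedAt v hv c.U c.hU))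

include hv hu' hPL hP hr hP' hr' in
theorem isImmersion_of_comp (hdef : RelProj.domQ u' pL chartL = ⊤) (himm : IsImmersion r') :
    RelProj.domQ u pL chartL = ⊤ ∧ IsImmersion r := by
  have htop : RelProj.domQ u pL chartL = ⊤ := top_le_iff.mp (hdef ▸ domQ_comp_le hv hu')
  refine ⟨htop, ?_⟩
  obtain ⟨Φ, k, -, hk, hkΦ⟩ := exists_factor hv hu' hPL hP hr hP' hr'
  have : IsImmersion (k ≫ Φ) := hkΦ ▸ himm
  have := IsImmersion.of_comp k Φ
  have : IsIso (PL.homOfLE (domQ_comp_le (pL := pL) (chartL := chartL) hv hu')) := by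
    have := ProjQMapX.isIso_ι_of_eq_top htop
    have := ProjQMapX.isIso_ι_of_eq_top hdef
    exact IsIso.of_isIso_fac_right (Scheme.homOfLE_ι PL (domQ_comp_le hv hu'))
  have e : r = inv (PL.homOfLE (domQ_comp_le hv hu')) ≫ k ≫ (RelProj.domQ (RelProj.QGrHom.ofHom v hv) p chart).ι := by
    rw [hk, IsIso.inv_hom_id_assoc]
  rw [e]
  infer_instance

include hv hu' hPL hP hr hP' hr' in
theorem isOpenImmersion_isClosedImmersion_of_comp
    (hTN : ∃ n : ℕ, ∀ k, n ≤ k → ∀ (U : Y.Opens) (hU : IsAffineOpen U), ∀ y ∈ 𝒮.deg U hU k,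
      ∃ x ∈ 𝒯.deg U hU k, (v.hom.app (op U)).hom x = y)
    (hdef : RelProj.domQ u' pL chartL = ⊤) :
    (IsOpenImmersion r' → IsOpenImmersion r) ∧ (IsClosedImmersion r' → IsClosedImmersion r) := by
  obtain ⟨n, hn⟩ := hTN
  have htop : RelProj.domQ u pL chartL = ⊤ := top_le_iff.mp (hdef ▸ domQ_comp_le hv hu')
  obtain ⟨Φ, k, hΦ, hk, hkΦ⟩ := exists_factor hv hu' hPL hP hr hP' hr'
  have : IsClosedImmersion Φ := ProjQMapX.of_charts_ofHom v hv hP' hP hΦ @IsClosedImmersion.{u}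
    fun U hU d hd f hf => IsClosedImmersion.spec_of_surjective _
      (ProjQMapX.awayMap_surjective_of_TN (RelProj.gradedHomAt v hv U hU) (fun m hm => hn m hm U hU) hd hf)
  have hWtop : RelProj.domQ (RelProj.QGrHom.ofHom v hv) p chart = ⊤ :=
    ProjQMapX.domQ_ofHom_eq_top v hv fun U hU w =>
      ProjQMapX.mem_domOpen_of_TN (RelProj.gradedHomAt v hv U hU) (fun m hm => hn m hm U hU) w
  have := ProjQMapX.isIso_ι_of_eq_top hWtop
  have : IsIso (PL.homOfLE (domQ_comp_le (pL := pL) (chartL := chartL) hv hu')) := by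
    have := ProjQMapX.isIso_ι_of_eq_top htop
    have := ProjQMapX.isIso_ι_of_eq_top hdef
    exact IsIso.of_isIso_fac_right (Scheme.homOfLE_ι PL (domQ_comp_le hv hu'))
  have e : r = inv (PL.homOfLE (domQ_comp_le hv hu')) ≫ k ≫ (RelProj.domQ (RelProj.QGrHom.ofHom v hv) p chart).ι := by
    rw [hk, IsIso.inv_hom_id_assoc]
  refine ⟨fun h => ?_, fun h => ?_⟩
  · have : IsOpenImmersion k := MorphismProperty.of_isPullback
      (IsPullback.of_horiz_isIso_mono (fst := 𝟙 _) (snd := k) (f := r') (g := Φ)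
        ⟨by rw [Category.id_comp, hkΦ]⟩) h
    rw [e]; infer_instance
  · have : IsClosedImmersion (k ≫ Φ) := hkΦ ▸ h
    have := IsClosedImmersion.of_comp k Φ
    rw [e]; infer_instance

end Groth.Agent.RLPsi35
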