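import Groth.Agent.RLPsi35.Crit
import Groth.Agent.RLPsi35.Colim
import Groth.Agent.RLPsi35.Comp
import Mathlib.AlgebraicGeometry.Morphisms.FiniteType

/-!
Immersions and filtered colimits of graded algebras.
-/

universe u

open CategoryTheory CategoryTheory.Limits AlgebraicGeometry TopologicalSpace Opposite
open HomogeneousLocalization
open scoped HomogeneousIdeal

noncomputable section

namespace Groth.Agent.RLPsi35

variable {Y X : Scheme.{u}} {q : X ⟶ Y} {Λ : Type u} [Preorder Λ] [IsDirected Λ (· ≤ ·)] [Nonempty Λ]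
  {𝒮 : RelProj.QCGrAlg Y} {𝒮i : Λ → RelProj.QCGrAlg Y} {φ : ∀ i, (𝒮i i).toQCAlg ⟶ 𝒮.toQCAlg}
  (hφ : ∀ i, RelProj.IsGradedHom (φ i))
  {t : ∀ i j, i ≤ j → ((𝒮i i).toQCAlg ⟶ (𝒮i j).toQCAlg)} (ht : ∀ i j (h : i ≤ j), RelProj.IsGradedHom (t i j h))
  (hφt : ∀ i j (h : i ≤ j), t i j h ≫ φ j = φ i)
  (hsurj : ∀ (U : Y.Opens), IsAffineOpen U → ∀ x : 𝒮.presheaf.obj (op U),
    ∃ (i : Λ) (y : (𝒮i i).presheaf.obj (op U)), ((φ i).hom.app (op U)).hom y = x)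
  {𝒮L : RelProj.QCGrAlg X} {u : RelProj.QGrHom q 𝒮 𝒮L}
  {ui : ∀ i, RelProj.QGrHom q (𝒮i i) 𝒮L}
  (hui : ∀ i (U : Y.Opens), (ui i).app U = (φ i).hom.app (op U) ≫ u.app U)
  {PL : Scheme.{u}} {pL : PL ⟶ X}
  {chartL : ∀ (U : X.Opens) (hU : IsAffineOpen U), (((pL ⁻¹ᵁ U : PL.Opens) : Scheme.{u}) ≅ Proj (𝒮L.deg U hU))}

omit [IsDirected Λ (· ≤ ·)] [Nonempty Λ] in
include hφt in
lemma app_app {i j : Λ} (h : i ≤ j) (U : Y.Opens) (a : (𝒮i i).presheaf.obj (op U)) :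
    ((φ j).hom.app (op U)).hom (((t i j h).hom.app (op U)).hom a) = ((φ i).hom.app (op U)).hom a := by
  rw [← hφt i j h]
  rfl

variable (hPL : RelProj.IsRelProj 𝒮L pL chartL) {Pi : Λ → Scheme.{u}} {pi : ∀ i, Pi i ⟶ Y}
  {charti : ∀ i (U : Y.Opens) (hU : IsAffineOpen U),
    ((((pi i) ⁻¹ᵁ U : (Pi i).Opens) : Scheme.{u}) ≅ Proj ((𝒮i i).deg U hU))}
  (hPi : ∀ i, RelProj.IsRelProj (𝒮i i) (pi i) (charti i))

include hφ ht hφt hsurj hui hPL hPi in
/-- A good piece descends to a large index. -/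
theorem eventually_piece [LocallyOfFiniteType q] [IsIso pL] (c : Piece u pL chartL) (hc : c.Cond) :
    ∃ i, ∀ j, i ≤ j → ∃ c' : Piece (ui j) pL chartL, c'.V = c.V ∧ c'.Cond := by
  classical
  obtain ⟨i₀, y, hy, hyf⟩ := exists_lift_deg hφ hsurj c.U c.hU c.hf
  obtain ⟨G, hG⟩ := (q.finiteType_appLE c.hU c.hV c.hle).out
  have hlift : ∀ g : Γ(X, c.V), ∃ (m : ℕ) (i : Λ) (s : (𝒮i i).presheaf.obj (op c.U)),
      s ∈ (𝒮i i).deg c.U c.hU (m * c.d) ∧ 0 < m ∧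
      (𝒮L.str.app (op c.V)).hom g * (u.appLE c.U c.V c.hle).hom c.f ^ m =
        (u.appLE c.U c.V c.hle).hom (((φ i).hom.app (op c.U)).hom s) := fun g => by
    obtain ⟨m, hm, s', hs', e⟩ := hc g
    obtain ⟨i, s, hs, rfl⟩ := exists_lift_deg hφ hsurj c.U c.hU hs'
    exact ⟨m, i, s, hs, hm, e⟩
  choose m k s hs hm he using hlift
  obtain ⟨i, hi⟩ := Finset.exists_le (insert i₀ (G.image k))
  refine ⟨i, fun j hij => ?_⟩
  have h₀ : i₀ ≤ j := (hi i₀ (Finset.mem_insert_self _ _)).trans hij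
  let yj := ((t i₀ j h₀).hom.app (op c.U)).hom y
  have hyj : ((φ j).hom.app (op c.U)).hom yj = c.f := (app_app hφt h₀ c.U y).trans hyf
  let c' : Piece (ui j) pL chartL :=
    ⟨c.U, c.hU, c.d, c.hd, yj, ht i₀ j h₀ c.U c.hU c.d y hy, c.V, c.hV, c.hle, fun z => by
      rw [hit_comp_iff (φ j) (ui j) (hui j), hyj]; exact c.mem_iff z⟩
  refine ⟨c', rfl, (Piece.cond_iff (hPi j) hPL c').mpr fun b => ?_⟩
  obtain ⟨a, rfl⟩ := c'.surjective_baseToAway (hPi j) hPL b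
  let base := ProjBC35.baseToAway (𝒮L.str.app (op c'.V)).hom (𝒮L.str_mem c'.V c'.hV) (c'.ψ c'.f)
  suffices H : ∀ a, base a ∈ (Away.map c'.ψ c'.f).range from H a
  intro a
  let : Algebra Γ(Y, c.U) Γ(X, c.V) := (q.appLE c.U c.V c.hle).hom.toAlgebra
  have hG' : Algebra.adjoin Γ(Y, c.U) (G : Set Γ(X, c.V)) = ⊤ := hG
  have ha : a ∈ Algebra.adjoin Γ(Y, c.U) (G : Set Γ(X, c.V)) := hG' ▸ Algebra.mem_top
  induction ha using Algebra.adjoin_induction with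
  | mem g hg =>
    have hk : k g ≤ j := (hi _ (Finset.mem_insert_of_mem (Finset.mem_image_of_mem k hg))).trans hij
    have hsj : ((t (k g) j hk).hom.app (op c.U)).hom (s g) ∈ (𝒮i j).deg c.U c.hU (m g • c.d) := by
      rw [smul_eq_mul]; exact ht _ _ hk c.U c.hU _ _ (hs g)
    refine ⟨Away.mk _ c'.hf (m g) _ hsj, val_injective _ ?_⟩
    rw [Away.map_mk, Away.val_mk, ProjBC35.val_baseToAway, ← Localization.mk_one_eq_algebraMap,
      Localization.mk_eq_mk_iff, Localization.r_iff_exists]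
    refine ⟨1, ?_⟩
    simp only [OneMemClass.coe_one, one_mul]
    rw [gradedAt_comp (φ j) (ui j) (hui j), gradedAt_comp (φ j) (ui j) (hui j), app_app hφt, hyj]
    exact ((mul_comm _ _).trans (he g)).symm
  | algebraMap r =>
    exact ⟨ProjBC35.baseToAway ((𝒮i j).str.app (op c.U)).hom ((𝒮i j).str_mem c.U c.hU) c'.f r,
      (ProjBC35.baseToAway_map (g := (q.appLE c.U c.V c.hle).hom) (ρ := ((𝒮i j).str.app (op c.U)).hom)
        (ρ' := (𝒮L.str.app (op c.V)).hom) (hρ := (𝒮i j).str_mem c.U c.hU) (hρ' := 𝒮L.str_mem c.V c.hV)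
        (φ := c'.ψ) (fun r => (congr($((ui j).toQHom.str_appLE c.U c.V c.hle).hom r)).symm) r).symm⟩
  | add x y _ _ hx hy => rw [map_add]; exact add_mem hx hy
  | mul x y _ _ hx hy => rw [map_mul]; exact mul_mem hx hy

variable {L : X.Modules} {P : Scheme.{u}} {p : P ⟶ Y}
  {chart : ∀ (U : Y.Opens) (hU : IsAffineOpen U), (((p ⁻¹ᵁ U : P.Opens) : Scheme.{u}) ≅ Proj (𝒮.deg U hU))}
  (hP : RelProj.IsRelProj 𝒮 p chart)
  {r : ((RelProj.domQ u pL chartL : PL.Opens) : Scheme.{u}) ⟶ P}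
  (hr : RelProj.IsProjQMapOn u p chart pL chartL (RelProj.domQ u pL chartL) r)
  {ri : ∀ i, ((RelProj.domQ (ui i) pL chartL : PL.Opens) : Scheme.{u}) ⟶ Pi i}
  (hri : ∀ i, RelProj.IsProjQMapOn (ui i) (pi i) (charti i) pL chartL (RelProj.domQ (ui i) pL chartL) (ri i))

include hφ ht hφt hsurj hui hPL hPi hP hr hri in
theorem exists_isImmersion [LocallyOfFiniteType q] [IsIso pL] [CompactSpace X]
    (htop : RelProj.domQ u pL chartL = ⊤) (himm : IsImmersion r) :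
    ∃ i, RelProj.domQ (ui i) pL chartL = ⊤ ∧ IsImmersion (ri i) := by
  classical
  have hpc : ∀ x : X, ∃ c : Piece u pL chartL, x ∈ c.V ∧ c.Cond := fun x => by
    obtain ⟨z, rfl⟩ := pL.surjective x
    let z' : (RelProj.domQ u pL chartL : PL.Opens) := ⟨z, htop ▸ trivial⟩
    obtain ⟨_, ⟨U, hU₀, rfl⟩, hzU, -⟩ := Y.isBasis_affineOpens.exists_subset_of_mem_open
      (Set.mem_univ (p (r z'))) isOpen_univ
    have hU : IsAffineOpen U := hU₀
    obtain ⟨d, f, hd, hf, hmem, hle⟩ := exists_open_le (chart := chart) hU hzU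
      (show r z' ∈ r.coborderRange from subset_coborder ⟨z', rfl⟩)
    obtain ⟨c, -, -, hcO, hc⟩ := exists_piece hP hPL hr hU hd hf (isClosedImmersion_morphismRestrict r hle)
    refine ⟨c, (c.mem_iff z).mp ((hit_iff_apply_mem hP hPL hr c.hU c.hd c.hf z').mpr ?_), hc⟩
    show r z' ∈ c.open' p chart
    rw [hcO]; exact hmem
  choose c hxc hc using hpc
  obtain ⟨T, hT⟩ := isCompact_univ.elim_finite_subcover (fun x => ((c x).V : Set X))
    (fun x => (c x).V.isOpen) fun x _ => Set.mem_iUnion.mpr ⟨x, hxc x⟩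
  choose k hk using fun x => eventually_piece (pi := pi) hφ ht hφt hsurj hui hPL hPi (c x) (hc x)
  obtain ⟨i, hi⟩ := Finset.exists_le (T.image k)
  choose c' hc'V hc' using fun x : T => hk x.1 i (hi _ (Finset.mem_image_of_mem k x.2))
  refine ⟨i, Piece.isImmersion_of_cover (hPi i) hPL (hri i) c' (fun z => ?_) hc'⟩
  obtain ⟨x, hx, hzx⟩ := Set.mem_iUnion₂.mp (hT (Set.mem_univ (pL z)))
  exact ⟨⟨x, hx⟩, by rw [hc'V]; exact hzx⟩

end Groth.Agent.RLPsi35
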