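import Groth.Prelude.Def_RelProj4

/-!
Composition of a graded morphism over a morphism of bases with a graded homomorphism on the base.
-/

universe u

open CategoryTheory AlgebraicGeometry TopologicalSpace Opposite

noncomputable section

namespace Groth.Agent.RLPsi35

variable {Y X : Scheme.{u}} {q : X ⟶ Y} {𝒮 𝒯 : RelProj.QCGrAlg Y} {𝒮L : RelProj.QCGrAlg X}

/-- `u ∘ v`. -/
def compHom (u : RelProj.QGrHom q 𝒮 𝒮L) (v : 𝒯.toQCAlg ⟶ 𝒮.toQCAlg) (hv : RelProj.IsGradedHom v) :
    RelProj.QGrHom q 𝒯 𝒮L where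
  app U := v.hom.app (op U) ≫ u.app U
  naturality {U V} i := by
    rw [Category.assoc, u.naturality i, ← Category.assoc, ← Category.assoc, v.hom.naturality]
  str_app U := by
    have e : 𝒯.str.app (op U) ≫ v.hom.app (op U) = 𝒮.str.app (op U) := NatTrans.congr_app v.comm (op U)
    rw [← Category.assoc, e, u.str_app]
  map_mem U hU U' hU' hle {d x} hx := u.map_mem U hU U' hU' hle (hv U hU d x hx)

end Groth.Agent.RLPsi35
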