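import Groth.Agent.CExt24.GenAlg
import Groth.Agent.ConeLib35.PolyRing
import Groth.Prelude.Def_RelProj

/-!
A homogeneous part of a graded algebra as a quasi-coherent submodule, and finite type submodules of it.
-/

universe u

set_option backward.isDefEq.respectTransparency false
set_option backward.isDefEq.respectTransparency.types false

open CategoryTheory CategoryTheory.Limits AlgebraicGeometry TopologicalSpace Opposite
open Groth.Agent.QCoh

noncomputable section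

namespace Groth.Agent.RLPsi35

variable {Y : Scheme.{u}} (𝒮 : RelProj.QCGrAlg Y)

/-- Restriction in the algebra as a map of modules. -/
lemma rs_eq_rB {U V : Y.Opens} (h : V ≤ U) (s : 𝒮.presheaf.obj (op U)) :
    rs 𝒮.toQCAlg.toModule h (show Γ(𝒮.toQCAlg.toModule, U) from s) = rB 𝒮.toQCAlg h s := rfl

lemma proj_rB {U V : Y.Opens} (hU : IsAffineOpen U) (hV : IsAffineOpen V) (h : V ≤ U) (n : ℕ)
    (s : 𝒮.presheaf.obj (op U)) :
    rB 𝒮.toQCAlg h (GradedRing.proj (𝒮.deg U hU) n s) = GradedRing.proj (𝒮.deg V hV) n (rB 𝒮.toQCAlg h s) := by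
  exact (ConeLib35.proj_map (𝒮.res hU hV h) n s).symm

/-- Sections which are of degree `n` over every affine open. -/
def degSub (n : ℕ) : SubMod 𝒮.toQCAlg.toModule where
  mem O :=
    { carrier := {s | ∀ (W : Y.Opens) (hW : IsAffineOpen W) (h : W ≤ O),
        rB 𝒮.toQCAlg h s ∈ 𝒮.deg W hW n}
      zero_mem' := fun W hW h => by
        show rB 𝒮.toQCAlg h 0 ∈ _
        rw [map_zero]; exact zero_mem _
      add_mem' := fun {a b} ha hb W hW h => by
        show rB 𝒮.toQCAlg h ((show 𝒮.presheaf.obj (op O) from a) + (show 𝒮.presheaf.obj (op O) from b)) ∈ _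
        rw [map_add]; exact add_mem (ha W hW h) (hb W hW h)
      smul_mem' := fun r s hs W hW h => by
        show rB 𝒮.toQCAlg h ((𝒮.str.app (op O)).hom r * (show 𝒮.presheaf.obj (op O) from s)) ∈ _
        rw [map_mul, rB_str]
        exact zero_add n ▸ SetLike.mul_mem_graded (𝒮.str_mem W hW _) (hs W hW h) }
  map_mem {U V} i {s} hs W hW h := by
    show rB 𝒮.toQCAlg h (rB 𝒮.toQCAlg i s) ∈ _
    rw [CExt24.rB_rB]
    exact hs W hW (h.trans i)
  of_locally O s hs W hW h := by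
    set d := rB 𝒮.toQCAlg h s - GradedRing.proj (𝒮.deg W hW) n (rB 𝒮.toQCAlg h s) with hd
    suffices hd0 : d = 0 by
      rw [hd, sub_eq_zero] at hd0
      rw [hd0, GradedRing.proj_apply]
      exact SetLike.coe_mem _
    have hloc : ∀ x ∈ W, ∃ D : Y.Opens, ∃ hD : D ≤ W, x ∈ D ∧ rB 𝒮.toQCAlg hD d = 0 := fun x hx => by
      obtain ⟨P, i, hxP, hP⟩ := hs x (h hx)
      obtain ⟨g, hg, hxg⟩ := hW.exists_basicOpen_le ⟨x, hxP⟩ hx
      refine ⟨Y.basicOpen g, Y.basicOpen_le g, hxg, ?_⟩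
      have h1 : rB 𝒮.toQCAlg hg (rB 𝒮.toQCAlg i s) ∈ 𝒮.deg (Y.basicOpen g) (hW.basicOpen g) n :=
        hP (Y.basicOpen g) (hW.basicOpen g) hg
      rw [CExt24.rB_rB] at h1
      rw [hd, map_sub, proj_rB 𝒮 hW (hW.basicOpen g), CExt24.rB_rB, GradedRing.proj_apply,
        DirectSum.decompose_of_mem_same _ h1, sub_self]
    choose D hDW hxD hD using hloc
    refine TopCat.Sheaf.eq_of_locally_eq' ⟨𝒮.presheaf, 𝒮.isSheaf⟩ (fun x : W => D x.1 x.2) W
      (fun x => homOfLE (hDW x.1 x.2)) (fun x hx => Opens.mem_iSup.mpr ⟨⟨x, hx⟩, hxD x hx⟩) _ _ fun x => ?_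
    exact (hD x.1 x.2).trans (map_zero _).symm

lemma mem_degSub_iff {n : ℕ} {U : Y.Opens} (hU : IsAffineOpen U) (s : 𝒮.presheaf.obj (op U)) :
    (show Γ(𝒮.toQCAlg.toModule, U) from s) ∈ (degSub 𝒮 n).mem U ↔ s ∈ 𝒮.deg U hU n := by
  refine ⟨fun h => ?_, fun h W hW hle => 𝒮.map_mem hU hW hle h⟩
  have h1 : rB 𝒮.toQCAlg (le_refl U) s ∈ 𝒮.deg U hU n := h U hU le_rfl
  rwa [CExt24.rB_self] at h1

lemma isQCoh_degSub (n : ℕ) : Coh.IsQCoh (degSub 𝒮 n).toModules := by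
  have hG := isQCoh_toModule 𝒮.toQCAlg
  refine isQCoh_of_sections (fun V hV f s => ?_) (fun V hV f t ht => ?_)
  · obtain ⟨k, z, hz⟩ := exists_pow_smul_eq_map hG hV f ((degSub 𝒮 n).ι.app _ s)
    let z' : 𝒮.presheaf.obj (op V) := z
    have hp : (show Γ(𝒮.toQCAlg.toModule, V) from GradedRing.proj (𝒮.deg V hV) n z') ∈ (degSub 𝒮 n).mem V :=
      (mem_degSub_iff 𝒮 hV _).mpr (by rw [GradedRing.proj_apply]; exact SetLike.coe_mem _)
    obtain ⟨t, ht⟩ := (degSub 𝒮 n).exists_app_eq hp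
    refine ⟨k, t, (degSub 𝒮 n).ι_app_injective _ ?_⟩
    rw [ι_app_smul, map_app_comm, ht]
    show rB 𝒮.toQCAlg (Y.basicOpen_le f) (GradedRing.proj (𝒮.deg V hV) n z') = _
    rw [proj_rB 𝒮 hV (hV.basicOpen f)]
    have hmem := Submodule.smul_mem _ (rf Y (Y.basicOpen_le f) f ^ k) ((degSub 𝒮 n).ι_app_mem _ s)
    rw [show rB 𝒮.toQCAlg (Y.basicOpen_le f) z' = _ from hz, GradedRing.proj_apply]
    exact DirectSum.decompose_of_mem_same _ ((mem_degSub_iff 𝒮 (hV.basicOpen f) _).mp hmem)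
  · obtain ⟨k, hk⟩ := exists_pow_smul_eq_zero hG hV f ((degSub 𝒮 n).ι.app _ t) (by
      rw [← map_app_comm, ht, map_zero])
    exact ⟨k, (degSub 𝒮 n).ι_app_injective _ (by rw [ι_app_smul, hk, map_zero])⟩

variable {G : Y.Modules}

/-- A submodule of a submodule. -/
def subComp (M : SubMod G) (N : SubMod M.toModules) : SubMod G where
  mem O :=
    { carrier := M.ι.app O '' (N.mem O : Set Γ(M.toModules, O))
      zero_mem' := ⟨0, zero_mem _, map_zero _⟩
      add_mem' := by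
        rintro _ _ ⟨a, ha, rfl⟩ ⟨b, hb, rfl⟩
        exact ⟨a + b, add_mem ha hb, map_add _ _ _⟩
      smul_mem' := by
        rintro r _ ⟨a, ha, rfl⟩
        exact ⟨r • a, Submodule.smul_mem _ _ ha, ι_app_smul r a⟩ }
  map_mem {U V} i {s} hs := by
    obtain ⟨a, ha, rfl⟩ := hs
    exact ⟨_, N.map_mem i ha, map_app_comm _ _ _⟩
  of_locally O s hs := by
    have hM : s ∈ M.mem O := M.of_locally O s fun x hx => by
      obtain ⟨V, i, hxV, a, -, e⟩ := hs x hx
      exact ⟨V, i, hxV, e ▸ M.ι_app_mem V a⟩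
    obtain ⟨a, rfl⟩ := M.exists_app_eq hM
    refine ⟨a, N.of_locally O a fun x hx => ?_, rfl⟩
    obtain ⟨V, i, hxV, b, hb, e⟩ := hs x hx
    refine ⟨V, i, hxV, ?_⟩
    rw [← map_app_comm] at e
    exact M.ι_app_injective V e ▸ hb

lemma subComp_le (M : SubMod G) (N : SubMod M.toModules) (O : Y.Opens) :
    (subComp M N).mem O ≤ M.mem O := by
  rintro _ ⟨a, -, rfl⟩
  exact M.ι_app_mem O a

lemma ftOn_subComp (M : SubMod G) (N : SubMod M.toModules) {W : Y.Opens} (h : FTOn N W) :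
    FTOn (subComp M N) W := by
  intro x hx
  obtain ⟨V, hV, hxV, hVW, T, hT⟩ := h x hx
  refine ⟨V, hV, hxV, hVW, M.ι.app V '' T, hT.fin.image _, ?_, fun O hO s hs y hy => ?_⟩
  · rintro _ ⟨t, ht, rfl⟩
    exact ⟨t, hT.mem t ht, rfl⟩
  · obtain ⟨a, ha, rfl⟩ := hs
    obtain ⟨P, hP, hyP, hsP⟩ := hT.gen O hO a ha y hy
    refine ⟨P, hP, hyP, ?_⟩
    have e : rs G hP (M.ι.app O a) = M.ι.app P (rs M.toModules hP a) := (map_app_comm _ _ _).symm
    rw [e]
    generalize rs M.toModules hP a = a' at hsP ⊢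
    induction hsP using Submodule.span_induction with
    | mem z hz =>
      obtain ⟨t, ht, rfl⟩ := hz
      refine Submodule.subset_span ⟨_, ⟨t, ht, rfl⟩, ?_⟩
      exact (map_app_comm _ _ _).symm
    | zero => rw [map_zero]; exact zero_mem _
    | add a b _ _ ha hb => rw [map_add]; exact add_mem ha hb
    | smul r a _ ha => rw [ι_app_smul]; exact Submodule.smul_mem _ _ ha

/-- Finitely many elements of degree `n` lie in a finite type submodule of degree `n`. -/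
theorem exists_ftOn_deg (n : ℕ) {ι : Type*} [Finite ι] (U : ι → Y.Opens) (hU : ∀ i, IsAffineOpen (U i))
    (hs : ∀ i, ExtStep (U i)) (T : ∀ i, Set (𝒮.presheaf.obj (op (U i))))
    (hTfin : ∀ i, (T i).Finite) (hT : ∀ i, T i ⊆ (𝒮.deg (U i) (hU i) n : Set _)) :
    ∃ N : SubMod 𝒮.toQCAlg.toModule, FTOn N ⊤ ∧
      (∀ (V : Y.Opens) (hV : IsAffineOpen V) (s : 𝒮.presheaf.obj (op V)),
        (show Γ(𝒮.toQCAlg.toModule, V) from s) ∈ N.mem V → s ∈ 𝒮.deg V hV n) ∧
      ∀ i, ∀ t ∈ T i, (show Γ(𝒮.toQCAlg.toModule, U i) from t) ∈ N.mem (U i) := by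
  have hlift : ∀ i, ∃ T' : Set Γ((degSub 𝒮 n).toModules, U i), T'.Finite ∧
      ∀ t ∈ T i, ∃ t' ∈ T', (degSub 𝒮 n).ι.app (U i) t' = (show Γ(𝒮.toQCAlg.toModule, U i) from t) := fun i => by
    refine ⟨(degSub 𝒮 n).ι.app (U i) ⁻¹' (T i : Set Γ(𝒮.toQCAlg.toModule, U i)),
      (hTfin i).preimage ((degSub 𝒮 n).ι_app_injective _).injOn, fun t ht => ?_⟩
    obtain ⟨t', ht'⟩ := (degSub 𝒮 n).exists_app_eq ((mem_degSub_iff 𝒮 (hU i) t).mpr (hT i ht))
    exact ⟨t', show _ ∈ T i from ht' ▸ ht, ht'⟩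
  choose T' hT'fin hT' using hlift
  choose N hN hTN using fun i =>
    exists_ftOn_contains (isQCoh_degSub 𝒮 n) (hU i) (hs i) (T' i) (hT'fin i)
  refine ⟨subComp _ (sumSub N), ftOn_subComp _ _ (ftOn_sumSub N hN),
    fun V hV s hs => (mem_degSub_iff 𝒮 hV s).mp (subComp_le _ _ V hs), fun i t ht => ?_⟩
  obtain ⟨t', ht', e⟩ := hT' i t ht
  exact ⟨t', le_sumSub N i _ (hTN i ht'), e⟩

end Groth.Agent.RLPsi35
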