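import Groth.Agent.RLPsi35.Pow

/-!
Killing and extending homogeneous sections over the generating locus of a section.
-/

universe u

set_option backward.isDefEq.respectTransparency false
set_option backward.isDefEq.respectTransparency.types false

open CategoryTheory CategoryTheory.Limits AlgebraicGeometry TopologicalSpace Opposite
open Groth.Agent.QCoh

noncomputable section

namespace Groth.Agent.RLPsi35

open AModX AmpleX

variable {X : Scheme.{u}} {𝒮 : RelProj.QCGrAlg X} {L : X.Modules} (hL : PicF.IsInvertible L)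
  {j : L ⟶ 𝒮.toModule} (hLq : Coh.IsQCoh L) (hj : RelProj.IsGrSymAlg L 𝒮 j)

lemma mul_mem_degSub {m n : ℕ} {W : X.Opens} {a b : 𝒮.presheaf.obj (op W)}
    (ha : (show Γ(𝒮.toQCAlg.toModule, W) from a) ∈ (degSub 𝒮 m).mem W)
    (hb : (show Γ(𝒮.toQCAlg.toModule, W) from b) ∈ (degSub 𝒮 n).mem W) :
    (show Γ(𝒮.toQCAlg.toModule, W) from a * b) ∈ (degSub 𝒮 (m + n)).mem W := fun V hV h => by
  show rB 𝒮.toQCAlg h (a * b) ∈ _
  rw [map_mul]
  exact SetLike.mul_mem_graded (ha V hV h) (hb V hV h)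

lemma pow_mem_degSub {m : ℕ} {W : X.Opens} {a : 𝒮.presheaf.obj (op W)}
    (ha : (show Γ(𝒮.toQCAlg.toModule, W) from a) ∈ (degSub 𝒮 m).mem W) (k : ℕ) :
    (show Γ(𝒮.toQCAlg.toModule, W) from a ^ k) ∈ (degSub 𝒮 (k * m)).mem W := fun V hV h => by
  show rB 𝒮.toQCAlg h (a ^ k) ∈ _
  rw [map_pow, ← smul_eq_mul]
  exact SetLike.pow_mem_graded k (ha V hV h)

lemma str_rB {U V : X.Opens} (h : V ≤ U) (r : Γ(X, U)) :
    rB 𝒮.toQCAlg h ((𝒮.str.app (op U)).hom r) = (𝒮.str.app (op V)).hom (resR h r) :=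
  LineCone35.str_res 𝒮.toQCAlg h r

include hL in
/-- A finite cover of a compact open by affine frames. -/
lemma exists_finite_frames {W : X.Opens} (hW : IsCompact (W : Set X)) :
    ∃ (s : Finset {a : Fr L // a.U ≤ W}), ∀ x ∈ W, ∃ a ∈ s, x ∈ a.1.U := by
  obtain ⟨s, hs⟩ := hW.elim_finite_subcover (fun a : {a : Fr L // a.U ≤ W} => (a.1.U : Set X))
    (fun a => a.1.U.2) fun x hx => by
      obtain ⟨V, hV, t, ht, hxV, hVW⟩ := exists_affine_frame hL hx
      exact Set.mem_iUnion.mpr ⟨⟨⟨⟨V, hV⟩, t, ht⟩, hVW⟩, hxV⟩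
  refine ⟨s, fun x hx => ?_⟩
  obtain ⟨a, ha, hxa⟩ := Set.mem_iUnion₂.mp (hs hx)
  exact ⟨a, ha, hxa⟩

include hLq hj in
/-- A homogeneous section vanishing on the generating locus is killed by a power of the section. -/
theorem exists_pw_pow_mul_eq_zero {W : X.Opens} (hW : IsCompact (W : Set X)) {m n : ℕ}
    (a : Γ(CohB1.tensorPow L m, W)) {δ : 𝒮.presheaf.obj (op W)}
    (hδ : (show Γ(𝒮.toQCAlg.toModule, W) from δ) ∈ (degSub 𝒮 n).mem W)
    (h0 : rB 𝒮.toQCAlg (locus_le a) δ = 0) :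
    ∃ M : ℕ, ∀ k, M ≤ k → pw hL j a ^ k * δ = 0 := by
  classical
  obtain ⟨s, hs⟩ := exists_finite_frames hL hW
  have hM : ∀ i : {a : Fr L // a.U ≤ W}, ∃ M : ℕ,
      rB 𝒮.toQCAlg i.2 (pw hL j a ^ M * δ) = 0 := fun i => by
    obtain ⟨⟨⟨V, hV⟩, t, ht⟩, hVW⟩ := i
    obtain ⟨c, hc⟩ := (isFrame_powElt ht m).exists_coord le_rfl (res _ hVW a)
    rw [res_self] at hc
    obtain ⟨e, he⟩ := LineCone35.exists_of_mem_deg j hLq hj hV ht n _ (hδ V hV hVW)
    have hD : X.basicOpen c ≤ locus a := (locus_frame hVW ht hc).ge.trans inf_le_left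
    have he0 : AModX.resR (X.basicOpen_le c) e = 0 := by
      refine LineCone35.eq_zero_of_mul_pow j hLq hj (hV.basicOpen c) (ht.res (X.basicOpen_le c)) _ n ?_
      rw [← LineCone35.str_res, ← LineCone35.elt_res, ← map_pow, ← map_mul, ← he]
      show rB 𝒮.toQCAlg (X.basicOpen_le c) (rB 𝒮.toQCAlg hVW δ) = 0
      rw [CExt24.rB_rB, ← CExt24.rB_rB 𝒮.toQCAlg (locus_le a) hD, h0, map_zero]
    have := hV.isLocalization_basicOpen c
    obtain ⟨⟨_, M, rfl⟩, hM⟩ := (IsLocalization.map_eq_zero_iff (Submonoid.powers c) Γ(X, X.basicOpen c) e).mp he0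
    refine ⟨M, ?_⟩
    show rB 𝒮.toQCAlg hVW _ = 0
    rw [map_mul, map_pow, pw_res, hc, pw_frame_smul hL hV ht, he, mul_pow, ← map_pow]
    have hM' : c ^ M * e = 0 := hM
    calc _ = (𝒮.str.app (op V)).hom (c ^ M * e) * ((LineCone35.elt j t ^ m) ^ M * LineCone35.elt j t ^ n) := by
          rw [map_mul]; ring
      _ = 0 := by rw [hM', map_zero, zero_mul]
  choose M hM using hM
  refine ⟨s.sup M, fun k hk => eq_of_locally_alg 𝒮 _ _ fun x hx => ?_⟩
  obtain ⟨i, his, hxi⟩ := hs x hx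
  refine ⟨_, i.2, hxi, ?_⟩
  obtain ⟨l, rfl⟩ := Nat.exists_eq_add_of_le ((Finset.le_sup his).trans hk)
  rw [add_comm, pow_add, mul_assoc, map_mul, hM i, mul_zero, map_zero]

include hLq hj in
/-- A homogeneous section on the generating locus extends after multiplication by a power of the section. -/
theorem exists_pw_extend_mem {W : X.Opens} (hW : IsCompact (W : Set X))
    (hW' : IsQuasiSeparated (W : Set X)) {m n : ℕ} (a : Γ(CohB1.tensorPow L m, W))
    {t : 𝒮.presheaf.obj (op (locus a))}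
    (ht : (show Γ(𝒮.toQCAlg.toModule, locus a) from t) ∈ (degSub 𝒮 n).mem (locus a)) :
    ∃ (N : ℕ) (T : 𝒮.presheaf.obj (op W)), 0 < N ∧
      (show Γ(𝒮.toQCAlg.toModule, W) from T) ∈ (degSub 𝒮 (n + N * m)).mem W ∧
      rB 𝒮.toQCAlg (locus_le a) T = t * rB 𝒮.toQCAlg (locus_le a) (pw hL j a) ^ N := by
  classical
  obtain ⟨s, hs⟩ := exists_finite_frames hL hW
  set g := pw hL j a with hg
  have hgm : (show Γ(𝒮.toQCAlg.toModule, W) from g) ∈ (degSub 𝒮 m).mem W := pw_mem hL hj a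
  -- local extensions
  have hloc : ∀ i : {a : Fr L // a.U ≤ W}, ∃ (k : ℕ) (h : 𝒮.presheaf.obj (op i.1.U)),
      (show Γ(𝒮.toQCAlg.toModule, i.1.U) from h) ∈ (degSub 𝒮 (n + k * m)).mem i.1.U ∧
      rB 𝒮.toQCAlg (inf_le_left : i.1.U ⊓ locus a ≤ _) h =
        rB 𝒮.toQCAlg (inf_le_right : i.1.U ⊓ locus a ≤ _) t *
          rB 𝒮.toQCAlg (inf_le_right.trans (locus_le a) : i.1.U ⊓ locus a ≤ W) g ^ k := fun i => by
    obtain ⟨⟨⟨V, hV⟩, f, hf⟩, hVW⟩ := i
    obtain ⟨c, hc⟩ := (isFrame_powElt hf m).exists_coord le_rfl (res _ hVW a)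
    rw [res_self] at hc
    have hD := locus_frame hVW hf hc
    have hDle : X.basicOpen c ≤ locus a := hD.ge.trans inf_le_left
    have := hV.isLocalization_basicOpen c
    obtain ⟨e, he⟩ := LineCone35.exists_of_mem_deg j hLq hj (hV.basicOpen c) (hf.res (X.basicOpen_le c)) n
      (rB 𝒮.toQCAlg hDle t) (ht (X.basicOpen c) (hV.basicOpen c) hDle)
    obtain ⟨⟨b, ⟨_, k, rfl⟩⟩, hb⟩ := IsLocalization.surj (Submonoid.powers c) e
    refine ⟨k, (𝒮.str.app (op V)).hom b * (LineCone35.elt j f ^ n * (LineCone35.elt j f ^ m) ^ k),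
      (mem_degSub_iff 𝒮 hV _).mpr ?_, ?_⟩
    · simpa [mul_comm k m] using SetLike.mul_mem_graded (𝒮.str_mem V hV b)
        (SetLike.mul_mem_graded (SetLike.pow_mem_graded n (LineCone35.elt_mem j hj hV (t := f)))
          (SetLike.pow_mem_graded k (SetLike.pow_mem_graded m (LineCone35.elt_mem j hj hV (t := f)))))
    · have hle : V ⊓ locus a ≤ X.basicOpen c := by rw [inf_comm]; exact hD.le
      have hb' : resR (inf_le_left : V ⊓ locus a ≤ V) b =
          resR hle e * resR (inf_le_left : V ⊓ locus a ≤ V) c ^ k := by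
        have h1 : e * resR (X.basicOpen_le c) (c ^ k) = resR (X.basicOpen_le c) b := hb
        have h2 := congrArg (resR hle) h1
        rw [map_mul, resR_resR, resR_resR, map_pow] at h2
        exact h2.symm
      have htV : rB 𝒮.toQCAlg (inf_le_right : V ⊓ locus a ≤ locus a) t =
          (𝒮.str.app (op (V ⊓ locus a))).hom (resR hle e) *
            rB 𝒮.toQCAlg (inf_le_left : V ⊓ locus a ≤ V) (LineCone35.elt j f) ^ n := by
        rw [← CExt24.rB_rB 𝒮.toQCAlg hDle hle, he, map_mul, map_pow, str_rB, ← LineCone35.elt_res]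
        exact congrArg (_ * · ^ n) (CExt24.rB_rB 𝒮.toQCAlg (X.basicOpen_le c) hle (LineCone35.elt j f))
      have hgV : rB 𝒮.toQCAlg (inf_le_right.trans (locus_le a) : V ⊓ locus a ≤ W) g =
          (𝒮.str.app (op (V ⊓ locus a))).hom (resR inf_le_left c) *
            rB 𝒮.toQCAlg (inf_le_left : V ⊓ locus a ≤ V) (LineCone35.elt j f ^ m) := by
        rw [← CExt24.rB_rB 𝒮.toQCAlg hVW (inf_le_left : V ⊓ locus a ≤ V), hg, pw_res, hc,
          pw_frame_smul hL hV hf, map_mul, str_rB]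
      show rB 𝒮.toQCAlg (inf_le_left : V ⊓ locus a ≤ V) _ = _
      rw [htV, map_mul, map_mul, str_rB, map_pow _ _ k, hgV, mul_pow, hb', map_mul, map_pow _ _ k,
        map_pow _ _ n]
      ring
  choose k h hmem hh using hloc
  -- a common exponent
  let N := s.sup k + 1
  let h' : ∀ i : s, 𝒮.presheaf.obj (op i.1.1.U) := fun i =>
    rB 𝒮.toQCAlg i.1.2 g ^ (N - k i.1) * h i.1
  have hk : ∀ i : s, N - k i.1 + k i.1 = N := fun i =>
    Nat.sub_add_cancel ((Finset.le_sup i.2).trans (Nat.le_succ _))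
  have hmem' : ∀ i : s, (show Γ(𝒮.toQCAlg.toModule, i.1.1.U) from h' i) ∈ (degSub 𝒮 (n + N * m)).mem i.1.1.U :=
    fun i => by
      have := mul_mem_degSub (pow_mem_degSub ((degSub 𝒮 m).map_mem i.1.2 hgm) (N - k i.1)) (hmem i.1)
      rw [← add_assoc, add_comm _ n, add_assoc, ← add_mul, hk i] at this
      exact this
  have hh' : ∀ i : s, rB 𝒮.toQCAlg (inf_le_left : i.1.1.U ⊓ locus a ≤ _) (h' i) =
      rB 𝒮.toQCAlg (inf_le_right : i.1.1.U ⊓ locus a ≤ _) t *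
        rB 𝒮.toQCAlg (inf_le_right.trans (locus_le a) : i.1.1.U ⊓ locus a ≤ W) g ^ N := fun i => by
    rw [map_mul, map_pow, CExt24.rB_rB, hh i.1, mul_left_comm, ← pow_add, hk i]
  clear_value h'
  -- agreement up to powers
  have hagree : ∀ p : s × s, ∃ M : ℕ,
      rB 𝒮.toQCAlg (inf_le_left : p.1.1.1.U ⊓ p.2.1.1.U ≤ p.1.1.1.U) (rB 𝒮.toQCAlg p.1.1.2 g ^ M * h' p.1) =
      rB 𝒮.toQCAlg (inf_le_right : p.1.1.1.U ⊓ p.2.1.1.U ≤ p.2.1.1.U) (rB 𝒮.toQCAlg p.2.1.2 g ^ M * h' p.2) :=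
    fun ⟨i, i'⟩ => by
      let O := i.1.1.U ⊓ i'.1.1.U
      have hO : IsCompact (O : Set X) :=
        hW' _ _ i.1.2 i.1.1.U.2 i.1.1.1.2.isCompact i'.1.2 i'.1.1.U.2 i'.1.1.1.2.isCompact
      have hOW : O ≤ W := inf_le_left.trans i.1.2
      let δ := rB 𝒮.toQCAlg (inf_le_left : O ≤ _) (h' i) - rB 𝒮.toQCAlg (inf_le_right : O ≤ _) (h' i')
      have hδ : (show Γ(𝒮.toQCAlg.toModule, O) from δ) ∈ (degSub 𝒮 (n + N * m)).mem O :=
        Submodule.sub_mem _ ((degSub 𝒮 _).map_mem inf_le_left (hmem' i))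
          ((degSub 𝒮 _).map_mem inf_le_right (hmem' i'))
      have hl : locus (res _ hOW a) = locus a ⊓ O := locus_res a hOW
      have hl1 : locus (res _ hOW a) ≤ i.1.1.U ⊓ locus a :=
        le_inf ((locus_le _).trans inf_le_left) (hl.le.trans inf_le_left)
      have hl2 : locus (res _ hOW a) ≤ i'.1.1.U ⊓ locus a :=
        le_inf ((locus_le _).trans inf_le_right) (hl.le.trans inf_le_left)
      obtain ⟨M, hM⟩ := exists_pw_pow_mul_eq_zero hL hLq hj hO (res _ hOW a) hδ (by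
        rw [map_sub, sub_eq_zero, CExt24.rB_rB, CExt24.rB_rB,
          ← CExt24.rB_rB 𝒮.toQCAlg (inf_le_left : i.1.1.U ⊓ locus a ≤ _) hl1,
          ← CExt24.rB_rB 𝒮.toQCAlg (inf_le_left : i'.1.1.U ⊓ locus a ≤ _) hl2, hh', hh', map_mul, map_mul,
          map_pow, map_pow, CExt24.rB_rB, CExt24.rB_rB, CExt24.rB_rB, CExt24.rB_rB])
      refine ⟨M, ?_⟩
      have := hM M le_rfl
      rw [← pw_res, mul_sub, sub_eq_zero] at this
      rw [map_mul, map_mul, map_pow, map_pow, CExt24.rB_rB, CExt24.rB_rB]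
      exact this
  choose M hM using hagree
  let M₀ := Finset.univ.sup M
  let T₀ : ∀ i : s, 𝒮.presheaf.obj (op i.1.1.U) := fun i => rB 𝒮.toQCAlg i.1.2 g ^ M₀ * h' i
  obtain ⟨T, hT, -⟩ := AModX.existsUnique_glue (M := 𝒮.toQCAlg.toModule) (V := W)
    (fun i : s => i.1.1.U) (fun i => i.1.2)
    (fun x hx => by
      obtain ⟨i, hi, hxi⟩ := hs x hx
      exact ⟨⟨i, hi⟩, hxi⟩)
    T₀ fun i i' => by
      obtain ⟨l, hl⟩ := Nat.exists_eq_add_of_le (Finset.le_sup (f := M) (Finset.mem_univ (i, i')))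
      show rB 𝒮.toQCAlg inf_le_left (T₀ i) = rB 𝒮.toQCAlg inf_le_right (T₀ i')
      show rB 𝒮.toQCAlg inf_le_left (rB 𝒮.toQCAlg i.1.2 g ^ M₀ * h' i) =
        rB 𝒮.toQCAlg inf_le_right (rB 𝒮.toQCAlg i'.1.2 g ^ M₀ * h' i')
      have := congrArg (rB 𝒮.toQCAlg ((inf_le_left : i.1.1.U ⊓ i'.1.1.U ≤ _).trans i.1.2) g ^ l * ·) (hM (i, i'))
      simp only [map_mul, map_pow, CExt24.rB_rB] at this
      rw [show M₀ = _ from hl, add_comm, map_mul, map_mul, map_pow, map_pow, CExt24.rB_rB, CExt24.rB_rB,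
        pow_add, mul_assoc, mul_assoc]
      exact this
  refine ⟨N + M₀, T, by omega, (degSub 𝒮 _).of_locally W _ fun x hx => ?_, eq_of_locally_alg 𝒮 _ _ fun x hx => ?_⟩
  · obtain ⟨i, hi, hxi⟩ := hs x hx
    refine ⟨_, i.2, hxi, ?_⟩
    have e : QCoh.rs 𝒮.toQCAlg.toModule i.2 T = T₀ ⟨i, hi⟩ := hT ⟨i, hi⟩
    refine (congrArg (· ∈ (degSub 𝒮 _).mem _) e).mpr ?_
    have := mul_mem_degSub (pow_mem_degSub ((degSub 𝒮 m).map_mem i.2 hgm) M₀) (hmem' ⟨i, hi⟩)
    rw [← add_assoc, add_comm _ n, add_assoc, ← add_mul, add_comm M₀] at this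
    exact this
  · obtain ⟨i, hi, hxi⟩ := hs x (locus_le a hx)
    refine ⟨i.1.U ⊓ locus a, inf_le_right, ⟨hxi, hx⟩, ?_⟩
    have e : rB 𝒮.toQCAlg i.2 T = T₀ ⟨i, hi⟩ := hT ⟨i, hi⟩
    rw [CExt24.rB_rB, ← CExt24.rB_rB 𝒮.toQCAlg i.2 (inf_le_left : i.1.U ⊓ locus a ≤ _), e,
      map_mul, map_mul, map_pow, map_pow, CExt24.rB_rB, CExt24.rB_rB, hh' ⟨i, hi⟩,
      mul_left_comm, ← pow_add, add_comm M₀]


include hLq hj in
/-- A function on the generating locus extends after multiplication by a power of the section. -/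
theorem exists_pw_extend {W : X.Opens} (hW : IsCompact (W : Set X))
    (hW' : IsQuasiSeparated (W : Set X)) {m : ℕ} (a : Γ(CohB1.tensorPow L m, W)) (t : Γ(X, locus a)) :
    ∃ (N : ℕ) (T : 𝒮.presheaf.obj (op W)), 0 < N ∧
      (show Γ(𝒮.toQCAlg.toModule, W) from T) ∈ (degSub 𝒮 (N * m)).mem W ∧
      rB 𝒮.toQCAlg (locus_le a) T =
        (𝒮.str.app (op (locus a))).hom t * rB 𝒮.toQCAlg (locus_le a) (pw hL j a) ^ N := by
  obtain ⟨N, T, hN, hT, he⟩ := exists_pw_extend_mem hL hLq hj hW hW' a (n := 0)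
    (t := (𝒮.str.app (op (locus a))).hom t) fun V hV h => by
      show rB 𝒮.toQCAlg h _ ∈ _
      rw [str_rB]
      exact 𝒮.str_mem V hV _
  exact ⟨N, T, hN, by rwa [zero_add] at hT, he⟩

end Groth.Agent.RLPsi35
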