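import Groth.Agent.RLPsi35.Crit
import Groth.Agent.RLPsi35.Comp
import Mathlib.AlgebraicGeometry.Morphisms.FiniteType
import Mathlib.Topology.NoetherianSpace

/-!
Finitely many generators suffice for the immersion criterion.
-/

universe u

open CategoryTheory CategoryTheory.Limits AlgebraicGeometry TopologicalSpace Opposite
open HomogeneousLocalization
open scoped HomogeneousIdeal

noncomputable section

namespace Groth.Agent.RLPsi35

variable {Y X : Scheme.{u}} {q : X ⟶ Y} {𝒮 : RelProj.QCGrAlg Y} {𝒮L : RelProj.QCGrAlg X}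
  {u : RelProj.QGrHom q 𝒮 𝒮L}
  {P : Scheme.{u}} {p : P ⟶ Y}
  {chart : ∀ (U : Y.Opens) (hU : IsAffineOpen U), (((p ⁻¹ᵁ U : P.Opens) : Scheme.{u}) ≅ Proj (𝒮.deg U hU))}
  {PL : Scheme.{u}} {pL : PL ⟶ X}
  {chartL : ∀ (U : X.Opens) (hU : IsAffineOpen U), (((pL ⁻¹ᵁ U : PL.Opens) : Scheme.{u}) ≅ Proj (𝒮L.deg U hU))}
  (hP : RelProj.IsRelProj 𝒮 p chart) (hPL : RelProj.IsRelProj 𝒮L pL chartL)

include hP hPL in
/-- It is enough to check the condition on generators over the base. -/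
theorem Piece.cond_of_generators [IsIso pL] (c : Piece u pL chartL) (G : Finset Γ(X, c.V))
    (hG : letI := (q.appLE c.U c.V c.hle).hom.toAlgebra
      Algebra.adjoin Γ(Y, c.U) (G : Set Γ(X, c.V)) = ⊤)
    (h : ∀ g ∈ G, ∃ m : ℕ, ∃ s ∈ 𝒮.deg c.U c.hU (m * c.d),
      (𝒮L.str.app (op c.V)).hom g * (u.appLE c.U c.V c.hle).hom c.f ^ m = (u.appLE c.U c.V c.hle).hom s) :
    c.Cond := by
  refine (c.cond_iff hP hPL).mpr fun b => ?_
  obtain ⟨a, rfl⟩ := c.surjective_baseToAway hP hPL b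
  let base := ProjBC35.baseToAway (𝒮L.str.app (op c.V)).hom (𝒮L.str_mem c.V c.hV) (c.ψ c.f)
  suffices H : ∀ a, base a ∈ (Away.map c.ψ c.f).range from H a
  intro a
  let : Algebra Γ(Y, c.U) Γ(X, c.V) := (q.appLE c.U c.V c.hle).hom.toAlgebra
  have ha : a ∈ Algebra.adjoin Γ(Y, c.U) (G : Set Γ(X, c.V)) := hG ▸ Algebra.mem_top
  induction ha using Algebra.adjoin_induction with
  | mem g hg =>
    obtain ⟨m, s, hs, he⟩ := h g hg
    refine ⟨Away.mk _ c.hf m s (by rwa [smul_eq_mul]), val_injective _ ?_⟩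
    rw [Away.map_mk, Away.val_mk, ProjBC35.val_baseToAway, ← Localization.mk_one_eq_algebraMap,
      Localization.mk_eq_mk_iff, Localization.r_iff_exists]
    refine ⟨1, ?_⟩
    simp only [OneMemClass.coe_one, one_mul]
    exact ((mul_comm _ _).trans he).symm
  | algebraMap r =>
    exact ⟨ProjBC35.baseToAway (𝒮.str.app (op c.U)).hom (𝒮.str_mem c.U c.hU) c.f r,
      (ProjBC35.baseToAway_map (g := (q.appLE c.U c.V c.hle).hom) (ρ := (𝒮.str.app (op c.U)).hom)
        (ρ' := (𝒮L.str.app (op c.V)).hom) (hρ := 𝒮.str_mem c.U c.hU) (hρ' := 𝒮L.str_mem c.V c.hV)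
        (φ := c.ψ) (fun r => (congr($(u.toQHom.str_appLE c.U c.V c.hle).hom r)).symm) r).symm⟩
  | add x y _ _ hx hy => rw [map_add]; exact add_mem hx hy
  | mul x y _ _ hx hy => rw [map_mul]; exact mul_mem hx hy

include hP hPL in
/-- An immersion has good pieces around all points. -/
theorem exists_cond_piece [IsIso pL] {r : ((RelProj.domQ u pL chartL : PL.Opens) : Scheme.{u}) ⟶ P}
    (hr : RelProj.IsProjQMapOn u p chart pL chartL (RelProj.domQ u pL chartL) r)
    (htop : RelProj.domQ u pL chartL = ⊤) [IsImmersion r] (x : X) :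
    ∃ c : Piece u pL chartL, x ∈ c.V ∧ c.Cond := by
  obtain ⟨z, rfl⟩ := pL.surjective x
  let z' : (RelProj.domQ u pL chartL : PL.Opens) := ⟨z, htop ▸ trivial⟩
  obtain ⟨_, ⟨U, hU₀, rfl⟩, hzU, -⟩ := Y.isBasis_affineOpens.exists_subset_of_mem_open
    (Set.mem_univ (p (r z'))) isOpen_univ
  have hU : IsAffineOpen U := hU₀
  obtain ⟨d, f, hd, hf, hmem, hle⟩ := exists_open_le (chart := chart) hU hzU
    (show r z' ∈ r.coborderRange from subset_coborder ⟨z', rfl⟩)
  obtain ⟨c, -, -, hcO, hc⟩ := exists_piece hP hPL hr hU hd hf (isClosedImmersion_morphismRestrict r hle)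
  refine ⟨c, (c.mem_iff z).mp ((hit_iff_apply_mem hP hPL hr c.hU c.hd c.hf z').mpr ?_), hc⟩
  show r z' ∈ c.open' p chart
  rw [hcO]; exact hmem

include hP hPL in
/-- Finitely many homogeneous elements of one degree detect an immersion. -/
theorem exists_degree_and_elements [IsIso pL] [LocallyOfFiniteType q] [CompactSpace X]
    {r : ((RelProj.domQ u pL chartL : PL.Opens) : Scheme.{u}) ⟶ P}
    (hr : RelProj.IsProjQMapOn u p chart pL chartL (RelProj.domQ u pL chartL) r)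
    (htop : RelProj.domQ u pL chartL = ⊤) (himm : IsImmersion r) :
    ∃ (n : ℕ) (_ : 0 < n) (K : Type u) (_ : Finite K) (c : K → Piece u pL chartL)
      (T : ∀ k, Set (𝒮.presheaf.obj (op (c k).U))),
      (∀ z : PL, ∃ k, pL z ∈ (c k).V) ∧ (∀ k, (T k).Finite) ∧
      (∀ k, T k ⊆ (𝒮.deg (c k).U (c k).hU n : Set _)) ∧
      ∀ k, (c k).d = n ∧ (c k).f ∈ T k ∧ ∃ G : Finset Γ(X, (c k).V),
        (letI := (q.appLE (c k).U (c k).V (c k).hle).hom.toAlgebra;
          Algebra.adjoin Γ(Y, (c k).U) (G : Set Γ(X, (c k).V)) = ⊤) ∧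
        ∀ g ∈ G, ∃ s ∈ T k, (𝒮L.str.app (op (c k).V)).hom g * (u.appLE (c k).U (c k).V (c k).hle).hom (c k).f =
          (u.appLE (c k).U (c k).V (c k).hle).hom s := by
  classical
  choose c hxc hc using exists_cond_piece hP hPL hr htop
  obtain ⟨K, hK⟩ := isCompact_univ.elim_finite_subcover (fun x => ((c x).V : Set X))
    (fun x => (c x).V.isOpen) fun x _ => Set.mem_iUnion.mpr ⟨x, hxc x⟩
  have hft : ∀ k : K, ∃ G : Finset Γ(X, (c k).V),
      (letI := (q.appLE (c k).U (c k).V (c k).hle).hom.toAlgebra;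
        Algebra.adjoin Γ(Y, (c k).U) (G : Set Γ(X, (c k).V)) = ⊤) :=
    fun k => (q.finiteType_appLE (c k).hU (c k).hV (c k).hle).out
  choose G hG using hft
  choose m hm s hs he using fun (k : K) (g : G k) => hc k.1 g.1
  let M : K → ℕ := fun k => (Finset.univ.sup (m k)) + 1
  let n : ℕ := (∏ k : K, M k * (c k).d)
  have hMd : ∀ k : K, 0 < M k * (c k).d := fun k => Nat.mul_pos (Nat.succ_pos _) (c k).hd
  have hn : 0 < n := Finset.prod_pos fun k _ => hMd k
  let N : K → ℕ := fun k => n / (c k).d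
  have hN : ∀ k : K, N k * (c k).d = n ∧ ∀ g, m k g ≤ N k := fun k => by
    have hdvd : M k * (c k).d ∣ n := Finset.dvd_prod_of_mem _ (Finset.mem_univ k)
    refine ⟨Nat.div_mul_cancel ((dvd_mul_left _ _).trans hdvd), fun g => ?_⟩
    refine ((Finset.le_sup (Finset.mem_univ g)).trans (Nat.le_succ _)).trans ?_
    exact (Nat.le_div_iff_mul_le (c k).hd).mpr (Nat.le_of_dvd hn hdvd)
  let c' : K → Piece u pL chartL := fun k =>
    ⟨(c k).U, (c k).hU, n, hn, (c k).f ^ N k, by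
      rw [← (hN k).1, ← smul_eq_mul]; exact SetLike.pow_mem_graded _ (c k).hf,
      (c k).V, (c k).hV, (c k).hle, fun z => by
      have h0 : 0 < N k := by
        rcases Nat.eq_zero_or_pos (N k) with h | h
        · have := (hN k).1; rw [h, zero_mul] at this; omega
        · exact h
      rw [hit_pow_iff h0]; exact (c k).mem_iff z⟩
  refine ⟨n, hn, K, inferInstance, c',
    fun k => insert ((c k).f ^ N k) (Set.range fun g : G k => s k g * (c k).f ^ (N k - m k g)),
    fun z => ?_, fun k => (Set.finite_range _).insert _, fun k => ?_, fun k => ⟨rfl, Set.mem_insert _ _, G k, hG k, fun g hg => ?_⟩⟩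
  · obtain ⟨x, hx, hzx⟩ := Set.mem_iUnion₂.mp (hK (Set.mem_univ (pL z)))
    exact ⟨⟨x, hx⟩, hzx⟩
  · rintro _ (rfl | ⟨g, rfl⟩)
    · exact (c' k).hf
    · show s k g * (c k).f ^ (N k - m k g) ∈ 𝒮.deg (c k).U (c k).hU n
      have := SetLike.mul_mem_graded (hs k g) (SetLike.pow_mem_graded (N k - m k g) (c k).hf)
      rwa [smul_eq_mul, ← add_mul, Nat.add_sub_cancel' ((hN k).2 g), (hN k).1] at this
  · refine ⟨_, Set.mem_insert_of_mem _ ⟨⟨g, hg⟩, rfl⟩, ?_⟩
    show _ * (u.appLE (c k).U (c k).V (c k).hle).hom ((c k).f ^ N k) = _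
    rw [map_mul, map_pow, map_pow, ← he k ⟨g, hg⟩, mul_assoc, ← pow_add,
      Nat.add_sub_cancel' ((hN k).2 ⟨g, hg⟩)]

end Groth.Agent.RLPsi35
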