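import Groth.Agent.RLPsi35.Crit

/-!
Families of sections on an affine base.
-/

universe u

open CategoryTheory CategoryTheory.Limits AlgebraicGeometry TopologicalSpace Opposite
open scoped HomogeneousIdeal

noncomputable section

namespace Groth.Agent.RLPsi35

variable {Y X : Scheme.{u}} {q : X ⟶ Y} {L : X.Modules} (hL : PicF.IsInvertible L) (hLq : Coh.IsQCoh L)
  {𝒮 : RelProj.QCGrAlg Y} {𝒮L : RelProj.QCGrAlg X} {j : L ⟶ 𝒮L.toModule} (hj : RelProj.IsGrSymAlg L 𝒮L j)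
  {u : RelProj.QGrHom q 𝒮 𝒮L}
  {PL : Scheme.{u}} {pL : PL ⟶ X}
  {chartL : ∀ (U : X.Opens) (hU : IsAffineOpen U), (((pL ⁻¹ᵁ U : PL.Opens) : Scheme.{u}) ≅ Proj (𝒮L.deg U hU))}
  (hPL : RelProj.IsRelProj 𝒮L pL chartL)
  (hY : IsAffineOpen (⊤ : Y.Opens))

variable (u) in
/-- The open of `X` where the image of a global section does not vanish. -/
abbrev locus (n : ℕ) (f : 𝒮.presheaf.obj (op ⊤)) : X.Opens :=
  ⨆ V : {V : X.affineOpens //
    ((𝒮L.deg V.1 V.2 n : AddSubgroup (𝒮L.presheaf.obj (op (V.1 : X.Opens)))) : Set (𝒮L.presheaf.obj (op (V.1 : X.Opens)))) ⊆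
      (Ideal.span {(u.appLE ⊤ (V.1 : X.Opens) (le_top.trans (Scheme.Hom.preimage_top q).ge)).hom f} : Set (𝒮L.presheaf.obj (op (V.1 : X.Opens))))},
    (V.1.1 : X.Opens)

include hL hLq hj hPL in
lemma hit_iff_mem_locus {n : ℕ} (hn : 0 < n) {f : 𝒮.presheaf.obj (op ⊤)} (hf : f ∈ 𝒮.deg ⊤ hY n) (z : PL) :
    Hit u pL chartL ⊤ hY f z ↔ pL z ∈ locus u n f := by
  refine (hit_iff_gen hLq hj hPL hL hn hf).trans ⟨?_, fun hz => ?_⟩
  · rintro ⟨V, hV, hle, hzV, h⟩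
    exact Opens.mem_iSup.mpr ⟨⟨⟨V, hV⟩, h⟩, hzV⟩
  · obtain ⟨⟨⟨V, hV⟩, h⟩, hzV⟩ := Opens.mem_iSup.mp hz
    exact ⟨V, hV, le_top.trans (Scheme.Hom.preimage_top q).ge, hzV, h⟩

/-- A family as in the criteria gives pieces. -/
def mkPiece {n : ℕ} (hn : 0 < n) {f : 𝒮.presheaf.obj (op ⊤)} (hf : f ∈ 𝒮.deg ⊤ hY n)
    {V : X.Opens} (hV : IsAffineOpen V) (hVf : V = locus u n f) : Piece u pL chartL where
  U := ⊤
  hU := hY
  d := n
  hd := hn
  f := f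
  hf := hf
  V := V
  hV := hV
  hle := le_top.trans (Scheme.Hom.preimage_top q).ge
  mem_iff z := hVf ▸ hit_iff_mem_locus hL hLq hj hPL hY hn hf z

variable {P : Scheme.{u}} {p : P ⟶ Y}
  {chart : ∀ (U : Y.Opens) (hU : IsAffineOpen U), (((p ⁻¹ᵁ U : P.Opens) : Scheme.{u}) ≅ Proj (𝒮.deg U hU))}
  (hP : RelProj.IsRelProj 𝒮 p chart)
  {r : ((RelProj.domQ u pL chartL : PL.Opens) : Scheme.{u}) ⟶ P}
  (hr : RelProj.IsProjQMapOn u p chart pL chartL (RelProj.domQ u pL chartL) r)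

include hL hLq hj hPL hP hr hY in
/-- A standard open over which `r` is a closed immersion. -/
theorem good_of_closed {d : ℕ} (hd : 0 < d) {f : 𝒮.presheaf.obj (op ⊤)} (hf : f ∈ 𝒮.deg ⊤ hY d)
    (hcl : IsClosedImmersion (r ∣_ (RelProj.emb p chart ⊤ hY ''ᵁ Proj.basicOpen (𝒮.deg ⊤ hY) f))) :
    ∃ hV : IsAffineOpen (locus u d f), (mkPiece hL hLq hj hPL hY hd hf hV rfl).Cond := by
  have := isIso_pL hLq hj hPL hL
  have : IsAffine (RelProj.emb p chart ⊤ hY ''ᵁ Proj.basicOpen (𝒮.deg ⊤ hY) f : P.Opens) := by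
    have e : (RelProj.emb p chart ⊤ hY ''ᵁ Proj.basicOpen (𝒮.deg ⊤ hY) f) =
        (Proj.awayι (𝒮.deg ⊤ hY) f hf hd ≫ RelProj.emb p chart ⊤ hY).opensRange :=
      Opens.ext (ProjQMapX.range_toP_base ⊤ hY hd hf).symm
    rw [e]
    exact isAffineOpen_opensRange _
  have hV : IsAffineOpen (locus u d f) := by
    have hpre : IsAffineOpen (r ⁻¹ᵁ (RelProj.emb p chart ⊤ hY ''ᵁ Proj.basicOpen (𝒮.deg ⊤ hY) f)) :=
      isAffine_of_isAffineHom (r ∣_ _)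
    convert hpre.image_of_isOpenImmersion ((RelProj.domQ u pL chartL).ι ≫ pL)
    refine Opens.ext (Set.ext fun y => ?_)
    obtain ⟨z, rfl⟩ := pL.surjective y
    refine (hit_iff_mem_locus hL hLq hj hPL hY hd hf z).symm.trans ⟨fun hz => ?_, ?_⟩
    · exact ⟨⟨z, hz.mem_domQ hd hf⟩, (hit_iff_apply_mem hP hPL hr hY hd hf ⟨z, hz.mem_domQ hd hf⟩).mp hz, rfl⟩
    · rintro ⟨x', hx', hxz⟩
      rw [show z = (RelProj.domQ u pL chartL).ι x' from pL.isOpenEmbedding.injective hxz.symm]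
      exact (hit_iff_apply_mem hP hPL hr hY hd hf x').mpr hx'
  exact ⟨hV, Piece.closed_piece hP hPL hr _ hcl⟩

include hL hLq hj hPL hP hr hY in
/-- Data attached to each point of an everywhere defined immersion. -/
theorem exists_good_of_mem [IsImmersion r] (x : (RelProj.domQ u pL chartL : PL.Opens)) {O : P.Opens}
    (hxO : r x ∈ O) (hO : O ≤ r.coborderRange) :
    ∃ (d : ℕ) (hd : 0 < d) (f : 𝒮.presheaf.obj (op ⊤)) (hf : f ∈ 𝒮.deg ⊤ hY d)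
      (hV : IsAffineOpen (locus u d f)), (mkPiece hL hLq hj hPL hY hd hf hV rfl).Cond ∧
        r x ∈ RelProj.emb p chart ⊤ hY ''ᵁ Proj.basicOpen (𝒮.deg ⊤ hY) f ∧
        RelProj.emb p chart ⊤ hY ''ᵁ Proj.basicOpen (𝒮.deg ⊤ hY) f ≤ O ∧
        pL ((RelProj.domQ u pL chartL).ι x) ∈ locus u d f := by
  obtain ⟨d, f, hd, hf, hmem, hle⟩ := exists_open_le (chart := chart) hY (show p (r x) ∈ (⊤ : Y.Opens) from trivial) hxO
  obtain ⟨hV, hc⟩ := good_of_closed hL hLq hj hPL hY hP hr hd hf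
    (isClosedImmersion_morphismRestrict r (hle.trans hO))
  exact ⟨d, hd, f, hf, hV, hc, hmem, hle, (hit_iff_mem_locus hL hLq hj hPL hY hd hf _).mp
    ((hit_iff_apply_mem hP hPL hr hY hd hf x).mpr hmem)⟩

end Groth.Agent.RLPsi35
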