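import Groth.Agent.RLPsi35.Hit
import Groth.Agent.LineCone35.Local
import Groth.Agent.ProjBC35.Rel

/-!
`Proj` of the symmetric algebra of an invertible module and the nonvanishing loci of its sections.
-/

universe u

open CategoryTheory CategoryTheory.Limits AlgebraicGeometry TopologicalSpace Opposite
open HomogeneousLocalization
open scoped HomogeneousIdeal

noncomputable section

namespace Groth.Agent.RLPsi35

variable {X : Scheme.{u}}

/-- The degree `n` part over `V` is generated by `x`. -/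
def Gen (𝒮L : RelProj.QCGrAlg X) (V : X.Opens) (hV : IsAffineOpen V) (n : ℕ)
    (x : 𝒮L.presheaf.obj (op V)) : Prop :=
  ((𝒮L.deg V hV n : AddSubgroup (𝒮L.presheaf.obj (op V))) : Set (𝒮L.presheaf.obj (op V))) ⊆
    (Ideal.span {x} : Set (𝒮L.presheaf.obj (op V)))

lemma proj_str_mul {𝒮L : RelProj.QCGrAlg X} {V : X.Opens} (hV : IsAffineOpen V) (n : ℕ) (r : Γ(X, V))
    (b : 𝒮L.presheaf.obj (op V)) :
    GradedRing.proj (𝒮L.deg V hV) n ((𝒮L.str.app (op V)).hom r * b) =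
      (𝒮L.str.app (op V)).hom r * GradedRing.proj (𝒮L.deg V hV) n b := by
  simp only [GradedRing.proj_apply]
  exact DirectSum.coe_decompose_mul_of_left_mem_zero (𝒮L.deg V hV) (𝒮L.str_mem V hV r)

lemma gen_res {𝒮L : RelProj.QCGrAlg X} {V : X.Opens} (hV : IsAffineOpen V) {n : ℕ}
    {x : 𝒮L.presheaf.obj (op V)} (h : Gen 𝒮L V hV n x) {W : X.Opens} (hW : IsAffineOpen W)
    (hb : ∃ r : Γ(X, V), X.basicOpen r = W) :
    Gen 𝒮L W hW n ((𝒮L.presheaf.map (homOfLE (ProjQMapX.le_of_basic hb)).op).hom x) := by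
  obtain ⟨r, rfl⟩ := hb
  intro y hy
  letI := (𝒮L.presheaf.map (homOfLE (X.basicOpen_le r)).op).hom.toAlgebra
  have : IsLocalization.Away ((𝒮L.str.app (op V)).hom r) (𝒮L.presheaf.obj (op (X.basicOpen r))) :=
    𝒮L.isQC V hV r
  obtain ⟨⟨b, ⟨_, k, rfl⟩⟩, hb⟩ := IsLocalization.surj (Submonoid.powers ((𝒮L.str.app (op V)).hom r)) y
  have hb' : y * (𝒮L.str.app (op (X.basicOpen r))).hom (AModX.resR (X.basicOpen_le r) (r ^ k)) =
      (𝒮L.presheaf.map (homOfLE (X.basicOpen_le r)).op).hom b := by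
    rw [← LineCone35.str_res, map_pow]
    exact hb
  have hu : IsUnit ((𝒮L.str.app (op (X.basicOpen r))).hom (AModX.resR (X.basicOpen_le r) (r ^ k))) := by
    rw [map_pow, map_pow]
    exact (RingedSpace.isUnit_res_basicOpen X.toLocallyRingedSpace.toRingedSpace r).map _ |>.pow k
  have hmem : (𝒮L.presheaf.map (homOfLE (X.basicOpen_le r)).op).hom b ∈
      𝒮L.deg (X.basicOpen r) hW n := by
    rw [← hb']
    exact add_zero n ▸ SetLike.mul_mem_graded hy (𝒮L.str_mem _ hW _)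
  have hproj : (𝒮L.presheaf.map (homOfLE (X.basicOpen_le r)).op).hom b =
      (𝒮L.presheaf.map (homOfLE (X.basicOpen_le r)).op).hom (GradedRing.proj (𝒮L.deg V hV) n b) := by
    refine Eq.trans ?_ (ConeLib35.proj_map (𝒮L.res hV hW (X.basicOpen_le r)) n b)
    exact (Proj16.proj_of_mem _ hmem).symm
  obtain ⟨c, hc⟩ := Ideal.mem_span_singleton'.mp (h (Proj16.proj_mem (𝒮L.deg V hV) n b))
  rw [hproj, ← hc, map_mul] at hb'
  refine Ideal.mem_span_singleton'.mpr ⟨(𝒮L.presheaf.map (homOfLE (X.basicOpen_le r)).op).hom c *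
    (hu.unit⁻¹ : (_)ˣ), ?_⟩
  rw [mul_right_comm, ← hb', mul_assoc, hu.mul_val_inv, mul_one]

variable {L : X.Modules}

lemma exists_affine_frame (hL : PicF.IsInvertible L) {x : X} {O : X.Opens} (hx : x ∈ O) :
    ∃ (V : X.Opens) (_ : IsAffineOpen V) (t : Γ(L, V)), InvX.IsFrame t ∧ x ∈ V ∧ V ≤ O := by
  obtain ⟨U, hU, e, he⟩ := InvX.exists_frame hL x
  obtain ⟨_, ⟨V, hV, rfl⟩, hxV, hle⟩ := X.isBasis_affineOpens.exists_subset_of_mem_open
    (show x ∈ U ⊓ O from ⟨hU, hx⟩) (U ⊓ O).isOpen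
  exact ⟨V, hV, _, he.res (le_trans hle inf_le_left), hxV, le_trans hle inf_le_right⟩

variable {𝒮L : RelProj.QCGrAlg X} {j : L ⟶ 𝒮L.toModule} (hLq : Coh.IsQCoh L)
  (hj : RelProj.IsGrSymAlg L 𝒮L j)
  {V : X.Opens} (hV : IsAffineOpen V) {t : Γ(L, V)} (ht : InvX.IsFrame t)

include hLq hj ht in
lemma gen_iff_isUnit {n : ℕ} (a : Γ(X, V)) :
    Gen 𝒮L V hV n ((𝒮L.str.app (op V)).hom a * LineCone35.elt j t ^ n) ↔ IsUnit a := by
  have hTn : LineCone35.elt j t ^ n ∈ 𝒮L.deg V hV n := by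
    simpa using SetLike.pow_mem_graded n (LineCone35.elt_mem j hj hV (t := t))
  constructor
  · intro h
    obtain ⟨b, hb⟩ := Ideal.mem_span_singleton'.mp (h hTn)
    obtain ⟨c, hc⟩ : ∃ c, GradedRing.proj (𝒮L.deg V hV) 0 b = (𝒮L.str.app (op V)).hom c := by
      obtain ⟨c, hc⟩ := LineCone35.exists_of_mem_deg j hLq hj hV ht 0 _ (Proj16.proj_mem _ 0 b)
      exact ⟨c, by rw [hc, pow_zero, mul_one]⟩
    have h1 := congrArg (GradedRing.proj (𝒮L.deg V hV) n) hb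
    rw [Proj16.proj_of_mem _ hTn, mul_left_comm, proj_str_mul, GradedRing.proj_apply,
      DirectSum.coe_decompose_mul_of_right_mem_of_le (𝒮L.deg V hV) hTn le_rfl, Nat.sub_self,
      ← GradedRing.proj_apply, hc, ← mul_assoc, ← map_mul] at h1
    refine IsUnit.of_mul_eq_one c (sub_eq_zero.mp (LineCone35.eq_zero_of_mul_pow j hLq hj hV ht _ n ?_))
    rw [map_sub, map_one, sub_mul, one_mul, h1, sub_self]
  · intro ha y hy
    obtain ⟨b, rfl⟩ := LineCone35.exists_of_mem_deg j hLq hj hV ht n y hy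
    refine Ideal.mem_span_singleton'.mpr ⟨(𝒮L.str.app (op V)).hom (b * (ha.unit⁻¹ : (_)ˣ)), ?_⟩
    rw [← mul_assoc, ← map_mul, mul_assoc, ha.val_inv_mul, mul_one]

variable {PL : Scheme.{u}} {pL : PL ⟶ X}
  {chartL : ∀ (U : X.Opens) (hU : IsAffineOpen U), (((pL ⁻¹ᵁ U : PL.Opens) : Scheme.{u}) ≅ Proj (𝒮L.deg U hU))}
  (hPL : RelProj.IsRelProj 𝒮L pL chartL)

include hLq hj ht in
lemma isIso_awayι_frame :
    IsIso (Proj.awayι (𝒮L.deg V hV) (LineCone35.elt j t) (LineCone35.elt_mem j hj hV) one_pos) :=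
  ProjBC35.isIso_awayι (𝒮L.str.app (op V)).hom (LineCone35.elt_mem j hj hV)
    (LineCone35.exists_of_mem_deg j hLq hj hV ht)

include hLq hj hV ht hPL in
lemma isIso_morphismRestrict_frame : IsIso (pL ∣_ V) := by
  rw [Proj16.morphismRestrict_eq hPL V hV, ← Category.assoc (Proj.toSpecZero _)]
  have := ProjBC35.isIso_toSpecZero_comp (𝒮L.str.app (op V)).hom (𝒮L.str_mem V hV)
    (LineCone35.elt_mem j hj hV) (LineCone35.exists_of_mem_deg j hLq hj hV ht)
    (LineCone35.eq_zero_of_mul_pow j hLq hj hV ht) (𝒮L.strZero V hV) (fun _ => rfl)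
  infer_instance

include hLq hj hPL in
theorem isIso_pL (hL : PicF.IsInvertible L) : IsIso pL := by
  let O : {V : X.Opens // ∃ (hV : IsAffineOpen V) (t : Γ(L, V)), InvX.IsFrame t} → X.Opens := fun V => V.1
  have hO : ⨆ i, O i = ⊤ := eq_top_iff.mpr fun x _ => by
    obtain ⟨V, hV, t, ht, hxV, -⟩ := exists_affine_frame hL (show x ∈ (⊤ : X.Opens) from trivial)
    exact Opens.mem_iSup.mpr ⟨⟨V, hV, t, ht⟩, hxV⟩
  refine IsZariskiLocalAtTarget.of_iSup_eq_top (P := MorphismProperty.isomorphisms Scheme.{u}) O hO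
    fun i => ?_
  obtain ⟨W, hW, t, ht⟩ := i
  exact isIso_morphismRestrict_frame hLq hj hW ht hPL

include hLq hj ht hPL in
lemma mem_basicOpen_iff {n : ℕ} (hn : 0 < n) (a : Γ(X, V)) (w : Proj (𝒮L.deg V hV)) :
    w ∈ Proj.basicOpen (𝒮L.deg V hV) ((𝒮L.str.app (op V)).hom a * LineCone35.elt j t ^ n) ↔
      pL (RelProj.emb pL chartL V hV w) ∈ X.basicOpen a := by
  have hT := LineCone35.elt_mem j hj hV (t := t)
  have := isIso_awayι_frame hLq hj hV ht
  obtain ⟨v, rfl⟩ := (Proj.awayι (𝒮L.deg V hV) (LineCone35.elt j t) hT one_pos).surjective w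
  have hx : (𝒮L.str.app (op V)).hom a * LineCone35.elt j t ^ n ∈ 𝒮L.deg V hV n := by
    simpa using SetLike.mul_mem_graded (𝒮L.str_mem V hV a) (SetLike.pow_mem_graded n hT)
  have e : Away.isLocalizationElem hT hx =
      ProjBC35.baseToAway (𝒮L.str.app (op V)).hom (𝒮L.str_mem V hV) (LineCone35.elt j t) a := by
    refine val_injective _ ?_
    rw [Away.val_mk, ProjBC35.val_baseToAway, ← Localization.mk_one_eq_algebraMap,
      Localization.mk_eq_mk_iff, Localization.r_iff_exists]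
    exact ⟨1, by simp; ring⟩
  have h1 : Proj.awayι (𝒮L.deg V hV) (LineCone35.elt j t) hT one_pos v ∈
      Proj.basicOpen (𝒮L.deg V hV) ((𝒮L.str.app (op V)).hom a * LineCone35.elt j t ^ n) ↔
      v ∈ PrimeSpectrum.basicOpen (Away.isLocalizationElem hT hx) :=
    Iff.of_eq (congrArg (fun O : (Spec _).Opens => v ∈ O)
      (Proj.awayι_preimage_basicOpen (𝒮L.deg V hV) hT one_pos hx hn))
  rw [h1, e, ← Scheme.Hom.comp_apply, ← Scheme.Hom.comp_apply, ← Category.assoc,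
    ProjBC35.awayι_emb_comp hPL V hV one_pos _ hT, Scheme.Hom.comp_apply]
  show _ ↔ (Spec.map _ v) ∈ hV.fromSpec ⁻¹ᵁ X.basicOpen a
  rw [hV.fromSpec_preimage_basicOpen]
  rfl

include hLq hj hPL in
lemma mem_basicOpen_of_gen (hL : PicF.IsInvertible L) {V : X.Opens} (hV : IsAffineOpen V) {n : ℕ}
    (hn : 0 < n) {x : 𝒮L.presheaf.obj (op V)} (hx : x ∈ 𝒮L.deg V hV n) (h : Gen 𝒮L V hV n x)
    (w : Proj (𝒮L.deg V hV)) : w ∈ Proj.basicOpen (𝒮L.deg V hV) x := by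
  set y := pL (RelProj.emb pL chartL V hV w) with hy
  obtain ⟨V₁, hV₁, t, ht, hyV₁, -⟩ := exists_affine_frame hL (show y ∈ (⊤ : X.Opens) from trivial)
  obtain ⟨W, hW, hyW, -, hbV, hb₁⟩ := ProjQMapX.exists_affine_basic_inter hV hV₁ (O := ⊤)
    (ProjQMapX.emb_mem V hV w) hyV₁ trivial
  have ht' := ht.res (ProjQMapX.le_of_basic hb₁)
  obtain ⟨v, hv⟩ := ProjQMapX.exists_emb_eq (chart := chartL) W hW hyW
  have hinj : Proj.map (𝒮L.res hV hW (ProjQMapX.le_of_basic hbV))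
      (Proj16.irrelevant_le_res 𝒮L hV hW _ hbV) v = w :=
    (RelProj.emb pL chartL V hV).isOpenEmbedding.injective
      ((ProjQMapX.emb_map_res hPL hV hW _ hbV v).trans hv)
  rw [← hinj]
  show v ∈ Proj.basicOpen (𝒮L.deg W hW) (𝒮L.res hV hW (ProjQMapX.le_of_basic hbV) x)
  have hres := gen_res hV h hW hbV
  obtain ⟨a, ha⟩ := LineCone35.exists_of_mem_deg j hLq hj hW ht' n _
    ((𝒮L.res hV hW (ProjQMapX.le_of_basic hbV)).map_mem hx)
  have ha' : IsUnit a := (gen_iff_isUnit hLq hj hW ht' a).mp (ha ▸ hres)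
  rw [show 𝒮L.res hV hW (ProjQMapX.le_of_basic hbV) x = _ from ha,
    mem_basicOpen_iff hLq hj hW ht' hPL hn a v, X.basicOpen_of_isUnit ha']
  exact ProjQMapX.emb_mem W hW v

variable {Y : Scheme.{u}} {q : X ⟶ Y} {𝒮 : RelProj.QCGrAlg Y} {u : RelProj.QGrHom q 𝒮 𝒮L}

include hLq hj hPL in
/-- The nonvanishing locus of a section. -/
theorem hit_iff_gen (hL : PicF.IsInvertible L) {U : Y.Opens} {hU : IsAffineOpen U} {n : ℕ} (hn : 0 < n)
    {f : 𝒮.presheaf.obj (op U)} (hf : f ∈ 𝒮.deg U hU n) {z : PL} :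
    Hit u pL chartL U hU f z ↔ ∃ (V : X.Opens) (hV : IsAffineOpen V) (hle : V ≤ q ⁻¹ᵁ U),
      pL z ∈ V ∧ Gen 𝒮L V hV n ((u.appLE U V hle).hom f) := by
  constructor
  · rintro ⟨U', hU', hle, w, rfl, hw⟩
    set y := pL (RelProj.emb pL chartL U' hU' w) with hy
    obtain ⟨V₁, hV₁, t, ht, hyV₁, -⟩ := exists_affine_frame hL (show y ∈ (⊤ : X.Opens) from trivial)
    obtain ⟨W, hW, hyW, -, hb, hb₁⟩ := ProjQMapX.exists_affine_basic_inter hU' hV₁ (O := ⊤)
      (ProjQMapX.emb_mem U' hU' w) hyV₁ trivial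
    have ht' := ht.res (ProjQMapX.le_of_basic hb₁)
    have hWU : W ≤ q ⁻¹ᵁ U := (ProjQMapX.le_of_basic hb).trans hle
    obtain ⟨v, hv⟩ := ProjQMapX.exists_emb_eq (chart := chartL) W hW hyW
    have hinj : Proj.map (𝒮L.res hU' hW (ProjQMapX.le_of_basic hb))
        (Proj16.irrelevant_le_res 𝒮L hU' hW _ hb) v = w :=
      (RelProj.emb pL chartL U' hU').isOpenEmbedding.injective
        ((ProjQMapX.emb_map_res hPL hU' hW _ hb v).trans hv)
    rw [← hinj] at hw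
    have hw' : v ∈ Proj.basicOpen (𝒮L.deg W hW) ((u.appLE U W hWU).hom f) := by
      rw [← u.toQHom.appLE_map hle (ProjQMapX.le_of_basic hb)]
      exact hw
    obtain ⟨a, ha⟩ := LineCone35.exists_of_mem_deg j hLq hj hW ht' n _ (u.map_mem U hU W hW hWU hf)
    have ha₀ : (u.appLE U W hWU).hom f = _ := ha
    rw [ha₀, mem_basicOpen_iff hLq hj hW ht' hPL hn a v, hv] at hw'
    refine ⟨X.basicOpen a, hW.basicOpen a, (X.basicOpen_le a).trans hWU, hw', ?_⟩
    have hle' := X.basicOpen_le a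
    rw [← u.toQHom.appLE_map hWU hle', CommRingCat.hom_comp, RingHom.comp_apply]
    erw [ha₀]
    rw [map_mul, map_pow, LineCone35.str_res, LineCone35.elt_res]
    exact (gen_iff_isUnit hLq hj (hW.basicOpen a) (ht'.res hle') _).mpr
      (RingedSpace.isUnit_res_basicOpen X.toLocallyRingedSpace.toRingedSpace a)
  · rintro ⟨V, hV, hle, hzV, hgen⟩
    obtain ⟨w, hw⟩ := ProjQMapX.exists_emb_eq (chart := chartL) V hV hzV
    exact ⟨V, hV, hle, w, hw,
      mem_basicOpen_of_gen hLq hj hPL hL hV hn (u.map_mem U hU V hV hle hf) hgen w⟩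

include hLq hj hPL in
/-- A section with a non nilpotent value somewhere is nonvanishing somewhere. -/
theorem exists_hit_of_not_isNilpotent (hL : PicF.IsInvertible L) {U : Y.Opens} {hU : IsAffineOpen U}
    {n : ℕ} (hn : 0 < n) {f : 𝒮.presheaf.obj (op U)} (hf : f ∈ 𝒮.deg U hU n)
    {V : X.Opens} (hV : IsAffineOpen V) {t : Γ(L, V)} (ht : InvX.IsFrame t) (hle : V ≤ q ⁻¹ᵁ U)
    (h : ¬ IsNilpotent ((u.appLE U V hle).hom f)) : ∃ z, Hit u pL chartL U hU f z := by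
  obtain ⟨a, ha⟩ := LineCone35.exists_of_mem_deg j hLq hj hV ht n _ (u.map_mem U hU V hV hle hf)
  have ha₀ : (u.appLE U V hle).hom f = _ := ha
  have hne : X.basicOpen a ≠ ⊥ := fun hbot => h (by
    rw [ha₀]
    refine Commute.isNilpotent_mul_right (Commute.all _ _) (IsNilpotent.map ?_ _)
    exact (Scheme.isNilpotent_iff_basicOpen_eq_bot_of_isCompact hV.isCompact a).mpr hbot)
  obtain ⟨y, hy⟩ : ∃ y, y ∈ X.basicOpen a := by
    by_contra! hno
    exact hne (eq_bot_iff.mpr fun y hy => (hno y hy).elim)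
  have := isIso_pL hLq hj hPL hL
  obtain ⟨z, rfl⟩ := pL.surjective y
  obtain ⟨w, hw⟩ := ProjQMapX.exists_emb_eq (chart := chartL) V hV (X.basicOpen_le a hy)
  refine ⟨z, V, hV, hle, w, hw, ?_⟩
  show w ∈ Proj.basicOpen (𝒮L.deg V hV) ((u.appLE U V hle).hom f)
  rw [ha₀, mem_basicOpen_iff hLq hj hV ht hPL hn a w, hw]
  exact hy

end Groth.Agent.RLPsi35
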