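import Mathlib.RingTheory.GradedAlgebra.Basic
import Mathlib.RingTheory.GradedAlgebra.RingHom

/-!
Homogeneous subrings of graded rings and subrings generated by one degree.
-/

universe u

open DirectSum

namespace Groth.Agent.RLPsi35

variable {B : Type u} [CommRing B] (ℬ : ℕ → AddSubgroup B) [GradedRing ℬ] (S : Subring B)

/-- The induced grading of a subring. -/
def subDeg (i : ℕ) : AddSubgroup S := (ℬ i).comap S.subtype.toAddMonoidHom

omit [GradedRing ℬ] in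
lemma mem_subDeg {ℬ : ℕ → AddSubgroup B} {S : Subring B} {i : ℕ} {b : S} : b ∈ subDeg ℬ S i ↔ (b : B) ∈ ℬ i := Iff.rfl

instance gradedMonoid_subDeg : SetLike.GradedMonoid (subDeg ℬ S) where
  one_mem := by rw [mem_subDeg]; exact SetLike.one_mem_graded ℬ
  mul_mem i j a b ha hb := by
    rw [mem_subDeg] at *; exact SetLike.mul_mem_graded ha hb

/-- The inclusion of one piece. -/
def subDegHom (i : ℕ) : subDeg ℬ S i →+ ℬ i where
  toFun b := ⟨(b.1 : B), b.2⟩
  map_zero' := rfl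
  map_add' _ _ := rfl

lemma coe_map_subDegHom (x : ⨁ i, subDeg ℬ S i) :
    DirectSum.coeAddMonoidHom ℬ (DirectSum.map (subDegHom ℬ S) x) =
      ((DirectSum.coeAddMonoidHom (subDeg ℬ S) x : S) : B) := by
  induction x using DirectSum.induction_on with
  | zero => simp
  | of i b => simp [subDegHom]
  | add x y hx hy => simp [hx, hy]

theorem isInternal_subDeg (hS : ∀ b ∈ S, ∀ i, GradedRing.proj ℬ i b ∈ S) :
    DirectSum.IsInternal (subDeg ℬ S) := by
  classical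
  refine ⟨fun x y h => ?_, fun b => ?_⟩
  · have h' : DirectSum.coeAddMonoidHom ℬ (DirectSum.map (subDegHom ℬ S) x) =
        DirectSum.coeAddMonoidHom ℬ (DirectSum.map (subDegHom ℬ S) y) := by
      rw [coe_map_subDegHom, coe_map_subDegHom]
      exact congrArg Subtype.val h
    have hinj : Function.Injective (DirectSum.coeAddMonoidHom ℬ) :=
      (DirectSum.decompose ℬ).symm.injective
    exact (DirectSum.map_injective (subDegHom ℬ S)).mpr
      (fun i a c h => Subtype.ext (Subtype.ext (congrArg (fun t : ℬ i => (t : B)) h))) (hinj h')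
  · refine ⟨∑ i ∈ (DirectSum.decompose ℬ (b : B)).support,
      DirectSum.of (fun i => subDeg ℬ S i) i ⟨⟨GradedRing.proj ℬ i b, hS b b.2 i⟩,
        mem_subDeg.mpr (show GradedRing.proj ℬ i (b : B) ∈ ℬ i by
          rw [GradedRing.proj_apply]; exact SetLike.coe_mem _)⟩, Subtype.ext ?_⟩
    show S.subtype _ = _
    simp only [map_sum, DirectSum.coeAddMonoidHom_of, Subring.subtype_apply, GradedRing.proj_apply]
    exact DirectSum.sum_support_decompose ℬ (b : B)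

/-- A homogeneous subring is graded. -/
@[implicit_reducible]
noncomputable def gradedRingSub (hS : ∀ b ∈ S, ∀ i, GradedRing.proj ℬ i b ∈ S) :
    GradedRing (subDeg ℬ S) :=
  { gradedMonoid_subDeg ℬ S, (isInternal_subDeg ℬ S hS).chooseDecomposition with }

section gen

variable {ℬ} {Z N : Set B} {n : ℕ}

lemma closure_le_addClosure (hn : 0 < n) (hZ : ∀ z ∈ Z, z ∈ ℬ 0) (hN : ∀ x ∈ N, x ∈ ℬ n)
    (hZZ : ∀ z ∈ Z, ∀ z' ∈ Z, z * z' ∈ Z) (h1 : (1 : B) ∈ Z) (hZN : ∀ z ∈ Z, ∀ x ∈ N, z * x ∈ N) :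
    ((Subring.closure (Z ∪ N) : Subring B) : Set B) ⊆
      AddSubgroup.closure {b | b ∈ Subring.closure (Z ∪ N) ∧ (b ∈ Z ∨ b ∈ N ∨ ∃ j, n < j ∧ b ∈ ℬ j)} := by
  intro b hb
  rw [SetLike.mem_coe, Subring.mem_closure_iff] at hb
  refine AddSubgroup.closure_mono (fun c hc => ?_) hb
  induction hc using Submonoid.closure_induction with
  | mem x hx =>
    exact ⟨Subring.subset_closure hx, hx.elim Or.inl fun h => Or.inr (Or.inl h)⟩
  | one => exact ⟨one_mem _, Or.inl h1⟩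
  | mul x y _ _ hx hy =>
    refine ⟨mul_mem hx.1 hy.1, ?_⟩
    rcases hx.2 with hx | hx | ⟨j, hj, hx⟩ <;> rcases hy.2 with hy | hy | ⟨k, hk, hy⟩
    · exact Or.inl (hZZ x hx y hy)
    · exact Or.inr (Or.inl (hZN x hx y hy))
    · exact Or.inr (Or.inr ⟨k, hk, zero_add k ▸ SetLike.mul_mem_graded (hZ x hx) hy⟩)
    · exact Or.inr (Or.inl (mul_comm x y ▸ hZN y hy x hx))
    · exact Or.inr (Or.inr ⟨n + n, by omega, SetLike.mul_mem_graded (hN x hx) (hN y hy)⟩)
    · exact Or.inr (Or.inr ⟨n + k, by omega, SetLike.mul_mem_graded (hN x hx) hy⟩)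
    · exact Or.inr (Or.inr ⟨j, hj, add_zero j ▸ SetLike.mul_mem_graded hx (hZ y hy)⟩)
    · exact Or.inr (Or.inr ⟨j + n, by omega, SetLike.mul_mem_graded hx (hN y hy)⟩)
    · exact Or.inr (Or.inr ⟨j + k, by omega, SetLike.mul_mem_graded hx hy⟩)

lemma proj_of_mem_eq {i : ℕ} {b : B} (hb : b ∈ ℬ i) (m : ℕ) :
    GradedRing.proj ℬ m b = if i = m then b else 0 := by
  classical
  rw [GradedRing.proj_apply]
  split_ifs with h
  · subst h; exact DirectSum.decompose_of_mem_same _ hb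
  · exact DirectSum.decompose_of_mem_ne _ hb h

/-- Projections of elements of a subring generated by degrees `0` and `n`. -/
theorem proj_mem_of_closure (hn : 0 < n) (hZ : ∀ z ∈ Z, z ∈ ℬ 0) (hN : ∀ x ∈ N, x ∈ ℬ n)
    (hZZ : ∀ z ∈ Z, ∀ z' ∈ Z, z * z' ∈ Z) (h1 : (1 : B) ∈ Z) (hZN : ∀ z ∈ Z, ∀ x ∈ N, z * x ∈ N)
    (hZadd : ∀ z ∈ Z, ∀ z' ∈ Z, z + z' ∈ Z) (hZneg : ∀ z ∈ Z, -z ∈ Z) (hZ0 : (0 : B) ∈ Z)
    (hNadd : ∀ z ∈ N, ∀ z' ∈ N, z + z' ∈ N) (hNneg : ∀ z ∈ N, -z ∈ N) (hN0 : (0 : B) ∈ N)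
    {b : B} (hb : b ∈ Subring.closure (Z ∪ N)) :
    (∀ i, GradedRing.proj ℬ i b ∈ Subring.closure (Z ∪ N)) ∧
      GradedRing.proj ℬ 0 b ∈ Z ∧ GradedRing.proj ℬ n b ∈ N := by
  have hb' := closure_le_addClosure hn hZ hN hZZ h1 hZN hb
  clear hb
  induction hb' using AddSubgroup.closure_induction with
  | mem c hc =>
    obtain ⟨hc, hcases⟩ := hc
    rcases hcases with h | h | ⟨j, hj, h⟩
    · refine ⟨fun i => ?_, ?_, ?_⟩ <;> rw [proj_of_mem_eq (hZ c h)]
      · split_ifs; exacts [hc, zero_mem _]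
      · rwa [if_pos rfl]
      · rw [if_neg (by omega)]; exact hN0
    · refine ⟨fun i => ?_, ?_, ?_⟩ <;> rw [proj_of_mem_eq (hN c h)]
      · split_ifs; exacts [hc, zero_mem _]
      · rw [if_neg (by omega)]; exact hZ0
      · rwa [if_pos rfl]
    · refine ⟨fun i => ?_, ?_, ?_⟩ <;> rw [proj_of_mem_eq h]
      · split_ifs; exacts [hc, zero_mem _]
      · rw [if_neg (by omega)]; exact hZ0
      · rw [if_neg (by omega)]; exact hN0
  | zero => simp only [map_zero]; exact ⟨fun _ => zero_mem _, hZ0, hN0⟩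
  | add x y _ _ hx hy =>
    simp only [map_add]
    exact ⟨fun i => add_mem (hx.1 i) (hy.1 i), hZadd _ hx.2.1 _ hy.2.1, hNadd _ hx.2.2 _ hy.2.2⟩
  | neg x _ hx =>
    simp only [map_neg]
    exact ⟨fun i => neg_mem (hx.1 i), hZneg _ hx.2.1, hNneg _ hx.2.2⟩

end gen

end Groth.Agent.RLPsi35
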