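import Groth.Agent.RLPsi35.DegSub
import Groth.Agent.RLPsi35.GrSubRing

/-!
The graded subalgebra generated by a finite type submodule of a homogeneous part.
-/

universe u

set_option backward.isDefEq.respectTransparency false
set_option backward.isDefEq.respectTransparency.types false

open CategoryTheory CategoryTheory.Limits AlgebraicGeometry TopologicalSpace Opposite
open Groth.Agent.QCoh

noncomputable section

namespace Groth.Agent.RLPsi35

variable {Y : Scheme.{u}} (𝒮 : RelProj.QCGrAlg Y)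

/-- A finite type submodule of the degree `n` part. -/
structure DegFT (n : ℕ) where
  N : SubMod 𝒮.toQCAlg.toModule
  ft : FTOn N ⊤
  mem_deg : ∀ (V : Y.Opens) (hV : IsAffineOpen V) (s : 𝒮.presheaf.obj (op V)),
    (show Γ(𝒮.toQCAlg.toModule, V) from s) ∈ N.mem V → s ∈ 𝒮.deg V hV n

namespace DegFT

variable {𝒮} {n : ℕ} (E : DegFT 𝒮 n)

/-- The sections of the submodule as elements of the algebra. -/
abbrev secs (U : Y.Opens) : Set (𝒮.presheaf.obj (op U)) :=
  (show Set (𝒮.presheaf.obj (op U)) from (E.N.mem U : Set Γ(𝒮.toQCAlg.toModule, U)))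

lemma genRing_eq (U : Y.Opens) :
    genRing 𝒮.toQCAlg E.N U = Subring.closure (Set.range (𝒮.str.app (op U)).hom ∪ E.secs U) := rfl

lemma locGen_eq {U : Y.Opens} (hU : IsAffineOpen U) :
    CExt24.locGen 𝒮.toQCAlg E.N U = genRing 𝒮.toQCAlg E.N U :=
  le_antisymm (CExt24.locGen_le_genRing 𝒮.toQCAlg E.ft hU) (CExt24.genRing_le_locGen 𝒮.toQCAlg E.N U)

variable (hn : 0 < n)
include hn

lemma closure_props {U : Y.Opens} (hU : IsAffineOpen U) {b : 𝒮.presheaf.obj (op U)}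
    (hb : b ∈ genRing 𝒮.toQCAlg E.N U) :
    (∀ i, GradedRing.proj (𝒮.deg U hU) i b ∈ genRing 𝒮.toQCAlg E.N U) ∧
      GradedRing.proj (𝒮.deg U hU) 0 b ∈ Set.range (𝒮.str.app (op U)).hom ∧
        GradedRing.proj (𝒮.deg U hU) n b ∈ E.secs U := by
  refine proj_mem_of_closure (ℬ := 𝒮.deg U hU) (Z := Set.range (𝒮.str.app (op U)).hom) (N := E.secs U) hn ?_ (fun x hx => E.mem_deg U hU x hx) ?_ ⟨1, map_one _⟩ ?_
    ?_ ?_ ⟨0, map_zero _⟩ (fun a ha c hc => (E.N.mem U).add_mem ha hc)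
    (fun a ha => (E.N.mem U).neg_mem ha) (E.N.mem U).zero_mem hb
  · rintro _ ⟨r, rfl⟩; exact 𝒮.str_mem U hU r
  · rintro _ ⟨r, rfl⟩ _ ⟨s, rfl⟩; exact ⟨r * s, map_mul _ _ _⟩
  · rintro _ ⟨r, rfl⟩ x hx; exact (E.N.mem U).smul_mem r hx
  · rintro _ ⟨r, rfl⟩ _ ⟨s, rfl⟩; exact ⟨r + s, map_add _ _ _⟩
  · rintro _ ⟨r, rfl⟩; exact ⟨-r, map_neg _ _⟩

lemma proj_mem {U : Y.Opens} (hU : IsAffineOpen U) :
    ∀ b ∈ CExt24.locGen 𝒮.toQCAlg E.N U, ∀ i,
      GradedRing.proj (𝒮.deg U hU) i b ∈ CExt24.locGen 𝒮.toQCAlg E.N U := fun b hb i => by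
  rw [E.locGen_eq hU] at hb ⊢
  exact (E.closure_props hn hU hb).1 i

/-- The graded subalgebra generated by the submodule. -/
def grAlg : RelProj.QCGrAlg Y where
  toQCAlg := CExt24.genAlg 𝒮.toQCAlg E.ft
  deg U hU := subDeg (𝒮.deg U hU) (CExt24.locGen 𝒮.toQCAlg E.N U)
  graded U hU := gradedRingSub (𝒮.deg U hU) (CExt24.locGen 𝒮.toQCAlg E.N U) (E.proj_mem hn hU)
  map_mem {U V} hU hV i {d x} hx := mem_subDeg.mpr (𝒮.map_mem hU hV i (mem_subDeg.mp hx))
  str_mem U hU r := mem_subDeg.mpr (𝒮.str_mem U hU r)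

/-- The inclusion. -/
def incl : (E.grAlg hn).toQCAlg ⟶ 𝒮.toQCAlg := CExt24.genHom 𝒮.toQCAlg E.ft

lemma isGradedHom_incl : RelProj.IsGradedHom (E.incl hn) := fun U hU d x hx => mem_subDeg.mp hx

lemma injective_incl (U : Y.Opens) : Function.Injective ((E.incl hn).hom.app (op U)).hom :=
  Subtype.val_injective

lemma deg_zero (U : Y.Opens) (hU : IsAffineOpen U) :
    (((E.grAlg hn).deg U hU 0 : AddSubgroup ((E.grAlg hn).presheaf.obj (op U))) :
        Set ((E.grAlg hn).presheaf.obj (op U))) = Set.range ((E.grAlg hn).str.app (op U)).hom := by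
  ext x
  refine ⟨fun hx => ?_, fun ⟨r, hr⟩ => hr ▸ (E.grAlg hn).str_mem U hU r⟩
  obtain ⟨r, hr⟩ := (E.closure_props hn hU ((E.locGen_eq hU).le x.2)).2.1
  refine ⟨r, Subtype.ext (hr.trans ?_)⟩
  rw [GradedRing.proj_apply]
  exact DirectSum.decompose_of_mem_same _ hx

lemma mem_secs_of_deg {U : Y.Opens} (hU : IsAffineOpen U) {x : (E.grAlg hn).presheaf.obj (op U)}
    (hx : x ∈ (E.grAlg hn).deg U hU n) : ((E.incl hn).hom.app (op U)).hom x ∈ E.secs U := by
  have h := (E.closure_props hn hU ((E.locGen_eq hU).le x.2)).2.2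
  rwa [GradedRing.proj_apply, DirectSum.decompose_of_mem_same (𝒮.deg U hU)
    (show (x.1 : 𝒮.presheaf.obj (op U)) ∈ 𝒮.deg U hU n from hx)] at h

lemma exists_deg_of_secs {U : Y.Opens} (hU : IsAffineOpen U) {s : 𝒮.presheaf.obj (op U)} (hs : s ∈ E.secs U) :
    ∃ x : (E.grAlg hn).presheaf.obj (op U), x ∈ (E.grAlg hn).deg U hU n ∧ ((E.incl hn).hom.app (op U)).hom x = s :=
  ⟨⟨s, (E.locGen_eq hU).ge (Subring.subset_closure (Or.inr hs))⟩,
    mem_subDeg.mpr (E.mem_deg U hU s hs), rfl⟩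

lemma closure_deg (U : Y.Opens) (hU : IsAffineOpen U) :
    Subring.closure ((((E.grAlg hn).deg U hU 0 : AddSubgroup ((E.grAlg hn).presheaf.obj (op U))) :
        Set ((E.grAlg hn).presheaf.obj (op U))) ∪
      (((E.grAlg hn).deg U hU n : AddSubgroup ((E.grAlg hn).presheaf.obj (op U))) :
        Set ((E.grAlg hn).presheaf.obj (op U)))) = ⊤ := by
  refine eq_top_iff.2 fun x _ => ?_
  obtain ⟨y, hy, e⟩ : ((E.incl hn).hom.app (op U)).hom x ∈
      (Subring.closure ((((E.grAlg hn).deg U hU 0 : AddSubgroup ((E.grAlg hn).presheaf.obj (op U))) :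
          Set ((E.grAlg hn).presheaf.obj (op U))) ∪
        (((E.grAlg hn).deg U hU n : AddSubgroup ((E.grAlg hn).presheaf.obj (op U))) :
          Set ((E.grAlg hn).presheaf.obj (op U))))).map ((E.incl hn).hom.app (op U)).hom := by
    refine (Subring.closure_le.2 (Set.union_subset ?_ ?_) : genRing 𝒮.toQCAlg E.N U ≤ _) ((E.locGen_eq hU).le x.2)
    · rintro _ ⟨r, rfl⟩
      exact ⟨_, Subring.subset_closure (Or.inl ((E.grAlg hn).str_mem U hU r)), rfl⟩
    · intro s hs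
      obtain ⟨z, hz, rfl⟩ := E.exists_deg_of_secs hn hU hs
      exact ⟨z, Subring.subset_closure (Or.inr hz), rfl⟩
  rwa [E.injective_incl hn U e] at hy

lemma isFTDeg : (E.grAlg hn).IsFTDeg n := by
  classical
  intro U hU
  have hG := isQCoh_toModule 𝒮.toQCAlg
  haveI : Module.Finite Γ(Y, U) Γ(E.N.toModules, U) :=
    finite_of_isFT (isQCoh_of_ftOn hG E.ft) (isFT_of_ftOn hG E.ft) hU
  obtain ⟨T, hT⟩ := (Module.Finite.iff_fg.1 this : (E.N.mem U).FG)
  have hlift : ∀ t : T, ∃ x : (E.grAlg hn).presheaf.obj (op U), x ∈ (E.grAlg hn).deg U hU n ∧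
      ((E.incl hn).hom.app (op U)).hom x = (show 𝒮.presheaf.obj (op U) from t.1) := fun t =>
    E.exists_deg_of_secs hn hU
      (show (t.1 : Γ(𝒮.toQCAlg.toModule, U)) ∈ E.N.mem U from hT ▸ Submodule.subset_span t.2)
  choose g hg hgt using hlift
  refine ⟨Finset.univ.image g, ?_, fun x hx => ?_⟩
  · intro z hz
    obtain ⟨t, -, rfl⟩ := Finset.mem_image.mp hz
    exact hg t
  · have hx' := hT.symm.le (E.mem_secs_of_deg hn hU hx)
    obtain ⟨c, -, hc⟩ := Submodule.mem_span_finset.mp hx'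
    have hginj : Function.Injective g := fun a b h => Subtype.ext ((hgt a).symm.trans (by rw [h]; exact hgt b))
    refine ⟨fun z => c (show Γ(𝒮.toQCAlg.toModule, U) from ((E.incl hn).hom.app (op U)).hom z),
      E.injective_incl hn U ?_⟩
    rw [Finset.sum_image hginj.injOn, map_sum, ← hc, ← Finset.sum_coe_sort]
    refine Finset.sum_congr rfl fun t _ => ?_
    simp only [map_mul, hgt]
    rfl

end DegFT

end Groth.Agent.RLPsi35
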