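import Groth.Agent.ProjQMapX.Props

/-!
Points of the open of definition mapped into standard opens.
-/

universe u

open CategoryTheory CategoryTheory.Limits AlgebraicGeometry TopologicalSpace Opposite
open HomogeneousLocalization
open scoped HomogeneousIdeal

noncomputable section

namespace Groth.Agent.RLPsi35

section proj

variable {A σ : Type u} [CommRing A] [SetLike σ A] [AddSubgroupClass σ A] {𝒜 : ℕ → σ} [GradedRing 𝒜]

lemma not_isNilpotent_of_mem {f : A} {w : Proj 𝒜} (hw : w ∈ Proj.basicOpen 𝒜 f) : ¬ IsNilpotent f := by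
  rintro ⟨k, hk⟩
  exact hw (w.isPrime.mem_of_pow_mem k (hk ▸ zero_mem _))

lemma exists_mem_basicOpen {f : A} {d : ℕ} (hd : 0 < d) (hf : f ∈ 𝒜 d) (h : ¬ IsNilpotent f) :
    ∃ w : Proj 𝒜, w ∈ Proj.basicOpen 𝒜 f := by
  have : Nontrivial (Away 𝒜 f) := by
    by_contra hne
    rw [not_nontrivial_iff_subsingleton] at hne
    have h1 : (1 : Away 𝒜 f) = 0 := Subsingleton.elim _ _
    have h0 := congrArg HomogeneousLocalization.val h1
    rw [val_one, val_zero, ← map_one (algebraMap A (Localization (Submonoid.powers f))),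
      IsLocalization.map_eq_zero_iff (Submonoid.powers f)] at h0
    obtain ⟨⟨_, k, rfl⟩, hk⟩ := h0
    exact h ⟨k, by simpa using hk⟩
  obtain ⟨t⟩ := (inferInstance : Nonempty (PrimeSpectrum (Away 𝒜 f)))
  exact ⟨Proj.awayι 𝒜 f hf hd t, (Proj.opensRange_awayι 𝒜 f hf hd).le ⟨t, rfl⟩⟩

lemma exists_basicOpen_le {O : (Proj 𝒜).Opens} {w : Proj 𝒜} (hw : w ∈ O) :
    ∃ (d : ℕ) (f : A), 0 < d ∧ f ∈ 𝒜 d ∧ w ∈ Proj.basicOpen 𝒜 f ∧ Proj.basicOpen 𝒜 f ≤ O := by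
  obtain ⟨_, ⟨a, rfl⟩, hwa, haO⟩ :=
    (ProjectiveSpectrum.isTopologicalBasis_basic_opens 𝒜).exists_subset_of_mem_open hw O.isOpen
  have hwa' : w ∈ Proj.basicOpen 𝒜 a := hwa
  rw [Proj.basicOpen_eq_iSup_proj, Opens.mem_iSup] at hwa'
  obtain ⟨i, hi⟩ := hwa'
  obtain ⟨b, hb, hwb⟩ := SetLike.not_le_iff_exists.mp w.not_irrelevant_le
  obtain ⟨d, f, hd, hf, hwf⟩ := ProjQMapX.exists_homogeneous_of_mem_irrelevant
    (GradedRingHom.id 𝒜) (I := w.asHomogeneousIdeal.toIdeal) hb hwb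
  refine ⟨d + i, f * GradedRing.proj 𝒜 i a, by omega, SetLike.mul_mem_graded hf ?_, ?_, ?_⟩
  · rw [GradedRing.proj_apply]
    exact ((DirectSum.decompose 𝒜 a) i).2
  · rw [Proj.basicOpen_mul]
    exact ⟨hwf, hi⟩
  · refine le_trans ?_ (show Proj.basicOpen 𝒜 a ≤ O from haO)
    rw [Proj.basicOpen_mul, Proj.basicOpen_eq_iSup_proj 𝒜 a]
    exact inf_le_right.trans (le_iSup (fun i => Proj.basicOpen 𝒜 (GradedRing.proj 𝒜 i a)) i)

end proj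

variable {S S' : Scheme.{u}} {g : S' ⟶ S} {𝒮 : RelProj.QCGrAlg S} {𝒮' : RelProj.QCGrAlg S'}
  (u : RelProj.QGrHom g 𝒮 𝒮')
  {P' : Scheme.{u}} (p' : P' ⟶ S')
  (chart' : ∀ (U' : S'.Opens) (hU' : IsAffineOpen U'), (((p' ⁻¹ᵁ U' : P'.Opens) : Scheme.{u}) ≅ Proj (𝒮'.deg U' hU')))

/-- The point lies in the standard open of the image of `f` on some affine over `U`. -/
def Hit (U : S.Opens) (hU : IsAffineOpen U) (f : 𝒮.presheaf.obj (op U)) (x : P') : Prop :=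
  ∃ (U' : S'.Opens) (hU' : IsAffineOpen U') (hle : U' ≤ g ⁻¹ᵁ U) (w : Proj (𝒮'.deg U' hU')),
    RelProj.emb p' chart' U' hU' w = x ∧
      w ∈ Proj.basicOpen (𝒮'.deg U' hU') (u.gradedAt U hU U' hU' hle f)

variable {u p' chart'}

lemma Hit.mem_domQ {U : S.Opens} {hU : IsAffineOpen U} {d : ℕ} (hd : 0 < d) {f : 𝒮.presheaf.obj (op U)}
    (hf : f ∈ 𝒮.deg U hU d) {x : P'} (h : Hit u p' chart' U hU f x) :
    x ∈ RelProj.domQ u p' chart' := by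
  obtain ⟨U', hU', hle, w, hwx, hw⟩ := h
  exact (ProjQMapX.mem_domQ_iff_chart u).mpr
    ⟨⟨U, hU, U', hU', hle, d, hd, f, hf⟩, ProjQMapX.Chart.mem_range_emb.mpr ⟨w, hw, hwx⟩⟩

lemma mem_domQ_iff_hit {x : P'} :
    x ∈ RelProj.domQ u p' chart' ↔ ∃ (U : S.Opens) (hU : IsAffineOpen U) (d : ℕ)
      (f : 𝒮.presheaf.obj (op U)), 0 < d ∧ f ∈ 𝒮.deg U hU d ∧ Hit u p' chart' U hU f x := by
  constructor
  · intro hx
    obtain ⟨c, hc⟩ := (ProjQMapX.mem_domQ_iff_chart u).mp hx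
    obtain ⟨w, hw, hwx⟩ := ProjQMapX.Chart.mem_range_emb.mp hc
    exact ⟨c.U, c.hU, c.d, c.f, c.hd, c.hf, c.U', c.hU', c.hle, w, hwx, hw⟩
  · rintro ⟨U, hU, d, f, hd, hf, h⟩
    exact h.mem_domQ hd hf

lemma hit_pow_iff {U : S.Opens} {hU : IsAffineOpen U} {f : 𝒮.presheaf.obj (op U)} {k : ℕ} (hk : 0 < k)
    {x : P'} : Hit u p' chart' U hU (f ^ k) x ↔ Hit u p' chart' U hU f x :=
  exists_congr fun U' => exists_congr fun hU' => exists_congr fun hle => exists_congr fun w =>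
    and_congr_right fun _ => by rw [map_pow, Proj.basicOpen_pow _ _ _ hk]

lemma gradedAt_comp {𝒯 : RelProj.QCGrAlg S} (v : 𝒯.toQCAlg ⟶ 𝒮.toQCAlg) (u' : RelProj.QGrHom g 𝒯 𝒮')
    (hu' : ∀ U : S.Opens, u'.app U = v.hom.app (op U) ≫ u.app U)
    (U : S.Opens) (hU : IsAffineOpen U) (U' : S'.Opens) (hU' : IsAffineOpen U') (hle : U' ≤ g ⁻¹ᵁ U)
    (a : 𝒯.presheaf.obj (op U)) :
    u'.gradedAt U hU U' hU' hle a = u.gradedAt U hU U' hU' hle ((v.hom.app (op U)).hom a) := by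
  show (u'.app U ≫ _).hom a = (v.hom.app (op U) ≫ u.app U ≫ _).hom a
  rw [hu' U, Category.assoc]

lemma hit_comp_iff {𝒯 : RelProj.QCGrAlg S} (v : 𝒯.toQCAlg ⟶ 𝒮.toQCAlg) (u' : RelProj.QGrHom g 𝒯 𝒮')
    (hu' : ∀ U : S.Opens, u'.app U = v.hom.app (op U) ≫ u.app U)
    {U : S.Opens} {hU : IsAffineOpen U} {a : 𝒯.presheaf.obj (op U)} {x : P'} :
    Hit u' p' chart' U hU a x ↔ Hit u p' chart' U hU ((v.hom.app (op U)).hom a) x :=
  exists_congr fun U' => exists_congr fun hU' => exists_congr fun hle => exists_congr fun w =>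
    and_congr_right fun _ => by rw [gradedAt_comp v u' hu']

variable {P : Scheme.{u}} {p : P ⟶ S}
  {chart : ∀ (U : S.Opens) (hU : IsAffineOpen U), (((p ⁻¹ᵁ U : P.Opens) : Scheme.{u}) ≅ Proj (𝒮.deg U hU))}
  (hP : RelProj.IsRelProj 𝒮 p chart) (hP' : RelProj.IsRelProj 𝒮' p' chart')
  {r : ((RelProj.domQ u p' chart' : P'.Opens) : Scheme.{u}) ⟶ P}
  (hr : RelProj.IsProjQMapOn u p chart p' chart' (RelProj.domQ u p' chart') r)

include hP hP'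

lemma le_preimage_of_apply_mem (hr : RelProj.IsProjQMapOn u p chart p' chart' (RelProj.domQ u p' chart') r)
    {U : S.Opens} (hU : IsAffineOpen U) {f : 𝒮.presheaf.obj (op U)}
    {x : (RelProj.domQ u p' chart' : P'.Opens)}
    (hx : r x ∈ RelProj.emb p chart U hU ''ᵁ Proj.basicOpen (𝒮.deg U hU) f) :
    p' ((RelProj.domQ u p' chart').ι x) ∈ g ⁻¹ᵁ U := by
  obtain ⟨w, -, hw⟩ := hx
  show g (p' _) ∈ U
  rw [← Scheme.Hom.comp_apply, ← Scheme.Hom.comp_apply, ← ProjQMapX.isProjQMapOn_comp hP hP' hr,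
    Scheme.Hom.comp_apply, ← hw]
  exact ProjQMapX.emb_mem U hU w

include hr in
lemma hit_iff_apply_mem {U : S.Opens} (hU : IsAffineOpen U) {d : ℕ} (hd : 0 < d)
    {f : 𝒮.presheaf.obj (op U)} (hf : f ∈ 𝒮.deg U hU d) (x : (RelProj.domQ u p' chart' : P'.Opens)) :
    Hit u p' chart' U hU f ((RelProj.domQ u p' chart').ι x) ↔
      r x ∈ RelProj.emb p chart U hU ''ᵁ Proj.basicOpen (𝒮.deg U hU) f := by
  constructor
  · rintro ⟨U', hU', hle, w, hwx, hw⟩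
    exact (ProjQMapX.apply_mem_basicOpen_iff hP hP' hr hU hU' hle hd hf x w hwx).mpr hw
  · intro hx
    obtain ⟨_, ⟨U', hU₀', rfl⟩, hy, hle⟩ := S'.isBasis_affineOpens.exists_subset_of_mem_open
      (le_preimage_of_apply_mem hP hP' hr hU hx) (g ⁻¹ᵁ U).isOpen
    have hU' : IsAffineOpen U' := hU₀'
    obtain ⟨w, hw⟩ := ProjQMapX.exists_emb_eq (chart := chart') U' hU' hy
    exact ⟨U', hU', hle, w, hw, (ProjQMapX.apply_mem_basicOpen_iff hP hP' hr hU hU' hle hd hf x w hw).mp hx⟩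

/-- `Hit` may be read on any affine over `U` containing the point. -/
lemma hit_emb_iff {U : S.Opens} {hU : IsAffineOpen U} {d : ℕ} (hd : 0 < d) {f : 𝒮.presheaf.obj (op U)}
    (hf : f ∈ 𝒮.deg U hU d) (U' : S'.Opens) (hU' : IsAffineOpen U') (hle : U' ≤ g ⁻¹ᵁ U)
    (w : Proj (𝒮'.deg U' hU')) :
    Hit u p' chart' U hU f (RelProj.emb p' chart' U' hU' w) ↔
      w ∈ Proj.basicOpen (𝒮'.deg U' hU') (u.gradedAt U hU U' hU' hle f) := by
  refine ⟨fun h => ?_, fun h => ⟨U', hU', hle, w, rfl, h⟩⟩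
  obtain ⟨r, hr, -⟩ := ProjQMapX.existsUnique_isProjQMapOn u hP hP'
  let x : (RelProj.domQ u p' chart' : P'.Opens) := ⟨_, h.mem_domQ hd hf⟩
  exact (ProjQMapX.apply_mem_basicOpen_iff hP hP' hr hU hU' hle hd hf x w rfl).mp
    ((hit_iff_apply_mem hP hP' hr hU hd hf x).mp h)

include hr in
lemma mem_image_preimage_iff {U : S.Opens} (hU : IsAffineOpen U) {d : ℕ} (hd : 0 < d)
    {f : 𝒮.presheaf.obj (op U)} (hf : f ∈ 𝒮.deg U hU d) {x : P'} :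
    x ∈ (RelProj.domQ u p' chart').ι ''ᵁ (r ⁻¹ᵁ (RelProj.emb p chart U hU ''ᵁ Proj.basicOpen (𝒮.deg U hU) f)) ↔
      Hit u p' chart' U hU f x := by
  constructor
  · rintro ⟨y, hy, rfl⟩
    exact (hit_iff_apply_mem hP hP' hr hU hd hf y).mpr hy
  · intro h
    exact ⟨⟨x, h.mem_domQ hd hf⟩,
      (hit_iff_apply_mem hP hP' hr hU hd hf ⟨x, h.mem_domQ hd hf⟩).mp h, rfl⟩

omit hP in
lemma mem_domQ_iff_hit_top (hY : IsAffineOpen (⊤ : S.Opens)) {x : P'} :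
    x ∈ RelProj.domQ u p' chart' ↔ ∃ (d : ℕ) (f : 𝒮.presheaf.obj (op ⊤)),
      0 < d ∧ f ∈ 𝒮.deg ⊤ hY d ∧ Hit u p' chart' ⊤ hY f x := by
  refine ⟨fun hx => ?_, fun ⟨d, f, hd, hf, h⟩ => h.mem_domQ hd hf⟩
  obtain ⟨_, ⟨U', hU₀', rfl⟩, hy, -⟩ := S'.isBasis_affineOpens.exists_subset_of_mem_open
    (Set.mem_univ (p' x)) isOpen_univ
  have hU' : IsAffineOpen U' := hU₀'
  have hle : U' ≤ g ⁻¹ᵁ ⊤ := le_top.trans (Scheme.Hom.preimage_top g).ge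
  obtain ⟨w, rfl⟩ := ProjQMapX.exists_emb_eq (chart := chart') U' hU' hy
  obtain ⟨d, f, hd, hf, hwf⟩ := (ProjQMapX.mem_domOpen_iff _ w).mp
    ((ProjQMapX.emb_mem_domQ_iff u hP' ⊤ hY U' hU' hle w).mp hx)
  exact ⟨d, f, hd, hf, U', hU', hle, w, rfl, hwf⟩

include hr in
/-- The criterion for dominance. -/
theorem isDominant_iff_hit :
    IsDominant r ↔ ∀ (U : S.Opens) (hU : IsAffineOpen U) (d : ℕ) (f : 𝒮.presheaf.obj (op U)),
      0 < d → f ∈ 𝒮.deg U hU d → ¬ IsNilpotent f → ∃ x, Hit u p' chart' U hU f x := by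
  constructor
  · intro h U hU d f hd hf hnil
    obtain ⟨w, hw⟩ := exists_mem_basicOpen hd hf hnil
    obtain ⟨x, hx⟩ := r.denseRange.exists_mem_open
      (RelProj.emb p chart U hU ''ᵁ Proj.basicOpen (𝒮.deg U hU) f).isOpen ⟨_, w, hw, rfl⟩
    exact ⟨_, (hit_iff_apply_mem hP hP' hr hU hd hf x).mpr hx⟩
  · intro h
    refine ⟨dense_iff_inter_open.mpr fun O hO ⟨y, hy⟩ => ?_⟩
    obtain ⟨_, ⟨U, hU₀, rfl⟩, hyU, -⟩ := S.isBasis_affineOpens.exists_subset_of_mem_open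
      (Set.mem_univ (p y)) isOpen_univ
    have hU : IsAffineOpen U := hU₀
    obtain ⟨w, rfl⟩ := ProjQMapX.exists_emb_eq (chart := chart) U hU hyU
    obtain ⟨d, f, hd, hf, hwf, hle⟩ :=
      exists_basicOpen_le (O := RelProj.emb p chart U hU ⁻¹ᵁ ⟨O, hO⟩) (w := w) hy
    obtain ⟨x, hx⟩ := h U hU d f hd hf (not_isNilpotent_of_mem hwf)
    obtain ⟨w', hw', he⟩ := (hit_iff_apply_mem hP hP' hr hU hd hf ⟨x, hx.mem_domQ hd hf⟩).mp hx
    exact ⟨r ⟨x, hx.mem_domQ hd hf⟩, he ▸ hle hw', _, rfl⟩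

include hr in
/-- The criterion for dominance over an affine base. -/
theorem isDominant_iff_hit_top (hY : IsAffineOpen (⊤ : S.Opens)) :
    IsDominant r ↔ ∀ (d : ℕ) (f : 𝒮.presheaf.obj (op ⊤)),
      0 < d → f ∈ 𝒮.deg ⊤ hY d → ¬ IsNilpotent f → ∃ x, Hit u p' chart' ⊤ hY f x := by
  refine ⟨fun h d f => (isDominant_iff_hit hP hP' hr).mp h ⊤ hY d f, fun h => ?_⟩
  refine ⟨dense_iff_inter_open.mpr fun O hO ⟨y, hy⟩ => ?_⟩
  obtain ⟨w, rfl⟩ := ProjQMapX.exists_emb_eq (chart := chart) ⊤ hY (show p y ∈ (⊤ : S.Opens) from trivial)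
  obtain ⟨d, f, hd, hf, hwf, hle⟩ :=
    exists_basicOpen_le (O := RelProj.emb p chart ⊤ hY ⁻¹ᵁ ⟨O, hO⟩) (w := w) hy
  obtain ⟨x, hx⟩ := h d f hd hf (not_isNilpotent_of_mem hwf)
  obtain ⟨w', hw', he⟩ := (hit_iff_apply_mem hP hP' hr hY hd hf ⟨x, hx.mem_domQ hd hf⟩).mp hx
  exact ⟨r ⟨x, hx.mem_domQ hd hf⟩, he ▸ hle hw', _, rfl⟩

end Groth.Agent.RLPsi35
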