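import Groth.Agent.RLPsi35.Gen
import Groth.Agent.RLPsi35.DegSub
import Groth.Agent.AmpleX.Sect

/-!
Sections of the tensor powers of an invertible module and homogeneous sections of its graded symmetric algebra.
-/

universe u

set_option backward.isDefEq.respectTransparency false
set_option backward.isDefEq.respectTransparency.types false

open CategoryTheory CategoryTheory.Limits AlgebraicGeometry TopologicalSpace Opposite
open Groth.Agent.QCoh

noncomputable section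

namespace Groth.Agent.RLPsi35

open AModX AmpleX

variable {X : Scheme.{u}} (𝒮 : RelProj.QCGrAlg X)

lemma rB_eq_res {U V : X.Opens} (h : V ≤ U) (s : 𝒮.presheaf.obj (op U)) :
    rB 𝒮.toQCAlg h s = res 𝒮.toQCAlg.toModule h (show Γ(𝒮.toQCAlg.toModule, U) from s) := rfl

lemma eq_of_locally_alg {U : X.Opens} (a b : 𝒮.presheaf.obj (op U))
    (h : ∀ x ∈ U, ∃ (V : X.Opens) (i : V ≤ U), x ∈ V ∧ rB 𝒮.toQCAlg i a = rB 𝒮.toQCAlg i b) : a = b :=
  AModX.eq_of_locally (M := 𝒮.toQCAlg.toModule) _ _ h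

variable (L : X.Modules)

/-- Frames over affine opens. -/
abbrev Fr : Type u := Σ V : X.affineOpens, {t : Γ(L, (V : X.Opens)) // InvX.IsFrame t}

variable {L} {𝒮} (hL : PicF.IsInvertible L) {j : L ⟶ 𝒮.toModule}

/-- The open of a frame. -/
abbrev Fr.U (a : Fr L) : X.Opens := (a.1 : X.Opens)

include hL in
lemma Fr.cover (x : X) : ∃ a : Fr L, x ∈ a.U := by
  obtain ⟨V, hV, t, ht, hxV, -⟩ := exists_affine_frame hL (show x ∈ (⊤ : X.Opens) from trivial)
  exact ⟨⟨⟨V, hV⟩, t, ht⟩, hxV⟩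

/-- The map from a tensor power. -/
def powMap (j : L ⟶ 𝒮.toModule) (n : ℕ) : CohB1.tensorPow L n ⟶ 𝒮.toQCAlg.toModule :=
  InvX.ofFrames (U := Fr.U) (e := fun a : Fr L => powElt a.2.1 n)
    (n := fun a => (show Γ(𝒮.toQCAlg.toModule, a.U) from LineCone35.elt j a.2.1 ^ n))
    (Fr.cover hL) (fun a => isFrame_powElt a.2.2 n)
    fun a b W ha hb g hg => by
      obtain ⟨k, hk⟩ := a.2.2.exists_coord ha (res L hb b.2.1)
      rw [res_powElt, res_powElt, hk, powElt_smul] at hg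
      have hg' : k ^ n = g := (isFrame_powElt a.2.2 n).coord_unique ha (by rw [res_powElt]; exact hg)
      subst hg'
      show rB 𝒮.toQCAlg hb (LineCone35.elt j b.2.1 ^ n) =
        (𝒮.str.app (op W)).hom (k ^ n) * rB 𝒮.toQCAlg ha (LineCone35.elt j a.2.1 ^ n)
      rw [map_pow, map_pow, map_pow, ← mul_pow]
      congr 1
      exact (LineCone35.elt_res j hb b.2.1).trans
        ((congrArg (LineCone35.elt j) hk).trans
          ((LineCone35.elt_smul j k _).trans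
            (congrArg (_ * ·) (LineCone35.elt_res j ha a.2.1).symm)))

/-- The element of the algebra of a section of a tensor power. -/
abbrev pw (j : L ⟶ 𝒮.toModule) {n : ℕ} {W : X.Opens} (a : Γ(CohB1.tensorPow L n, W)) :
    𝒮.presheaf.obj (op W) := ((powMap hL j n).app W) a

lemma pw_res {n : ℕ} {W W' : X.Opens} (h : W' ≤ W) (a : Γ(CohB1.tensorPow L n, W)) :
    rB 𝒮.toQCAlg h (pw hL j a) = pw hL j (res _ h a) :=
  (AModX.app_res (powMap hL j n) h a).symm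

lemma pw_smul {n : ℕ} {W : X.Opens} (r : Γ(X, W)) (a : Γ(CohB1.tensorPow L n, W)) :
    pw hL j (r • a) = (𝒮.str.app (op W)).hom r * pw hL j a :=
  Scheme.Modules.Hom.app_smul _ r a

lemma pw_frame {n : ℕ} {V : X.Opens} (hV : IsAffineOpen V) {t : Γ(L, V)} (ht : InvX.IsFrame t) :
    pw hL j (powElt t n) = LineCone35.elt j t ^ n :=
  InvX.ofFrames_app (U := Fr.U) _ _ _ (⟨⟨V, hV⟩, t, ht⟩ : Fr L)

lemma pw_frame_smul {n : ℕ} {V : X.Opens} (hV : IsAffineOpen V) {t : Γ(L, V)} (ht : InvX.IsFrame t)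
    (c : Γ(X, V)) :
    pw hL j (c • powElt t n) = (𝒮.str.app (op V)).hom c * LineCone35.elt j t ^ n := by
  rw [pw_smul, pw_frame hL hV ht]

variable (hLq : Coh.IsQCoh L) (hj : RelProj.IsGrSymAlg L 𝒮 j)

include hj in
lemma pw_mem {n : ℕ} {W : X.Opens} (a : Γ(CohB1.tensorPow L n, W)) :
    (show Γ(𝒮.toQCAlg.toModule, W) from pw hL j a) ∈ (degSub 𝒮 n).mem W := by
  refine (degSub 𝒮 n).of_locally W _ fun x hx => ?_
  obtain ⟨V, hV, t, ht, hxV, hVW⟩ := exists_affine_frame hL hx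
  refine ⟨V, hVW, hxV, (mem_degSub_iff 𝒮 hV _).mpr ?_⟩
  obtain ⟨c, hc⟩ := (isFrame_powElt ht n).exists_coord le_rfl (res _ hVW a)
  rw [res_self] at hc
  show rB 𝒮.toQCAlg hVW (pw hL j a) ∈ _
  rw [pw_res, hc, pw_frame_smul hL hV ht]
  simpa using SetLike.mul_mem_graded (𝒮.str_mem V hV c) (SetLike.pow_mem_graded n (LineCone35.elt_mem j hj hV (t := t)))

include hLq hj in
lemma eq_zero_of_pw_eq_zero {n : ℕ} {W : X.Opens} {a : Γ(CohB1.tensorPow L n, W)}
    (h : pw hL j a = 0) : a = 0 := by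
  refine AModX.eq_of_locally _ _ fun x hx => ?_
  obtain ⟨V, hV, t, ht, hxV, hVW⟩ := exists_affine_frame hL hx
  refine ⟨V, hVW, hxV, ?_⟩
  obtain ⟨c, hc⟩ := (isFrame_powElt ht n).exists_coord le_rfl (res _ hVW a)
  rw [res_self] at hc
  have h1 : (𝒮.str.app (op V)).hom c * LineCone35.elt j t ^ n = 0 := by
    rw [← pw_frame_smul hL hV ht, ← hc, ← pw_res, h, map_zero]
  rw [hc, LineCone35.eq_zero_of_mul_pow j hLq hj hV ht c n h1, zero_smul, map_zero]

include hLq hj in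
lemma pw_injective {n : ℕ} {W : X.Opens} :
    Function.Injective (pw hL j (n := n) (W := W)) :=
  (injective_iff_map_eq_zero ((powMap hL j n).app W).hom).mpr
    fun _ h => eq_zero_of_pw_eq_zero hL hLq hj h

include hLq hj in
lemma exists_pw_eq {n : ℕ} {W : X.Opens} {g : 𝒮.presheaf.obj (op W)}
    (hg : (show Γ(𝒮.toQCAlg.toModule, W) from g) ∈ (degSub 𝒮 n).mem W) :
    ∃ a : Γ(CohB1.tensorPow L n, W), pw hL j a = g := by
  let ι' := {V : X.Opens // IsAffineOpen V ∧ ∃ h : V ≤ W, ∃ a : Γ(CohB1.tensorPow L n, V), pw hL j a = rB 𝒮.toQCAlg h g}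
  choose hV h a ha using fun i : ι' => i.2
  have hcov : ∀ x ∈ W, ∃ i : ι', x ∈ i.1 := fun x hx => by
    obtain ⟨V, hV, t, ht, hxV, hVW⟩ := exists_affine_frame hL hx
    obtain ⟨c, hc⟩ := LineCone35.exists_of_mem_deg j hLq hj hV ht n (rB 𝒮.toQCAlg hVW g) (hg V hV hVW)
    exact ⟨⟨V, hV, hVW, c • powElt t n, by rw [pw_frame_smul hL hV ht, hc]⟩, hxV⟩
  obtain ⟨a₀, ha₀, -⟩ := AModX.existsUnique_glue (M := CohB1.tensorPow L n) (V := W)
    (fun i : ι' => i.1) h hcov a fun i i' => pw_injective hL hLq hj (by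
      rw [← pw_res, ← pw_res, ha i, ha i']
      exact (CExt24.rB_rB 𝒮.toQCAlg _ _ g).trans (CExt24.rB_rB 𝒮.toQCAlg _ _ g).symm)
  refine ⟨a₀, eq_of_locally_alg 𝒮 _ _ fun x hx => ?_⟩
  obtain ⟨i, hi⟩ := hcov x hx
  exact ⟨i.1, h i, hi, by rw [pw_res, ha₀ i, ha i]⟩

lemma locus_frame {n : ℕ} {W V : X.Opens} (h : V ≤ W) {t : Γ(L, V)} (ht : InvX.IsFrame t)
    {a : Γ(CohB1.tensorPow L n, W)} {c : Γ(X, V)} (hc : res _ h a = c • powElt t n) :
    locus a ⊓ V = X.basicOpen c :=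
  locus_inf a h (isFrame_powElt ht n) hc

variable {PL : Scheme.{u}} {pL : PL ⟶ X}
  {chartL : ∀ (U : X.Opens) (hU : IsAffineOpen U), (((pL ⁻¹ᵁ U : PL.Opens) : Scheme.{u}) ≅ Proj (𝒮.deg U hU))}
  (hPL : RelProj.IsRelProj 𝒮 pL chartL)
  {Y : Scheme.{u}} {q : X ⟶ Y} {𝒜 : RelProj.QCGrAlg Y} {u : RelProj.QGrHom q 𝒜 𝒮}
  {P : Scheme.{u}} {p : P ⟶ Y}
  {chart : ∀ (U : Y.Opens) (hU : IsAffineOpen U), (((p ⁻¹ᵁ U : P.Opens) : Scheme.{u}) ≅ Proj (𝒜.deg U hU))}
  (hP : RelProj.IsRelProj 𝒜 p chart)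

include hL hLq hj hPL hP in
/-- The nonvanishing locus of a section is the generating locus of the section of the tensor power. -/
theorem hit_iff_locus {U : Y.Opens} {hU : IsAffineOpen U} {n : ℕ} (hn : 0 < n) {s : 𝒜.presheaf.obj (op U)}
    (hs : s ∈ 𝒜.deg U hU n) {a : Γ(CohB1.tensorPow L n, q ⁻¹ᵁ U)} (ha : pw hL j a = (u.app U).hom s) (z : PL) :
    Hit u pL chartL U hU s z ↔ pL z ∈ locus a := by
  by_cases hzU : pL z ∈ q ⁻¹ᵁ U
  · obtain ⟨V, hV, t, ht, hzV, hVU⟩ := exists_affine_frame hL hzU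
    obtain ⟨w, rfl⟩ := ProjQMapX.exists_emb_eq (chart := chartL) V hV hzV
    obtain ⟨c, hc⟩ := (isFrame_powElt ht n).exists_coord le_rfl (res _ hVU a)
    rw [res_self] at hc
    rw [hit_emb_iff hP hPL hn hs V hV hVU w]
    have h1 : u.gradedAt U hU V hV hVU s = (𝒮.str.app (op V)).hom c * LineCone35.elt j t ^ n := by
      rw [← pw_frame_smul hL hV ht, ← hc, ← pw_res, ha]
      rfl
    rw [h1, mem_basicOpen_iff hLq hj hV ht hPL hn c w, ← locus_frame hVU ht hc]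
    exact ⟨fun h => h.1, fun h => ⟨h, hzV⟩⟩
  · refine ⟨?_, fun h => absurd (locus_le a h) hzU⟩
    rintro ⟨U', hU', hle, w, rfl, -⟩
    exact absurd (hle (ProjQMapX.emb_mem U' hU' w)) hzU

end Groth.Agent.RLPsi35
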