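import Groth.Agent.RLPsi35.SymLift
import Groth.Agent.QCoh.AlgGen
import Groth.Agent.QCoh.Qcqs

/-!
Direct images of quasi-coherent algebras, and the graded morphism out of a symmetric algebra into the
direct image of a graded algebra that is given in degree one.
-/

universe u

set_option backward.isDefEq.respectTransparency false
set_option backward.isDefEq.respectTransparency.types false

open CategoryTheory CategoryTheory.Limits AlgebraicGeometry TopologicalSpace Opposite

noncomputable section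

namespace Groth.Agent.RLPsi35

variable {X Y : Scheme.{u}} (q : X ⟶ Y) [QuasiCompact q] [QuasiSeparated q] (B : RelSpec.QCAlg X)

theorem isQC_push : RelSpec.IsQC (q.base _* B.presheaf)
    (q.c ≫ (TopCat.Presheaf.pushforward CommRingCat.{u} q.base).map B.str) := by
  intro U hU r
  let W : X.Opens := q ⁻¹ᵁ U
  have hW : IsCompact (W : Set X) := QuasiCompact.isCompact_preimage _ U.2 hU.isCompact
  have hW₂ : IsQuasiSeparated (W : Set X) := q.isQuasiSeparated_preimage hU.isQuasiSeparated
  let f : Γ(X, W) := q.app U r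
  have key : ∀ (D : X.Opens) (_ : X.basicOpen f = D) (hle : D ≤ W),
      letI := (B.presheaf.map (homOfLE hle).op).hom.toAlgebra
      IsLocalization.Away ((B.str.app (op W)).hom f) (B.presheaf.obj (op D)) := by
    rintro _ rfl hle
    set ρ : B.presheaf.obj (op W) ⟶ B.presheaf.obj (op (X.basicOpen f)) := B.presheaf.map (homOfLE hle).op
    letI := ρ.hom.toAlgebra
    have hnat : ∀ a : Γ(X, W), (B.str.app (op (X.basicOpen f))).hom ((X.presheaf.map (homOfLE hle).op).hom a) =
        ρ.hom ((B.str.app (op W)).hom a) := fun a => congr($(B.str.naturality (homOfLE hle).op).hom a)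
    refine (isLocalization_iff _ _).mpr ⟨fun ⟨_, n, rfl⟩ => ?_, fun z => ?_, fun {x y} hxy => ?_⟩
    · show IsUnit (ρ.hom ((B.str.app (op W)).hom f ^ n))
      rw [map_pow, ← hnat]
      exact ((RingedSpace.isUnit_res_basicOpen X.toRingedSpace f).map _).pow n
    · obtain ⟨n, t, ht⟩ := QCoh.exists_pow_smul_eq_map_of_isQuasiSeparated (QCoh.isQCoh_toModule B) hW hW₂ f z
      refine ⟨(t, ⟨_, n, rfl⟩), ?_⟩
      show z * ρ.hom ((B.str.app (op W)).hom f ^ n) = ρ.hom t
      refine Eq.trans ?_ (show (B.str.app (op (X.basicOpen f))).hom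
        ((X.presheaf.map (homOfLE hle).op).hom f ^ n) * z = ρ.hom t from ht.symm)
      rw [map_pow, map_pow, hnat, mul_comm]
    · obtain ⟨n, hn⟩ := QCoh.exists_pow_smul_eq_zero_of_isCompact (QCoh.isQCoh_toModule B) hW f (x - y)
        (show ρ.hom (x - y) = 0 by rw [map_sub]; exact sub_eq_zero.mpr hxy)
      refine ⟨⟨_, n, rfl⟩, ?_⟩
      show (B.str.app (op W)).hom f ^ n * x = (B.str.app (op W)).hom f ^ n * y
      have h2 : (B.str.app (op W)).hom (f ^ n) * (x - y) = 0 := hn
      rw [map_pow, mul_sub] at h2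
      exact sub_eq_zero.mp h2
  exact key _ (Scheme.preimage_basicOpen q r).symm (q.preimage_mono (Y.basicOpen_le r))

/-- The direct image algebra. -/
def pushAlg : RelSpec.QCAlg Y where
  presheaf := q.base _* B.presheaf
  isSheaf := TopCat.Sheaf.pushforward_sheaf_of_sheaf _ B.isSheaf
  str := q.c ≫ (TopCat.Presheaf.pushforward CommRingCat.{u} q.base).map B.str
  isQC := isQC_push q B

/-- A map into the direct image of the underlying module, as a map into the direct image algebra. -/
def pushModMap : (Scheme.Modules.pushforward q).obj B.toModule ⟶ (pushAlg q B).toModule :=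
  ⟨letI := (pushAlg q B).moduleSect
   PresheafOfModules.homMk
    { app := fun _ => 𝟙 _
      naturality := fun _ _ _ => rfl }
    fun _ _ _ => rfl⟩

theorem pushModMap_app (U : Y.Opens) (x : Γ((Scheme.Modules.pushforward q).obj B.toModule, U)) :
    (pushModMap q B).app U x = x := rfl

variable {q}

/-- The graded morphism `Sym E → q_* 𝒮'` with a given restriction to `E`. -/
theorem exists_qLift {E : Y.Modules} {𝒯 : RelProj.QCGrAlg Y} {jE : E ⟶ 𝒯.toModule} (hE : Coh.IsQCoh E)
    (hjE : RelProj.IsGrSymAlg E 𝒯 jE) (𝒮' : RelProj.QCGrAlg X)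
    (φ : E ⟶ (Scheme.Modules.pushforward q).obj 𝒮'.toModule)
    (hφ : ∀ (U : Y.Opens) (_ : IsAffineOpen U) (x : Γ(E, U)) (V : X.Opens) (hV : IsAffineOpen V) (hVU : V ≤ q ⁻¹ᵁ U),
      (𝒮'.presheaf.map (homOfLE hVU).op).hom ((φ.app U) x) ∈ 𝒮'.deg V hV 1) :
    ∃ u : RelProj.QGrHom q 𝒯 𝒮', ∀ (U : Y.Opens) (x : Γ(E, U)), (u.app U).hom ((jE.app U) x) = (φ.app U) x := by
  obtain ⟨v, hv, -⟩ := hjE.1 (pushAlg q 𝒮'.toQCAlg) (φ ≫ pushModMap q 𝒮'.toQCAlg)
  have h : ∀ (U : Y.Opens) (x : Γ(E, U)), (v.hom.app (op U)).hom ((jE.app U) x) = (φ.app U) x :=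
    fun U x => congr($(hv).app U x)
  let u : RelSpec.QHom q 𝒯.toQCAlg 𝒮'.toQCAlg :=
    { app := fun U => v.hom.app (op U)
      naturality := fun {U V} i => (v.hom.naturality (homOfLE i).op).symm
      str_app := fun U => NatTrans.congr_app v.comm (op U) }
  refine ⟨{ u with map_mem := fun U hU U' hU' hle {d x} hx => ?_ }, h⟩
  obtain ⟨b, rfl⟩ := (SymAlgX.secMap_bijective hE hjE U hU).2 x
  rw [SymAlgX.secMap_mem_iff hE hjE U hU] at hx
  refine SymAlgX.mem_of_mem_symDeg (𝒮'.deg U' hU')
    ((u.appLE U U' hle).hom.comp (SymAlgX.secMap jE U)) (fun r => ?_) (fun y => ?_) hx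
  · rw [RingHom.comp_apply, SymAlgX.secMap_algebraMap]
    have e : (v.hom.app (op U)).hom ((𝒯.str.app (op U)).hom r) =
        (𝒮'.str.app (op (q ⁻¹ᵁ U))).hom (q.app U r) := congr($(u.str_app U).hom r)
    show (𝒮'.presheaf.map (homOfLE hle).op).hom ((v.hom.app (op U)).hom ((𝒯.str.app (op U)).hom r)) ∈ _
    rw [e]
    exact congrArg (· ∈ 𝒮'.deg U' hU' 0) (congr($(𝒮'.str.naturality (homOfLE hle).op).hom (q.app U r))) |>.mp
      (𝒮'.str_mem U' hU' _)
  · rw [RingHom.comp_apply, SymAlgX.secMap_ι]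
    show (𝒮'.presheaf.map (homOfLE hle).op).hom ((v.hom.app (op U)).hom ((jE.app U) y)) ∈ _
    rw [h]
    exact hφ U hU y U' hU' hle

end Groth.Agent.RLPsi35
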