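import Groth.Agent.SymAlgX.GrSym
import Groth.Agent.RLPsi35.CompHom

/-!
Graded homomorphisms out of a symmetric algebra.
-/

universe u

open CategoryTheory AlgebraicGeometry TopologicalSpace Opposite

noncomputable section

namespace Groth.Agent.RLPsi35

variable {S : Scheme.{u}} {E : S.Modules} {𝒮 : RelProj.QCGrAlg S} {j : E ⟶ 𝒮.toModule}

/-- A homomorphism out of `Sym E` sending `E` to degree one is graded. -/
theorem isGradedHom_of_deg_one (hE : Coh.IsQCoh E) (hj : RelProj.IsGrSymAlg E 𝒮 j)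
    {𝒯 : RelProj.QCGrAlg S} (v : 𝒮.toQCAlg ⟶ 𝒯.toQCAlg)
    (hv : ∀ (U : S.Opens) (hU : IsAffineOpen U) (x : Γ(E, U)),
      (v.hom.app (op U)).hom ((j.app U) x) ∈ 𝒯.deg U hU 1) :
    RelProj.IsGradedHom v := by
  intro U hU d y hy
  obtain ⟨b, rfl⟩ := (SymAlgX.secMap_bijective hE hj U hU).2 y
  rw [SymAlgX.secMap_mem_iff hE hj U hU] at hy
  refine SymAlgX.mem_of_mem_symDeg (𝒯.deg U hU)
    ((v.hom.app (op U)).hom.comp (SymAlgX.secMap j U)) (fun r => ?_) (fun x => ?_) hy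
  · rw [RingHom.comp_apply, SymAlgX.secMap_algebraMap]
    exact congrArg (· ∈ 𝒯.deg U hU 0) (congr($(NatTrans.congr_app v.comm (op U)).hom r)) |>.mpr (𝒯.str_mem U hU r)
  · rw [RingHom.comp_apply, SymAlgX.secMap_ι]
    exact hv U hU x

/-- The graded homomorphism extending a map of modules into degree one. -/
theorem exists_symLift (hE : Coh.IsQCoh E) (hj : RelProj.IsGrSymAlg E 𝒮 j) {𝒯 : RelProj.QCGrAlg S}
    (φ : E ⟶ 𝒯.toModule) (hφ : ∀ (U : S.Opens) (hU : IsAffineOpen U) (x : Γ(E, U)), (φ.app U) x ∈ 𝒯.deg U hU 1) :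
    ∃ v : 𝒮.toQCAlg ⟶ 𝒯.toQCAlg, RelProj.IsGradedHom v ∧
      ∀ (U : S.Opens) (x : Γ(E, U)), (v.hom.app (op U)).hom ((j.app U) x) = (φ.app U) x := by
  obtain ⟨v, hv, -⟩ := hj.1 𝒯.toQCAlg φ
  have h : ∀ (U : S.Opens) (x : Γ(E, U)), (v.hom.app (op U)).hom ((j.app U) x) = (φ.app U) x := fun U x =>
    congr($(hv).app U x)
  exact ⟨v, isGradedHom_of_deg_one hE hj v (fun U hU x => (h U x).symm ▸ hφ U hU x), h⟩

end Groth.Agent.RLPsi35
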