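import Groth.Agent.RLPsi35.Gen
import Groth.Agent.RLPsi35.FTImm
import Groth.Agent.RLPsi35.DegSub
import Groth.Agent.RLPsi35.SymLift
import Groth.Agent.RelTildeX.Props

/-!
Immersions into projective bundles come from finite type submodules.
-/

universe u

set_option backward.isDefEq.respectTransparency false
set_option backward.isDefEq.respectTransparency.types false

open CategoryTheory CategoryTheory.Limits AlgebraicGeometry TopologicalSpace Opposite
open Groth.Agent.QCoh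
open scoped HomogeneousIdeal

noncomputable section

namespace Groth.Agent.RLPsi35

section sub

variable {Y : Scheme.{u}}

/-- Finitely many sections lie in a finite type quasi-coherent submodule. -/
theorem exists_ft_sub (hYs : (CompactSpace Y ∧ Y.IsSeparated) ∨ NoetherianSpace Y) {F : Y.Modules}
    (hF : Coh.IsQCoh F) {K : Type*} [Finite K] (U : K → Y.Opens) (hU : ∀ k, IsAffineOpen (U k))
    (T : ∀ k, Set Γ(F, U k)) (hT : ∀ k, (T k).Finite) :
    ∃ (E : Y.Modules) (_ : Coh.IsQCoh E) (_ : CohB1.IsFT E) (ι : E ⟶ F)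
      (_ : ∀ V : Y.Opens, Function.Injective (ι.app V)),
      ∀ k, ∀ t ∈ T k, ∃ e, ι.app (U k) e = t := by
  have hext : ∀ U : Y.Opens, IsAffineOpen U → QCoh.ExtStep U := fun U hU => by
    rcases hYs with ⟨h1, h2⟩ | h
    · exact QCoh.extStep_qcqs hU.isCompact
    · exact QCoh.extStep_noetherian (fun x => ⟨⊤, trivial, (h.set (⊤ : Y.Opens))⟩) U
  choose N hN hTN using fun k => exists_ftOn_contains hF (hU k) (hext _ (hU k)) (T k) (hT k)
  let M := sumSub N
  have hM : FTOn M ⊤ := ftOn_sumSub N hN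
  exact ⟨M.toModules, isQCoh_of_ftOn hF hM, isFT_of_ftOn hF hM, M.ι, fun V => M.ι_app_injective V,
    fun k t ht => M.exists_app_eq (le_sumSub N k _ (hTN k ht))⟩

variable {E : Y.Modules} {𝒯 : RelProj.QCGrAlg Y} {j : E ⟶ 𝒯.toModule}

/-- An element of the symmetric algebra over an affine open involves finitely many generators. -/
theorem exists_finite_gens (hE : Coh.IsQCoh E) (hj : RelProj.IsGrSymAlg E 𝒯 j) {U : Y.Opens}
    (hU : IsAffineOpen U) (a : 𝒯.presheaf.obj (op U)) :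
    ∃ S : Set Γ(E, U), S.Finite ∧ a ∈ Subring.closure (Set.range (𝒯.str.app (op U)).hom ∪
      (fun x => (show 𝒯.presheaf.obj (op U) from (j.app U) x)) '' S) := by
  obtain ⟨b, rfl⟩ := (SymAlgX.secMap_bijective hE hj U hU).2 a
  have hmono : ∀ {S S' : Set Γ(E, U)}, S ⊆ S' →
      Subring.closure (Set.range (𝒯.str.app (op U)).hom ∪ (fun x => (show 𝒯.presheaf.obj (op U) from (j.app U) x)) '' S) ≤
        Subring.closure (Set.range (𝒯.str.app (op U)).hom ∪ (fun x => (show 𝒯.presheaf.obj (op U) from (j.app U) x)) '' S') :=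
    fun h => Subring.closure_mono (Set.union_subset_union_right _ (Set.image_mono h))
  induction b using SymmetricAlgebra.induction with
  | algebraMap r =>
    exact ⟨∅, Set.finite_empty, Subring.subset_closure (Or.inl ⟨r, (SymAlgX.secMap_algebraMap U r).symm⟩)⟩
  | ι x =>
    exact ⟨{x}, Set.finite_singleton x, Subring.subset_closure (Or.inr ⟨x, rfl, (SymAlgX.secMap_ι U x).symm⟩)⟩
  | mul a b ha hb =>
    obtain ⟨S, hS, ha⟩ := ha
    obtain ⟨S', hS', hb⟩ := hb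
    exact ⟨S ∪ S', hS.union hS', by
      rw [map_mul]; exact mul_mem (hmono Set.subset_union_left ha) (hmono Set.subset_union_right hb)⟩
  | add a b ha hb =>
    obtain ⟨S, hS, ha⟩ := ha
    obtain ⟨S', hS', hb⟩ := hb
    exact ⟨S ∪ S', hS.union hS', by
      rw [map_add]; exact add_mem (hmono Set.subset_union_left ha) (hmono Set.subset_union_right hb)⟩

/-- A graded homomorphism hits a homogeneous element if it hits its generators. -/
theorem exists_deg_preimage {𝒯' : RelProj.QCGrAlg Y} {v : 𝒯'.toQCAlg ⟶ 𝒯.toQCAlg} (hv : RelProj.IsGradedHom v)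
    {U : Y.Opens} (hU : IsAffineOpen U) {S : Set (𝒯.presheaf.obj (op U))}
    (hS : ∀ s ∈ S, ∃ b, (v.hom.app (op U)).hom b = s) {n : ℕ} {a : 𝒯.presheaf.obj (op U)}
    (ha : a ∈ 𝒯.deg U hU n) (hgen : a ∈ Subring.closure (Set.range (𝒯.str.app (op U)).hom ∪ S)) :
    ∃ b ∈ 𝒯'.deg U hU n, (v.hom.app (op U)).hom b = a := by
  have hle : Subring.closure (Set.range (𝒯.str.app (op U)).hom ∪ S) ≤ (v.hom.app (op U)).hom.range := by
    rw [Subring.closure_le]
    rintro y (⟨r, rfl⟩ | hy)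
    · exact ⟨(𝒯'.str.app (op U)).hom r, congr($(NatTrans.congr_app v.comm (op U)).hom r)⟩
    · exact hS y hy
  obtain ⟨b, hb⟩ := hle hgen
  refine ⟨GradedRing.proj (𝒯'.deg U hU) n b, Proj16.proj_mem _ n b, ?_⟩
  have h := ConeLib35.proj_map (RelProj.gradedHomAt v hv U hU) n b
  rw [show RelProj.gradedHomAt v hv U hU b = a from hb, Proj16.proj_of_mem _ ha] at h
  exact h.symm

end sub

variable {X Y : Scheme.{u}} {q : X ⟶ Y} {L : X.Modules} (hL : PicF.IsInvertible L) (hLq : Coh.IsQCoh L)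
  {𝒮L : RelProj.QCGrAlg X} {jL : L ⟶ 𝒮L.toModule} (hjL : RelProj.IsGrSymAlg L 𝒮L jL)
  {PL : Scheme.{u}} {pL : PL ⟶ X}
  {chartL : ∀ (U : X.Opens) (hU : IsAffineOpen U), (((pL ⁻¹ᵁ U : PL.Opens) : Scheme.{u}) ≅ Proj (𝒮L.deg U hU))}
  (hPL : RelProj.IsRelProj 𝒮L pL chartL)
  {F : Y.Modules} (hFq : Coh.IsQCoh F) {𝒯 : RelProj.QCGrAlg Y} {jF : F ⟶ 𝒯.toModule}
  (h𝒯 : RelProj.IsGrSymAlg F 𝒯 jF) (u : RelProj.QGrHom q 𝒯 𝒮L)
  {P : Scheme.{u}} {p : P ⟶ Y}
  {chart : ∀ (U : Y.Opens) (hU : IsAffineOpen U), (((p ⁻¹ᵁ U : P.Opens) : Scheme.{u}) ≅ Proj (𝒯.deg U hU))}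
  (hP : RelProj.IsRelProj 𝒯 p chart)
  {r : ((RelProj.domQ u pL chartL : PL.Opens) : Scheme.{u}) ⟶ P}
  (hr : RelProj.IsProjQMapOn u p chart pL chartL (RelProj.domQ u pL chartL) r)

include hFq h𝒯 in
/-- A point of the domain is hit by a degree one section. -/
theorem exists_hit_deg_one {z : PL} (hz : z ∈ RelProj.domQ u pL chartL) :
    ∃ (U : Y.Opens) (hU : IsAffineOpen U) (e : Γ(F, U)),
      Hit u pL chartL U hU (show 𝒯.presheaf.obj (op U) from (jF.app U) e) z := by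
  obtain ⟨U, hU, d, f, hd, hf, U', hU', hle, w, hwz, hw⟩ := mem_domQ_iff_hit.mp hz
  refine ⟨U, hU, ?_⟩
  by_contra! hall
  have hgen := RelTildeX.irrelevant_eq_span_deg_one (SymAlgX.isGenDegOne hFq h𝒯) U hU
  have hfmem : f ∈ ((𝒯.deg U hU)₊).toIdeal := HomogeneousIdeal.mem_irrelevant_of_mem _ hd hf
  rw [hgen] at hfmem
  have hsub : Ideal.span (𝒯.deg U hU 1 : Set _) ≤
      w.asHomogeneousIdeal.toIdeal.comap (u.gradedAt U hU U' hU' hle) := by
    rw [Ideal.span_le]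
    intro y hy
    obtain ⟨e, rfl⟩ := SymAlgX.exists_of_mem_deg_one hFq h𝒯 U hU hy
    by_contra hne
    exact hall e ⟨U', hU', hle, w, hwz, hne⟩
  exact hw (hsub hfmem)

include hL hLq hjL hPL hFq h𝒯 hP hr in
/-- An immersion into `P(F)` comes from a finite type submodule of `F`. -/
theorem exists_ft_of_isImmersion (hYs : (CompactSpace Y ∧ Y.IsSeparated) ∨ NoetherianSpace Y)
    [QuasiCompact q] [LocallyOfFiniteType q] (htop : RelProj.domQ u pL chartL = ⊤) (himm : IsImmersion r) :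
    ∃ (E : Y.Modules) (_ : Coh.IsQCoh E) (_ : CohB1.IsFT E) (ι : E ⟶ F)
      (_ : ∀ U : Y.Opens, Function.Injective (ι.app U))
      (𝒯' : RelProj.QCGrAlg Y) (jE : E ⟶ 𝒯'.toModule) (_ : RelProj.IsGrSymAlg E 𝒯' jE)
      (u' : RelProj.QGrHom q 𝒯' 𝒮L)
      (_ : ∀ (U : Y.Opens) (x : Γ(E, U)), (u'.app U).hom ((jE.app U) x) = (u.app U).hom ((jF.app U) ((ι.app U) x))),
      (∀ x : X, ∃ (U : Y.Opens) (hU : IsAffineOpen U) (e : Γ(E, U)) (V : X.Opens) (hV : IsAffineOpen V)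
          (hVU : V ≤ q ⁻¹ᵁ U), x ∈ V ∧ Gen 𝒮L V hV 1 ((u'.appLE U V hVU).hom ((jE.app U) e))) ∧
      ∀ (P' : Scheme.{u}) (p' : P' ⟶ Y)
          (chart' : ∀ (U' : Y.Opens) (hU' : IsAffineOpen U'), (((p' ⁻¹ᵁ U' : P'.Opens) : Scheme.{u}) ≅ Proj (𝒯'.deg U' hU')))
          (_ : RelProj.IsRelProj 𝒯' p' chart')
          (r' : ((RelProj.domQ u' pL chartL : PL.Opens) : Scheme.{u}) ⟶ P')
          (_ : RelProj.IsProjQMapOn u' p' chart' pL chartL (RelProj.domQ u' pL chartL) r'),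
        RelProj.domQ u' pL chartL = ⊤ ∧ IsImmersion r' := by
  classical
  have := isIso_pL hLq hjL hPL hL
  have hYc : CompactSpace Y := hYs.elim (fun h => h.1) fun h => NoetherianSpace.compactSpace (h := h)
  have : CompactSpace X := QuasiCompact.compactSpace_of_compactSpace q
  obtain ⟨n, hn, K, hK, c, T, hcov, hTfin, hTdeg, hc⟩ := exists_degree_and_elements hP hPL hr htop himm
  -- generators of the elements
  choose S hSfin hS using fun (k : K) (t : T k) => exists_finite_gens hFq h𝒯 (c k).hU t.1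
  -- generators of `L`
  have hone : ∀ x : X, ∃ (U : Y.Opens) (hU : IsAffineOpen U) (e : Γ(F, U)) (V : X.Opens) (hV : IsAffineOpen V)
      (hVU : V ≤ q ⁻¹ᵁ U), x ∈ V ∧ Gen 𝒮L V hV 1 ((u.appLE U V hVU).hom ((jF.app U) e)) := fun x => by
    obtain ⟨z, rfl⟩ := pL.surjective x
    obtain ⟨U, hU, e, he⟩ := exists_hit_deg_one hFq h𝒯 u (show z ∈ RelProj.domQ u pL chartL from htop ▸ trivial)
    obtain ⟨V, hV, hVU, hzV, hg⟩ := (hit_iff_gen hLq hjL hPL hL one_pos (h𝒯.2 U hU e)).mp he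
    exact ⟨U, hU, e, V, hV, hVU, hzV, hg⟩
  choose U₁ hU₁ e₁ V₁ hV₁ hVU₁ hxV₁ hg₁ using hone
  obtain ⟨s, hs⟩ := isCompact_univ.elim_finite_subcover (fun x => (V₁ x : Set X)) (fun x => (V₁ x).2)
    fun x _ => Set.mem_iUnion.mpr ⟨x, hxV₁ x⟩
  let Uall : K ⊕ s → Y.Opens := Sum.elim (fun k => (c k).U) fun x => U₁ x
  let Tall : ∀ i, Set Γ(F, Uall i) := fun
    | .inl k => ⋃ t : T k, S k t
    | .inr x => {e₁ x}
  obtain ⟨E, hE, hEft, ι, hι, hlift⟩ := exists_ft_sub hYs hFq Uall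
    (fun | .inl k => (c k).hU | .inr x => hU₁ x) Tall (fun
      | .inl k => by
        haveI := (hTfin k).to_subtype
        exact Set.finite_iUnion (hSfin k)
      | .inr x => Set.finite_singleton _)
  obtain ⟨𝒯', jE, h𝒯'⟩ := SymAlgX.exists_isGrSymAlg E hE
  obtain ⟨v, hv, hvj⟩ := exists_symLift hE h𝒯' (ι ≫ jF) fun U hU x => h𝒯.2 U hU _
  let u' := compHom u v hv
  have hu'j : ∀ (U : Y.Opens) (x : Γ(E, U)),
      (u'.app U).hom ((jE.app U) x) = (u.app U).hom ((jF.app U) ((ι.app U) x)) := fun U x => by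
    show (u.app U).hom ((v.hom.app (op U)).hom ((jE.app U) x)) = _
    rw [hvj]
    rfl
  refine ⟨E, hE, hEft, ι, hι, 𝒯', jE, h𝒯', u', hu'j, fun x => ?_, fun P' p' chart' hP' r' hr' => ?_⟩
  · obtain ⟨y, hy, hxy⟩ := Set.mem_iUnion₂.mp (hs (Set.mem_univ x))
    obtain ⟨e, he⟩ := hlift (.inr ⟨y, hy⟩) _ rfl
    refine ⟨U₁ y, hU₁ y, e, V₁ y, hV₁ y, hVU₁ y, hxy, ?_⟩
    have h1 : (u'.appLE (U₁ y) (V₁ y) (hVU₁ y)).hom ((jE.app (U₁ y)) e) =
        (u.appLE (U₁ y) (V₁ y) (hVU₁ y)).hom ((jF.app (U₁ y)) (e₁ y)) := by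
      refine (congrArg (𝒮L.presheaf.map (homOfLE (hVU₁ y)).op).hom (hu'j (U₁ y) e)).trans ?_
      exact congrArg (fun w => (u.appLE (U₁ y) (V₁ y) (hVU₁ y)).hom ((jF.app (U₁ y)) w)) he
    rw [h1]
    exact hg₁ y
  · have hpre : ∀ k, ∀ t ∈ T k, ∃ b ∈ 𝒯'.deg (c k).U (c k).hU n, (v.hom.app (op (c k).U)).hom b = t :=
      fun k t ht => exists_deg_preimage hv (c k).hU (fun y hy => by
        obtain ⟨w, hw, rfl⟩ := hy
        obtain ⟨e, he⟩ := hlift (.inl k) w (Set.mem_iUnion.mpr ⟨⟨t, ht⟩, hw⟩)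
        exact ⟨(jE.app (c k).U) e, (hvj (c k).U e).trans (congrArg (fun z => (jF.app (c k).U) z) he)⟩)
        (hTdeg k ht) (hS k ⟨t, ht⟩)
    choose e he hef using fun k => hpre k (c k).f (hc k).2.1
    let c' : K → Piece u' pL chartL := fun k =>
      ⟨(c k).U, (c k).hU, n, hn, e k, he k, (c k).V, (c k).hV, (c k).hle, fun z => by
        rw [hit_comp_iff (hu' := fun U => rfl) v u', hef k]; exact (c k).mem_iff z⟩
    refine Piece.isImmersion_of_cover hP' hPL hr' c' hcov fun k => ?_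
    obtain ⟨-, -, G, hG, hGs⟩ := hc k
    refine Piece.cond_of_generators hP' hPL (c' k) G hG fun g hg => ?_
    obtain ⟨w, hwT, hw⟩ := hGs g hg
    obtain ⟨b, hb, hbw⟩ := hpre k w hwT
    refine ⟨1, b, (one_mul n).symm ▸ hb, ?_⟩
    have e1 : ∀ a, (u'.appLE (c k).U (c k).V (c k).hle).hom a =
        (u.appLE (c k).U (c k).V (c k).hle).hom ((v.hom.app (op (c k).U)).hom a) := fun a =>
      gradedAt_comp v u' (fun U => rfl) (c k).U (c k).hU (c k).V (c k).hV (c k).hle a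
    show _ * (u'.appLE (c k).U (c k).V (c k).hle).hom (e k) ^ 1 = (u'.appLE (c k).U (c k).V (c k).hle).hom b
    rw [pow_one, e1, e1, hef k, hbw]
    exact hw

include hFq h𝒯 in
/-- A morphism out of `Sym F` is determined in degree one. -/
theorem app_eq_of_deg_one {u₁ u₂ : RelProj.QGrHom q 𝒯 𝒮L}
    (h : ∀ (U : Y.Opens) (_ : IsAffineOpen U) (x : Γ(F, U)),
      (u₁.app U).hom ((jF.app U) x) = (u₂.app U).hom ((jF.app U) x)) (U : Y.Opens) :
    u₁.app U = u₂.app U := by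
  refine CommRingCat.hom_ext (RingHom.ext fun a => AModX.eq_of_locally (M := 𝒮L.toQCAlg.toModule) _ _ fun x hx => ?_)
  obtain ⟨_, ⟨W, hW, rfl⟩, hxW, hle⟩ := Y.isBasis_affineOpens.exists_subset_of_mem_open (show q x ∈ U from hx) U.2
  refine ⟨q ⁻¹ᵁ W, q.preimage_mono hle, hxW, ?_⟩
  have key : (u₁.app W).hom = (u₂.app W).hom := by
    refine RingHom.ext fun b => ?_
    obtain ⟨c, rfl⟩ := (SymAlgX.secMap_bijective hFq h𝒯 W hW).2 b
    refine RingHom.congr_fun (f := (u₁.app W).hom.comp (SymAlgX.secMap jF W))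
      (g := (u₂.app W).hom.comp (SymAlgX.secMap jF W)) (SymAlgX.sym_ringHom_ext (fun r => ?_) fun y => ?_) c
    · simp only [RingHom.comp_apply, SymAlgX.secMap_algebraMap]
      exact (congr($(u₁.str_app W).hom r)).trans (congr($(u₂.str_app W).hom r)).symm
    · simp only [RingHom.comp_apply, SymAlgX.secMap_ι]
      exact h W hW y
  show (u₁.app U ≫ 𝒮L.presheaf.map _).hom a = (u₂.app U ≫ 𝒮L.presheaf.map _).hom a
  have n1 := u₁.naturality (show W ≤ U from hle)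
  have n2 := u₂.naturality (show W ≤ U from hle)
  calc _ = (𝒯.presheaf.map (homOfLE hle).op ≫ u₁.app W).hom a := (congr($(n1).hom a))
    _ = (𝒯.presheaf.map (homOfLE hle).op ≫ u₂.app W).hom a := by
      simp only [CommRingCat.hom_comp, RingHom.comp_apply, key]
    _ = _ := (congr($(n2).hom a)).symm

end Groth.Agent.RLPsi35
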