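import Groth.Agent.RLPsi35.TwFrame
import Groth.Agent.ProjBC35.Rel
import Groth.Agent.ProjPt.Sections
import Groth.Agent.AModX.Res

/-!
Sections of the twisting sheaves given by homogeneous elements; the tautological map into `p_* O(1)`.
-/

universe u

set_option backward.isDefEq.respectTransparency false
set_option backward.isDefEq.respectTransparency.types false

open CategoryTheory CategoryTheory.Limits AlgebraicGeometry TopologicalSpace Opposite
open HomogeneousLocalization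
open scoped HomogeneousIdeal

noncomputable section

namespace Groth.Agent.RLPsi35

variable {Y P : Scheme.{u}} {𝒮 : RelProj.QCGrAlg Y} {p : P ⟶ Y}
  {chart : ∀ (U : Y.Opens) (hU : IsAffineOpen U), (((p ⁻¹ᵁ U : P.Opens) : Scheme.{u}) ≅ Proj (𝒮.deg U hU))}

lemma injective_appLE_range {A B : Scheme.{u}} (l : A ⟶ B) [IsOpenImmersion l] {O : B.Opens}
    (h : O = l ''ᵁ ⊤) (e : (⊤ : A.Opens) ≤ l ⁻¹ᵁ O) : Function.Injective (l.appLE O ⊤ e) := by
  subst h
  rw [← Scheme.Hom.appIso_hom']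
  exact ((ConcreteCategory.isIso_iff_bijective _).1 inferInstance).1

lemma preimage_le_of_emb (U : Y.Opens) (hU : IsAffineOpen U) (f : 𝒮.presheaf.obj (op U)) :
    RelProj.emb p chart U hU ''ᵁ Proj.basicOpen (𝒮.deg U hU) f ≤ p ⁻¹ᵁ U := by
  rintro _ ⟨w, -, rfl⟩
  exact ProjQMapX.emb_mem U hU w

/-- A function of the base on a standard open is a fraction. -/
lemma resR_app_eq_fn (hP : RelProj.IsRelProj 𝒮 p chart) {U : Y.Opens} (hU : IsAffineOpen U) {D : ℕ}
    (hD : 0 < D) {f : 𝒮.presheaf.obj (op U)} (hf : f ∈ 𝒮.deg U hU D) (r : Γ(Y, U)) :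
    AModX.resR (preimage_le_of_emb (p := p) (chart := chart) U hU f) (p.app U r) =
      fn p chart U hU f (ProjBC35.baseToAway (𝒮.str.app (op U)).hom (𝒮.str_mem U hU) f r) := by
  set e := RelProj.emb p chart U hU
  set O := e ''ᵁ Proj.basicOpen (𝒮.deg U hU) f
  let l := Proj.awayι (𝒮.deg U hU) f hf hD ≫ e
  have hO : O = l ''ᵁ ⊤ := by
    rw [Scheme.Hom.comp_image, Scheme.Hom.image_top_eq_opensRange, Proj.opensRange_awayι]
  have e1 : (⊤ : (Spec (CommRingCat.of (Away (𝒮.deg U hU) f))).Opens) ≤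
      Proj.awayι (𝒮.deg U hU) f hf hD ⁻¹ᵁ Proj.basicOpen (𝒮.deg U hU) f := by
    rw [← Proj.opensRange_awayι (𝒮.deg U hU) f hf hD, Scheme.Hom.preimage_opensRange]
  have el : (⊤ : (Spec (CommRingCat.of (Away (𝒮.deg U hU) f))).Opens) ≤ l ⁻¹ᵁ O := fun x _ =>
    ⟨Proj.awayι (𝒮.deg U hU) f hf hD x, e1 trivial, rfl⟩
  have hlp : l ≫ p = Spec.map (CommRingCat.ofHom
      (ProjBC35.baseToAway (𝒮.str.app (op U)).hom (𝒮.str_mem U hU) f)) ≫ hU.fromSpec :=
    ProjBC35.awayι_emb_comp hP U hU hD f hf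
  refine injective_appLE_range l hO el ?_
  have L1 : l.appLE O ⊤ el (AModX.resR (preimage_le_of_emb (p := p) (chart := chart) U hU f) (p.app U r)) =
      (Scheme.ΓSpecIso _).inv (ProjBC35.baseToAway (𝒮.str.app (op U)).hom (𝒮.str_mem U hU) f r) := by
    show ((p.app U ≫ P.presheaf.map (homOfLE (preimage_le_of_emb (p := p) (chart := chart) U hU f)).op) ≫
      l.appLE O ⊤ el).hom r = _
    rw [Category.assoc, Scheme.Hom.map_appLE, Scheme.Hom.app_eq_appLE, Scheme.Hom.appLE_comp_appLE]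
    simp only [hlp]
    rw [← Scheme.Hom.appLE_comp_appLE _ _ _ ⊤ _ (fun x _ => hU.fromSpec_preimage_self.ge trivial) le_top]
    have h1 : hU.fromSpec.appLE U ⊤ (fun x _ => hU.fromSpec_preimage_self.ge trivial) = (Scheme.ΓSpecIso _).inv := by
      rw [Scheme.Hom.appLE, hU.fromSpec_app_self, Category.assoc, ← Functor.map_comp]
      exact (congrArg (_ ≫ ·) ((Spec Γ(Y, U)).presheaf.map_id _)).trans (Category.comp_id _)
    have h2 : (Spec.map (CommRingCat.ofHom
        (ProjBC35.baseToAway (𝒮.str.app (op U)).hom (𝒮.str_mem U hU) f))).appLE ⊤ ⊤ le_top =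
        (Spec.map (CommRingCat.ofHom
          (ProjBC35.baseToAway (𝒮.str.app (op U)).hom (𝒮.str_mem U hU) f))).appTop :=
      (Scheme.Hom.app_eq_appLE _).symm
    rw [h1, h2, ← Scheme.ΓSpecIso_inv_naturality]
    rfl
  rw [L1, ← Scheme.Hom.appLE_comp_appLE _ _ _ (Proj.basicOpen (𝒮.deg U hU) f) _
    (e.preimage_image_eq _).ge e1, CommRingCat.comp_apply,
    app_fn (p := p) (chart := chart) U hU f _ le_rfl (e.preimage_image_eq _).ge]
  rw [show (homOfLE (le_refl (Proj.basicOpen (𝒮.deg U hU) f))).op = 𝟙 _ from rfl, CategoryTheory.Functor.map_id]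
  show _ = (Proj.awayι _ _ _ _).appLE _ ⊤ e1 ((Proj.awayToSection _ f).hom _)
  rw [← CommRingCat.comp_apply (Proj.awayToSection (𝒮.deg U hU) f), ProjPt.awayι_appLE _ hf hD e1]

/-- The value of a section of the structure sheaf given by a fraction. -/
lemma val_app_fn (U : Y.Opens) (hU : IsAffineOpen U) (f : 𝒮.presheaf.obj (op U))
    (φ : Away (𝒮.deg U hU) f)
    (y : ↥(RelProj.emb p chart U hU ⁻¹ᵁ (RelProj.emb p chart U hU ''ᵁ Proj.basicOpen (𝒮.deg U hU) f)))
    (hy : Submonoid.powers f ≤ Submonoid.comap (RingHom.id _) y.1.asHomogeneousIdeal.toIdeal.primeCompl) :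
    (((RelProj.emb p chart U hU).app _ (fn p chart U hU f φ)).1 y).val =
      IsLocalization.map (S := Localization.Away f) (GrTwist.Loc (𝒮.deg U hU) y.1) (RingHom.id _) hy φ.val := by
  rw [Scheme.Hom.app_eq_appLE]
  erw [app_fn (p := p) (chart := chart) U hU f φ ((RelProj.emb p chart U hU).preimage_image_eq _).le le_rfl]
  erw [ProjectiveSpectrum.Proj.awayToSection_apply]
  rfl

section gsec

variable {n : ℕ} {On : P.Modules}
  {lam : ∀ (U : Y.Opens) (hU : IsAffineOpen U),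
    On ⟶ (Scheme.Modules.pushforward (RelProj.emb p chart U hU)).obj (GrTwist.twist (𝒮.deg U hU) (n : ℤ))}
  (hOn : RelProj.IsRelTwist 𝒮 p chart (n : ℤ) On lam)

/-- The section `a / 1` of `O(n)` over the inverse image of an affine open. -/
def gsec {U : Y.Opens} (hU : IsAffineOpen U) {a : 𝒮.presheaf.obj (op U)} (ha : a ∈ 𝒮.deg U hU n) :
    Γ(On, p ⁻¹ᵁ U) :=
  ((hOn.bijective U hU (p ⁻¹ᵁ U) le_rfl).2
    (GrTwist.resN (n : ℤ) (homOfLE le_top).op (GrTwist.globalOf (𝒮.deg U hU) ⟨a, ha⟩))).choose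

lemma lam_gsec {U : Y.Opens} (hU : IsAffineOpen U) {a : 𝒮.presheaf.obj (op U)} (ha : a ∈ 𝒮.deg U hU n) :
    (lam U hU).app (p ⁻¹ᵁ U) (gsec hOn hU ha) =
      GrTwist.resN (n : ℤ) (homOfLE le_top).op (GrTwist.globalOf (𝒮.deg U hU) ⟨a, ha⟩) :=
  ((hOn.bijective U hU (p ⁻¹ᵁ U) le_rfl).2
    (GrTwist.resN (n : ℤ) (homOfLE le_top).op (GrTwist.globalOf (𝒮.deg U hU) ⟨a, ha⟩))).choose_spec

lemma val_gsec {U : Y.Opens} (hU : IsAffineOpen U) {a : 𝒮.presheaf.obj (op U)} (ha : a ∈ 𝒮.deg U hU n)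
    (y : ↥(RelProj.emb p chart U hU ⁻¹ᵁ (p ⁻¹ᵁ U))) :
    GrTwist.val ((lam U hU).app (p ⁻¹ᵁ U) (gsec hOn hU ha)) y = Localization.mk a 1 := by
  rw [lam_gsec]
  rfl

lemma gsec_congr {U : Y.Opens} (hU : IsAffineOpen U) {a b : 𝒮.presheaf.obj (op U)} (h : a = b)
    (ha : a ∈ 𝒮.deg U hU n) (hb : b ∈ 𝒮.deg U hU n) : gsec hOn hU ha = gsec hOn hU hb := by
  subst h; rfl

lemma gsec_add {U : Y.Opens} (hU : IsAffineOpen U) {a b : 𝒮.presheaf.obj (op U)}
    (ha : a ∈ 𝒮.deg U hU n) (hb : b ∈ 𝒮.deg U hU n) :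
    gsec hOn hU (add_mem ha hb) = gsec hOn hU ha + gsec hOn hU hb := by
  refine (hOn.bijective U hU _ le_rfl).1 ?_
  rw [map_add]
  refine Subtype.ext (funext fun y => Subtype.ext ?_)
  refine (val_gsec hOn hU _ y).trans (Eq.trans ?_ (congrArg₂ (· + ·) (val_gsec hOn hU ha y) (val_gsec hOn hU hb y)).symm)
  rw [Localization.add_mk]
  simp [add_comm]

/-- Compatibility with restriction to basic opens. -/
lemma res_gsec_basic (hP : RelProj.IsRelProj 𝒮 p chart) {U V : Y.Opens} (hU : IsAffineOpen U) (hV : IsAffineOpen V)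
    (hb : ∃ r : Γ(Y, U), Y.basicOpen r = V) {a : 𝒮.presheaf.obj (op U)} (ha : a ∈ 𝒮.deg U hU n) :
    AModX.res On (p.preimage_mono (ProjQMapX.le_of_basic hb)) (gsec hOn hU ha) =
      gsec hOn hV ((𝒮.res hU hV (ProjQMapX.le_of_basic hb)).map_mem ha) := by
  obtain ⟨r, rfl⟩ := hb
  refine (hOn.bijective (Y.basicOpen r) hV _ le_rfl).1 ?_
  refine Subtype.ext (funext fun y => Subtype.ext ?_)
  refine Eq.trans ?_ (val_gsec hOn hV _ y).symm
  have hy : RelProj.emb p chart (Y.basicOpen r) hV y.1 ∈ p ⁻¹ᵁ U :=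
    Y.basicOpen_le r y.2
  have hy' : RelProj.emb p chart U hU (ProjectiveSpectrum.comap
      (𝒮.res hU hV (Y.basicOpen_le r)) (𝒮.irrelevant_le_map U hU r) y.1) ∈ p ⁻¹ᵁ U :=
    ProjQMapX.emb_mem U hU _
  rw [AModX.app_res]
  refine (hOn.compat U hU r _ (gsec hOn hU ha) y.1 hy hy').trans ?_
  rw [lam_gsec]
  show GrTwist.locMap _ _ y.1 (Localization.mk a _) = Localization.mk _ _
  simp only [GrTwist.locMap, Localization.mk_eq_mk']
  refine (Localization.localRingHom_mk' _ _ _ _ _ _).trans ?_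
  congr 1
  exact Subtype.ext (map_one _)

/-- Compatibility with restriction to affine opens. -/
lemma res_gsec (hP : RelProj.IsRelProj 𝒮 p chart) {U V : Y.Opens} (hU : IsAffineOpen U) (hV : IsAffineOpen V)
    (h : V ≤ U) {a : 𝒮.presheaf.obj (op U)} (ha : a ∈ 𝒮.deg U hU n) :
    AModX.res On (p.preimage_mono h) (gsec hOn hU ha) = gsec hOn hV ((𝒮.res hU hV h).map_mem ha) := by
  refine AModX.eq_of_locally _ _ fun x hx => ?_
  obtain ⟨W, hW, hxW, -, hbU, hbV⟩ := ProjQMapX.exists_affine_basic_inter hU hV (O := ⊤) (h hx) hx trivial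
  refine ⟨p ⁻¹ᵁ W, p.preimage_mono (ProjQMapX.le_of_basic hbV), hxW, ?_⟩
  rw [AModX.res_res, res_gsec_basic hOn hP hU hW hbU, res_gsec_basic hOn hP hV hW hbV]
  refine gsec_congr hOn hW ?_ _ _
  show (𝒮.presheaf.map _).hom a = (𝒮.presheaf.map _).hom ((𝒮.presheaf.map _).hom a)
  rw [← CommRingCat.comp_apply, ← Functor.map_comp]
  rfl

/-- Compatibility with multiplication by functions of the base. -/
lemma gsec_smul (hP : RelProj.IsRelProj 𝒮 p chart) {U : Y.Opens} (hU : IsAffineOpen U)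
    {a : 𝒮.presheaf.obj (op U)} (ha : a ∈ 𝒮.deg U hU n) (r : Γ(Y, U))
    (h : (𝒮.str.app (op U)).hom r * a ∈ 𝒮.deg U hU n) :
    gsec hOn hU h = p.app U r • gsec hOn hU ha := by
  refine AModX.eq_of_locally _ _ fun x hx => ?_
  obtain ⟨w, rfl⟩ := ProjQMapX.exists_emb_eq (chart := chart) U hU hx
  obtain ⟨b, hb, hwb⟩ := SetLike.not_le_iff_exists.mp w.not_irrelevant_le
  obtain ⟨d, f, hd, hf, hwf⟩ := ProjQMapX.exists_homogeneous_of_mem_irrelevant
    (GradedRingHom.id (𝒮.deg U hU)) (I := w.asHomogeneousIdeal.toIdeal) hb hwb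
  refine ⟨_, preimage_le_of_emb U hU f, ⟨w, hwf, rfl⟩, ?_⟩
  set e := RelProj.emb p chart U hU
  refine (hOn.bijective U hU _ (preimage_le_of_emb U hU f)).1 ?_
  rw [AModX.res_smul, resR_app_eq_fn hP hU hd hf, Scheme.Modules.Hom.app_smul, AModX.app_res, AModX.app_res,
    lam_gsec, lam_gsec]
  refine Subtype.ext (funext fun y => Subtype.ext ?_)
  refine Eq.trans ?_ (GrTwist.coe_smul_val _ y.1 _ _).symm
  have hy : y.1 ∈ Proj.basicOpen (𝒮.deg U hU) f := e.isOpenEmbedding.injective.mem_set_image.mp y.2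
  have hpow : Submonoid.powers f ≤
      Submonoid.comap (RingHom.id _) y.1.asHomogeneousIdeal.toIdeal.primeCompl := by
    rintro _ ⟨k, rfl⟩ hk
    exact hy (y.1.isPrime.mem_of_pow_mem k hk)
  erw [val_app_fn U hU f _ y hpow]
  show Localization.mk _ _ = _ * Localization.mk a _
  rw [ProjBC35.val_baseToAway, IsLocalization.map_eq, RingHom.id_apply, ← Localization.mk_one_eq_algebraMap,
    Localization.mk_mul]
  congr 1
  exact (mul_one _).symm

end gsec

section one

variable {O1 : P.Modules}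
  {lam : ∀ (U : Y.Opens) (hU : IsAffineOpen U),
    O1 ⟶ (Scheme.Modules.pushforward (RelProj.emb p chart U hU)).obj (GrTwist.twist (𝒮.deg U hU) 1)}
  (hO1 : RelProj.IsRelTwist 𝒮 p chart 1 O1 lam)

/-- The section `e / 1` of `O(1)`. -/
abbrev sec1 {U : Y.Opens} (hU : IsAffineOpen U) {e : 𝒮.presheaf.obj (op U)} (he : e ∈ 𝒮.deg U hU 1) :
    Γ(O1, p ⁻¹ᵁ U) :=
  gsec (n := 1) hO1 hU he

lemma lam_sec1 {U : Y.Opens} (hU : IsAffineOpen U) {e : 𝒮.presheaf.obj (op U)} (he : e ∈ 𝒮.deg U hU 1) :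
    (lam U hU).app (p ⁻¹ᵁ U) (sec1 hO1 hU he) =
      GrTwist.resN 1 (homOfLE le_top).op (GrTwist.globalOf (𝒮.deg U hU) ⟨e, he⟩) :=
  lam_gsec (n := 1) hO1 hU he

/-- A degree one element is a frame where it does not vanish. -/
lemma isFrame_sec1 {U : Y.Opens} (hU : IsAffineOpen U) {e : 𝒮.presheaf.obj (op U)} (he : e ∈ 𝒮.deg U hU 1) :
    InvX.IsFrame (AModX.res O1 (preimage_le_of_emb (p := p) (chart := chart) U hU e) (sec1 hO1 hU he)) := by
  let c : FI 𝒮 ((1 : ℕ) : ℤ) := ⟨U, hU, 2, 1, two_pos, one_pos, e * e, e, SetLike.mul_mem_graded he he, he, rfl⟩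
  have hop : RelProj.emb p chart U hU ''ᵁ Proj.basicOpen (𝒮.deg U hU) e ≤ c.op p chart := by
    rintro _ ⟨w, hw, rfl⟩
    exact ⟨w, ⟨by rw [Proj.basicOpen_mul]; exact ⟨hw, hw⟩, hw⟩, rfl⟩
  have h : AModX.res O1 (preimage_le_of_emb (p := p) (chart := chart) U hU e) (sec1 hO1 hU he) =
      AModX.res O1 hop (fr (n := ((1 : ℕ) : ℤ)) hO1 c) := by
    refine (hO1.bijective U hU _ (preimage_le_of_emb U hU e)).1 ?_
    refine Eq.trans ?_ (((AModX.app_res (lam U hU) hop _)).trans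
      (congrArg (AModX.res _ hop) (lam_fr (n := ((1 : ℕ) : ℤ)) hO1 c))).symm
    rw [AModX.app_res, lam_sec1]
    refine Subtype.ext (funext fun y => Subtype.ext ?_)
    show Localization.mk e _ = Localization.mk (e * e) _
    rw [Localization.mk_eq_mk_iff, Localization.r_iff_exists]
    exact ⟨1, by simp [c, FI.frac]⟩
  rw [h]
  exact (isFrame_fr hO1 c).res hop

/-- The coordinate of a degree one element in the frame given by another one. -/
lemma res_sec1_eq_smul {U : Y.Opens} (hU : IsAffineOpen U) {e e' : 𝒮.presheaf.obj (op U)}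
    (he : e ∈ 𝒮.deg U hU 1) (he' : e' ∈ 𝒮.deg U hU 1) (h : e' ∈ 𝒮.deg U hU (1 • 1)) :
    AModX.res O1 (preimage_le_of_emb (p := p) (chart := chart) U hU e) (sec1 hO1 hU he') =
      fn p chart U hU e (Away.mk (𝒮.deg U hU) he 1 e' h) •
        AModX.res O1 (preimage_le_of_emb (p := p) (chart := chart) U hU e) (sec1 hO1 hU he) := by
  refine (hO1.bijective U hU _ (preimage_le_of_emb U hU e)).1 ?_
  rw [Scheme.Modules.Hom.app_smul, AModX.app_res, AModX.app_res, lam_sec1, lam_sec1]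
  refine Subtype.ext (funext fun y => Subtype.ext ?_)
  refine Eq.trans ?_ (GrTwist.coe_smul_val _ y.1 _ _).symm
  have hy : y.1 ∈ Proj.basicOpen (𝒮.deg U hU) e :=
    (RelProj.emb p chart U hU).isOpenEmbedding.injective.mem_set_image.mp y.2
  have hpow : Submonoid.powers e ≤
      Submonoid.comap (RingHom.id _) y.1.asHomogeneousIdeal.toIdeal.primeCompl := by
    rintro _ ⟨k, rfl⟩ hk
    exact hy (y.1.isPrime.mem_of_pow_mem k hk)
  erw [val_app_fn U hU e _ y hpow]
  show Localization.mk e' _ = _ * Localization.mk e _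
  rw [Away.val_mk, Localization.mk_eq_mk' (M := Submonoid.powers e), IsLocalization.map_mk',
    ← Localization.mk_eq_mk', Localization.mk_mul, Localization.mk_eq_mk_iff, Localization.r_iff_exists]
  exact ⟨1, by simp; ring⟩

variable {E : Y.Modules} {j : E ⟶ 𝒮.toModule}

/-- `t` is the image of `x` under the tautological map. -/
def TautRel (hj : ∀ (V : Y.Opens) (hV : IsAffineOpen V) (x : Γ(E, V)), (j.app V) x ∈ 𝒮.deg V hV 1)
    (U : Y.Opens) (x : Γ(E, U)) (t : Γ(O1, p ⁻¹ᵁ U)) : Prop :=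
  ∀ (V : Y.Opens) (hV : IsAffineOpen V) (h : V ≤ U),
    AModX.res O1 (p.preimage_mono h) t = sec1 hO1 hV (hj V hV (AModX.res E h x))

variable (hj : ∀ (V : Y.Opens) (hV : IsAffineOpen V) (x : Γ(E, V)), (j.app V) x ∈ 𝒮.deg V hV 1)
  (hP : RelProj.IsRelProj 𝒮 p chart)

lemma tautRel_unique {U : Y.Opens} {x : Γ(E, U)} {t t' : Γ(O1, p ⁻¹ᵁ U)} (h : TautRel hO1 hj U x t)
    (h' : TautRel hO1 hj U x t') : t = t' := by
  refine AModX.eq_of_locally _ _ fun z hz => ?_
  obtain ⟨_, ⟨V, hV, rfl⟩, hzV, hle⟩ := Y.isBasis_affineOpens.exists_subset_of_mem_open hz U.2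
  exact ⟨p ⁻¹ᵁ V, p.preimage_mono hle, hzV, (h V hV hle).trans (h' V hV hle).symm⟩

include hP in
lemma tautRel_sec1 {U : Y.Opens} (hU : IsAffineOpen U) (x : Γ(E, U)) :
    TautRel hO1 hj U x (sec1 hO1 hU (hj U hU x)) := fun V hV h => by
  refine (res_gsec hO1 hP hU hV h (hj U hU x)).trans (gsec_congr hO1 hV ?_ _ _)
  exact (AModX.app_res j h x).symm

include hP in
lemma exists_tautRel (U : Y.Opens) (x : Γ(E, U)) : ∃ t, TautRel hO1 hj U x t := by
  let ι' := {V : Y.affineOpens // (V : Y.Opens) ≤ U}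
  have hcov : ∀ y ∈ U, ∃ i : ι', y ∈ (i.1 : Y.Opens) := fun y hy => by
    obtain ⟨_, ⟨V, hV, rfl⟩, hyV, hle⟩ := Y.isBasis_affineOpens.exists_subset_of_mem_open hy U.2
    exact ⟨⟨⟨V, hV⟩, hle⟩, hyV⟩
  obtain ⟨t, ht, -⟩ := AModX.existsUnique_glue (M := O1) (V := p ⁻¹ᵁ U)
    (fun i : ι' => p ⁻¹ᵁ (i.1 : Y.Opens)) (fun i => p.preimage_mono i.2) (fun z hz => hcov (p z) hz)
    (fun i => sec1 hO1 i.1.2 (hj _ i.1.2 (AModX.res E i.2 x))) fun i i' => by
      refine AModX.eq_of_locally _ _ fun z hz => ?_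
      obtain ⟨_, ⟨W, hW, rfl⟩, hzW, hle⟩ :=
        Y.isBasis_affineOpens.exists_subset_of_mem_open (show p z ∈ (i.1 : Y.Opens) ⊓ i'.1 from hz) ((i.1 : Y.Opens) ⊓ i'.1).2
      refine ⟨p ⁻¹ᵁ W, le_inf (p.preimage_mono (le_trans hle inf_le_left)) (p.preimage_mono (le_trans hle inf_le_right)),
        hzW, ?_⟩
      rw [AModX.res_res, AModX.res_res, tautRel_sec1 hO1 hj hP i.1.2 _ W hW (le_trans hle inf_le_left),
        tautRel_sec1 hO1 hj hP i'.1.2 _ W hW (le_trans hle inf_le_right)]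
      refine gsec_congr hO1 hW ?_ _ _
      rw [AModX.res_res, AModX.res_res]
  exact ⟨t, fun V hV h => ht ⟨⟨V, hV⟩, h⟩⟩

/-- The tautological map `E ⟶ p_* O(1)`. -/
def tautMap : E ⟶ (Scheme.Modules.pushforward p).obj O1 where
  val := PresheafOfModules.homMk
    { app := fun U => AddCommGrpCat.ofHom (AddMonoidHom.mk'
        (fun x => (exists_tautRel hO1 hj hP U.unop x).choose) fun x y =>
          tautRel_unique hO1 hj (exists_tautRel hO1 hj hP U.unop (x + y)).choose_spec fun V hV h => by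
            rw [map_add, (exists_tautRel hO1 hj hP U.unop x).choose_spec V hV h,
              (exists_tautRel hO1 hj hP U.unop y).choose_spec V hV h, ← gsec_add]
            exact gsec_congr hO1 hV (by simp only [map_add]) _ _)
      naturality := fun U V i => by
        ext x
        refine tautRel_unique hO1 hj (exists_tautRel hO1 hj hP V.unop (AModX.res E i.unop.le x)).choose_spec
          fun W hW h => ?_
        refine ((AModX.res_res _ _ _).trans
          ((exists_tautRel hO1 hj hP U.unop x).choose_spec W hW (h.trans i.unop.le))).trans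
          (gsec_congr hO1 hW ?_ _ _)
        rw [AModX.res_res] }
    fun U r x => tautRel_unique hO1 hj (exists_tautRel hO1 hj hP U.unop (r • x)).choose_spec fun V hV h => by
      show AModX.res O1 _ (p.app U.unop r • (exists_tautRel hO1 hj hP U.unop x).choose) = _
      rw [AModX.res_smul, (exists_tautRel hO1 hj hP U.unop x).choose_spec V hV h]
      have e : AModX.resR (p.preimage_mono h) (p.app U.unop r) = p.app V (AModX.resR h r) :=
        (ConcreteCategory.congr_hom (p.naturality (homOfLE h).op) r).symm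
      rw [e, ← gsec_smul hO1 hP hV (hj V hV (AModX.res E h x)) (AModX.resR h r)
        (by simpa using SetLike.mul_mem_graded (𝒮.str_mem V hV (AModX.resR h r)) (hj V hV (AModX.res E h x)))]
      exact gsec_congr hO1 hV (by rw [AModX.res_smul]; exact (Scheme.Modules.Hom.app_smul j _ _).symm) _ _

lemma tautMap_app {U : Y.Opens} (hU : IsAffineOpen U) (x : Γ(E, U)) :
    (tautMap hO1 hj hP).app U x = sec1 hO1 hU (hj U hU x) :=
  tautRel_unique hO1 hj (exists_tautRel hO1 hj hP U x).choose_spec (tautRel_sec1 hO1 hj hP hU x)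

end one

end Groth.Agent.RLPsi35
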