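import Groth.Agent.ProjQMapX.Props
import Groth.Agent.GrTwistX.Triv
import Groth.Agent.InvX.Frame
import Groth.Prelude.Def_RelProj2

/-!
Frames of the twisting sheaves of a relative `Proj` given by homogeneous fractions.
-/

universe u

set_option backward.isDefEq.respectTransparency false
set_option backward.isDefEq.respectTransparency.types false

open CategoryTheory CategoryTheory.Limits AlgebraicGeometry TopologicalSpace Opposite
open HomogeneousLocalization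
open scoped HomogeneousIdeal

noncomputable section

namespace Groth.Agent.RLPsi35

variable {Y : Scheme.{u}}

/-- A fraction `a / s` of degree `n` over an affine open. -/
structure FI (𝒮 : RelProj.QCGrAlg Y) (n : ℤ) where
  U : Y.Opens
  hU : IsAffineOpen U
  i : ℕ
  j : ℕ
  hi : 0 < i
  hj : 0 < j
  a : 𝒮.presheaf.obj (op U)
  s : 𝒮.presheaf.obj (op U)
  ha : a ∈ 𝒮.deg U hU i
  hs : s ∈ 𝒮.deg U hU j
  deg_eq : (i : ℤ) = j + n

variable {P : Scheme.{u}} {𝒮 : RelProj.QCGrAlg Y} {p : P ⟶ Y}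
  {chart : ∀ (U : Y.Opens) (hU : IsAffineOpen U), (((p ⁻¹ᵁ U : P.Opens) : Scheme.{u}) ≅ Proj (𝒮.deg U hU))}
  {n : ℤ}

variable (p chart) in
/-- The open where a fraction is invertible. -/
def FI.op (c : FI 𝒮 n) : P.Opens :=
  RelProj.emb p chart c.U c.hU ''ᵁ (Proj.basicOpen (𝒮.deg c.U c.hU) c.a ⊓ Proj.basicOpen (𝒮.deg c.U c.hU) c.s)

lemma FI.op_le (c : FI 𝒮 n) : c.op p chart ≤ p ⁻¹ᵁ c.U := by
  rintro _ ⟨w, -, rfl⟩
  exact ProjQMapX.emb_mem c.U c.hU w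

/-- The restriction of a fraction to a smaller affine. -/
def FI.restr (c : FI 𝒮 n) {V : Y.Opens} (hV : IsAffineOpen V) (h : V ≤ c.U) : FI 𝒮 n where
  U := V
  hU := hV
  i := c.i
  j := c.j
  hi := c.hi
  hj := c.hj
  a := 𝒮.res c.hU hV h c.a
  s := 𝒮.res c.hU hV h c.s
  ha := (𝒮.res c.hU hV h).2 c.ha
  hs := (𝒮.res c.hU hV h).2 c.hs
  deg_eq := c.deg_eq

variable (p chart) in
/-- The fraction as an invertible fraction on the chart. -/
def FI.frac (c : FI 𝒮 n) :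
    GrTwistX.UnitFrac (𝒜 := 𝒮.deg c.U c.hU) n (RelProj.emb p chart c.U c.hU ⁻¹ᵁ c.op p chart) where
  i := c.i
  j := c.j
  num := c.a
  den := c.s
  num_mem := c.ha
  den_mem := c.hs
  deg := c.deg_eq
  num_ne x := ((RelProj.emb p chart c.U c.hU).isOpenEmbedding.injective.mem_set_image.mp x.2).1
  den_ne x := ((RelProj.emb p chart c.U c.hU).isOpenEmbedding.injective.mem_set_image.mp x.2).2

lemma FI.restr_op_le (hP : RelProj.IsRelProj 𝒮 p chart) (c : FI 𝒮 n) {V : Y.Opens} (hV : IsAffineOpen V)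
    (hb : ∃ r : Γ(Y, c.U), Y.basicOpen r = V) :
    (c.restr hV (ProjQMapX.le_of_basic hb)).op p chart ≤ c.op p chart := by
  rintro _ ⟨w, hw, rfl⟩
  refine ⟨Proj.map (𝒮.res c.hU hV (ProjQMapX.le_of_basic hb))
    (Proj16.irrelevant_le_res 𝒮 c.hU hV _ hb) w, ?_, ProjQMapX.emb_map_res hP c.hU hV _ hb w⟩
  exact hw

lemma FI.mem_restr_op (hP : RelProj.IsRelProj 𝒮 p chart) (c : FI 𝒮 n) {V : Y.Opens} (hV : IsAffineOpen V)
    (hb : ∃ r : Γ(Y, c.U), Y.basicOpen r = V) {x : P} (hx : x ∈ c.op p chart) (hxV : p x ∈ V) :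
    x ∈ (c.restr hV (ProjQMapX.le_of_basic hb)).op p chart := by
  obtain ⟨v, rfl⟩ := ProjQMapX.exists_emb_eq (chart := chart) V hV hxV
  refine ⟨v, ?_, rfl⟩
  rw [← ProjQMapX.emb_map_res hP c.hU hV (ProjQMapX.le_of_basic hb) hb v] at hx
  exact ((RelProj.emb p chart c.U c.hU).isOpenEmbedding.injective.mem_set_image.mp hx)

variable {On : P.Modules}
  {lam : ∀ (U : Y.Opens) (hU : IsAffineOpen U),
    On ⟶ (Scheme.Modules.pushforward (RelProj.emb p chart U hU)).obj (GrTwist.twist (𝒮.deg U hU) n)}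
  (hOn : RelProj.IsRelTwist 𝒮 p chart n On lam)

/-- The frame of a fraction. -/
def fr (c : FI 𝒮 n) : Γ(On, c.op p chart) :=
  ((hOn.bijective c.U c.hU (c.op p chart) c.op_le).2 (GrTwistX.fracSect (c.frac p chart))).choose

lemma lam_fr (c : FI 𝒮 n) : (lam c.U c.hU).app (c.op p chart) (fr hOn c) = GrTwistX.fracSect (c.frac p chart) :=
  ((hOn.bijective c.U c.hU (c.op p chart) c.op_le).2 (GrTwistX.fracSect (c.frac p chart))).choose_spec

lemma isFrame_fr (c : FI 𝒮 n) : InvX.IsFrame (fr hOn c) := fun V hV => by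
  let e := RelProj.emb p chart c.U c.hU
  obtain ⟨V', rfl⟩ : ∃ V', e ''ᵁ V' = V := ⟨e ⁻¹ᵁ V, by
    rw [Scheme.Hom.image_preimage_eq_opensRange_inf]
    exact inf_eq_right.mpr (hV.trans ((e.image_le_opensRange _)))⟩
  have he : Function.Bijective (e.app (e ''ᵁ V')) :=
    (ConcreteCategory.isIso_iff_bijective _).1 inferInstance
  have key : ((lam c.U c.hU).app (e ''ᵁ V')) ∘ (fun r : Γ(P, e ''ᵁ V') => r • AModX.res On hV (fr hOn c)) =
      (fun g => (show Γ(GrTwist.twist (𝒮.deg c.U c.hU) n, e ⁻¹ᵁ (e ''ᵁ V')) from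
        GrTwistX.trivMap ((c.frac p chart).res (e.preimage_mono hV)) g)) ∘ (e.app (e ''ᵁ V')) :=
    funext fun r => (Scheme.Modules.Hom.app_smul (lam c.U c.hU) r _).trans
      (congrArg (fun z => r • z) ((AModX.app_res (lam c.U c.hU) hV (fr hOn c)).trans
        (congrArg (AModX.res _ hV) (lam_fr hOn c))))
  have := (GrTwistX.trivMap_bijective ((c.frac p chart).res (e.preimage_mono hV))).comp he
  rw [← key] at this
  exact (Function.Bijective.of_comp_iff' (hOn.bijective c.U c.hU _ (hV.trans c.op_le)) _).mp this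

/-- Restricting a fraction to a basic open restricts its frame. -/
lemma res_fr (hP : RelProj.IsRelProj 𝒮 p chart) (c : FI 𝒮 n) {V : Y.Opens} (hV : IsAffineOpen V)
    (hb : ∃ r : Γ(Y, c.U), Y.basicOpen r = V) :
    AModX.res On (c.restr_op_le hP hV hb) (fr hOn c) = fr hOn (c.restr hV (ProjQMapX.le_of_basic hb)) := by
  obtain ⟨r, rfl⟩ := hb
  set c' := c.restr hV (ProjQMapX.le_of_basic ⟨r, rfl⟩)
  refine (hOn.bijective (Y.basicOpen r) hV _ c'.op_le).1 ?_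
  rw [AModX.app_res]
  refine Eq.trans ?_ (lam_fr hOn c').symm
  refine Subtype.ext (funext fun y => Subtype.ext ?_)
  have hy : RelProj.emb p chart (Y.basicOpen r) hV y.1 ∈ c.op p chart :=
    c.restr_op_le hP hV ⟨r, rfl⟩ y.2
  have hy' : RelProj.emb p chart c.U c.hU (ProjectiveSpectrum.comap
      (𝒮.res c.hU hV (Y.basicOpen_le r)) (𝒮.irrelevant_le_map c.U c.hU r) y.1) ∈ c.op p chart := by
    have := ProjQMapX.emb_map_res hP c.hU hV (Y.basicOpen_le r) ⟨r, rfl⟩ (chart := chart) y.1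
    rw [← this] at hy
    exact hy
  refine (hOn.compat c.U c.hU r _ (fr hOn c) y.1 hy hy').trans ?_
  rw [lam_fr]
  show GrTwist.locMap _ _ y.1 (Localization.mk c.a _) = Localization.mk (𝒮.res c.hU hV _ c.a) _
  simp only [GrTwist.locMap, Localization.mk_eq_mk']
  exact Localization.localRingHom_mk' _ _ _ _ _ _

variable (p chart) in
/-- A fraction of degree zero as a function on the standard open. -/
def fn (U : Y.Opens) (hU : IsAffineOpen U) (f : 𝒮.presheaf.obj (op U)) (φ : Away (𝒮.deg U hU) f) :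
    Γ(P, RelProj.emb p chart U hU ''ᵁ Proj.basicOpen (𝒮.deg U hU) f) :=
  ((RelProj.emb p chart U hU).appIso (Proj.basicOpen (𝒮.deg U hU) f)).inv
    ((Proj.awayToSection (𝒮.deg U hU) f).hom φ)

lemma app_fn (U : Y.Opens) (hU : IsAffineOpen U) (f : 𝒮.presheaf.obj (op U)) (φ : Away (𝒮.deg U hU) f)
    {V : (Proj (𝒮.deg U hU)).Opens} (hV : V ≤ Proj.basicOpen (𝒮.deg U hU) f)
    (e : V ≤ RelProj.emb p chart U hU ⁻¹ᵁ (RelProj.emb p chart U hU ''ᵁ Proj.basicOpen (𝒮.deg U hU) f)) :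
    (RelProj.emb p chart U hU).appLE _ V e (fn p chart U hU f φ) =
      (Proj (𝒮.deg U hU)).presheaf.map (homOfLE hV).op ((Proj.awayToSection (𝒮.deg U hU) f).hom φ) := by
  rw [← Scheme.Hom.appLE_map _ ((RelProj.emb p chart U hU).preimage_image_eq _).ge (homOfLE hV).op,
    ← Scheme.Hom.appIso_hom', fn, CommRingCat.comp_apply, Iso.inv_hom_id_apply]

/-- The coordinate of a fraction in the frame of another one. -/
lemma res_fr_eq_smul (c₁ : FI 𝒮 n) {i j : ℕ} (hi : 0 < i) (hj : 0 < j) {a s : 𝒮.presheaf.obj (op c₁.U)}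
    (ha : a ∈ 𝒮.deg c₁.U c₁.hU i) (hs : s ∈ 𝒮.deg c₁.U c₁.hU j) (hn : (i : ℤ) = j + n)
    {f : 𝒮.presheaf.obj (op c₁.U)} (hf : f = c₁.a * c₁.s * (a * s)) {D : ℕ}
    (hfD : f ∈ 𝒮.deg c₁.U c₁.hU D) (hφ : a ^ 2 * c₁.s ^ 2 ∈ 𝒮.deg c₁.U c₁.hU (1 • D))
    (h₁ : RelProj.emb p chart c₁.U c₁.hU ''ᵁ Proj.basicOpen (𝒮.deg c₁.U c₁.hU) f ≤ c₁.op p chart)
    (h₂ : RelProj.emb p chart c₁.U c₁.hU ''ᵁ Proj.basicOpen (𝒮.deg c₁.U c₁.hU) f ≤
      (⟨c₁.U, c₁.hU, i, j, hi, hj, a, s, ha, hs, hn⟩ : FI 𝒮 n).op p chart) :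
    AModX.res On h₂ (fr hOn ⟨c₁.U, c₁.hU, i, j, hi, hj, a, s, ha, hs, hn⟩) =
      fn p chart c₁.U c₁.hU f (Away.mk (𝒮.deg c₁.U c₁.hU) hfD 1 (a ^ 2 * c₁.s ^ 2) hφ) •
        AModX.res On h₁ (fr hOn c₁) := by
  set e := RelProj.emb p chart c₁.U c₁.hU
  refine (hOn.bijective c₁.U c₁.hU _ (h₁.trans c₁.op_le)).1 ?_
  rw [Scheme.Modules.Hom.app_smul, AModX.app_res, AModX.app_res, lam_fr hOn c₁,
    lam_fr hOn (⟨c₁.U, c₁.hU, i, j, hi, hj, a, s, ha, hs, hn⟩ : FI 𝒮 n)]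
  refine Subtype.ext (funext fun y => Subtype.ext ?_)
  refine Eq.trans ?_ (GrTwist.coe_smul_val n y.1 _ _).symm
  have hy : y.1 ∈ Proj.basicOpen (𝒮.deg c₁.U c₁.hU) f :=
    e.isOpenEmbedding.injective.mem_set_image.mp y.2
  have hval : e.app (e ''ᵁ Proj.basicOpen _ f)
      (fn p chart c₁.U c₁.hU f (Away.mk (𝒮.deg c₁.U c₁.hU) hfD 1 (a ^ 2 * c₁.s ^ 2) hφ)) =
      (Proj (𝒮.deg c₁.U c₁.hU)).presheaf.map (homOfLE (e.preimage_image_eq _).le).op
        ((Proj.awayToSection (𝒮.deg c₁.U c₁.hU) f).hom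
          (Away.mk (𝒮.deg c₁.U c₁.hU) hfD 1 (a ^ 2 * c₁.s ^ 2) hφ)) := by
    rw [Scheme.Hom.app_eq_appLE]
    exact app_fn (p := p) (chart := chart) c₁.U c₁.hU f _ (e.preimage_image_eq _).le le_rfl
  erw [hval]
  erw [ProjectiveSpectrum.Proj.awayToSection_apply]
  show Localization.mk a _ = _ * Localization.mk c₁.a _
  rw [Away.val_mk, Localization.mk_eq_mk' (M := Submonoid.powers f), IsLocalization.map_mk',
    ← Localization.mk_eq_mk', Localization.mk_mul, Localization.mk_eq_mk_iff, Localization.r_iff_exists]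
  exact ⟨1, by simp [hf, FI.frac]; ring⟩

end Groth.Agent.RLPsi35
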