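import Groth.Agent.RLPsi35.VATensor
import Groth.Agent.RelProj34.QPImm
import Groth.Agent.AmpleX.Comp
import Groth.Agent.QCoh.Qcqs
import Groth.Agent.H23.PicMul

/-!
High powers of a relatively ample module are very ample.
-/

universe u

set_option backward.isDefEq.respectTransparency false
set_option backward.isDefEq.respectTransparency.types false

open CategoryTheory CategoryTheory.Limits AlgebraicGeometry TopologicalSpace Opposite
open Groth.Agent.QCoh (rB)
open Groth.Agent.H23.PicMul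
open scoped Groth.Agent.H23.PicMul

noncomputable section

namespace Groth.Agent.RLPsi35

variable {X Y : Scheme.{u}} {f : X ⟶ Y} [QuasiCompact f] {L L' : X.Modules}

/-- Near a point all large twists have a section from the base which is a frame. -/
theorem exists_nhd_locus (h : RelAmple.IsRelAmple f L) (hL' : PicF.IsInvertible L') {V : Y.Opens}
    (hV : IsAffineOpen V) {x : X} (hx : f x ∈ V) :
    ∃ (B : X.Opens) (n₀ : ℕ), x ∈ B ∧ ∀ n, n₀ ≤ n →
      ∃ σ : Γ(CohB1.tensorMod (CohB1.tensorPow L n) L', f ⁻¹ᵁ V), B ≤ AmpleX.locus σ := by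
  have hL := AmpleX.isInvertible_of_isRelAmple h
  have : IsSeparated f := AmpleX.isSeparated_of_ampleOn fun y => AmpleX.ampleOn_of_isRelAmple h (f y)
  let W := f ⁻¹ᵁ V
  have : CompactSpace W.toScheme := isCompact_iff_compactSpace.mp (f.isCompact_preimage hV.isCompact)
  have : W.toScheme.IsSeparated := by
    haveI : IsAffine V.toScheme := hV
    constructor
    rw [Limits.terminal.hom_ext (Limits.terminal.from W.toScheme) (f ∣_ V ≫ Limits.terminal.from V.toScheme)]
    infer_instance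
  obtain ⟨V₀, hxV₀, e, e', he, he'⟩ := InvX.exists_frame₂ hL hL' x
  obtain ⟨m, hm, a, hxa, hle, -⟩ := AmpleX.exists_sections_of_isRelAmple h hV (x := x) hx hxV₀
  have hext : ∀ r : Fin m, ∃ k₀ : ℕ, ∀ k, k₀ ≤ k →
      ∃ σ : Γ(CohB1.tensorMod (CohB1.tensorPow L (r.1 + m * k)) L', f ⁻¹ᵁ V),
        AmpleX.locus a ≤ AmpleX.locus σ := fun r => by
    have hM : PicF.IsInvertible (CohB1.tensorMod (CohB1.tensorPow L r.1) L') :=
      InvX.isInvertible_tensorMod (InvX.isInvertible_tensorPow hL _) hL'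
    let t : Γ(CohB1.tensorMod (CohB1.tensorPow L r.1) L', AmpleX.locus a) :=
      InvX.tmul (AModX.res _ hle (AmpleX.powElt e r.1)) (AModX.res L' hle e')
    have ht : AmpleX.locus t = AmpleX.locus a := le_antisymm (AmpleX.locus_le t)
      (AmpleX.le_locus t le_rfl (by
        rw [AModX.res_self]
        exact InvX.isFrame_tmul ((AmpleX.isFrame_powElt he _).res hle) (he'.res hle)))
    obtain ⟨k₀, hk₀⟩ := AmpleX.exists_extend_open hM (InvX.isInvertible_tensorPow hL m) W a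
      (le_refl (AmpleX.locus a)) (AmpleX.locus_le a) t
    refine ⟨k₀, fun k hk => ?_⟩
    obtain ⟨T, hT⟩ := hk₀ k hk
    obtain ⟨σ, hσ⟩ := AmpleX.exists_locus_cl
      (N := CohB1.tensorMod (CohB1.tensorPow L (r.1 + m * k)) L')
      (show PicF.cl (CohB1.tensorMod (CohB1.tensorMod (CohB1.tensorPow L r.1) L')
          (CohB1.tensorPow (CohB1.tensorPow L m) k)) = _ by
        rw [cl_tensor, cl_tensor, cl_tensorPow, cl_tensorPow, cl_tensorPow, cl_tensor, cl_tensorPow,
          pow_add, pow_mul, mul_assoc, mul_comm (PicF.cl L'), ← mul_assoc]) T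
    rw [ht, inf_idem] at hT
    exact ⟨σ, hσ ▸ hT ▸ inf_le_left⟩
  choose k₀ hk₀ using hext
  refine ⟨AmpleX.locus a, m * (Finset.univ.sup k₀ + 1), hxa, fun n hn => ?_⟩
  have hk : Finset.univ.sup k₀ ≤ n / m := by
    refine (Nat.le_div_iff_mul_le hm).2 (le_trans ?_ hn)
    rw [mul_comm m]
    exact Nat.mul_le_mul_right m (Nat.le_succ _)
  obtain ⟨σ, hσ⟩ := hk₀ ⟨n % m, Nat.mod_lt _ hm⟩ (n / m) ((Finset.le_sup (Finset.mem_univ _)).trans hk)
  exact (Nat.mod_add_div n m) ▸ ⟨σ, hσ⟩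

/-- All large twists are generated by sections from the base. -/
theorem eventually_exists_locus [CompactSpace Y] (h : RelAmple.IsRelAmple f L) (hL' : PicF.IsInvertible L') :
    ∃ n₀ : ℕ, ∀ n, n₀ ≤ n → ∀ x : X, ∃ (U : Y.Opens) (_ : IsAffineOpen U)
      (σ : Γ(CohB1.tensorMod (CohB1.tensorPow L n) L', f ⁻¹ᵁ U)), f x ∈ U ∧ x ∈ AmpleX.locus σ := by
  have : CompactSpace X := QuasiCompact.compactSpace_of_compactSpace f
  have hx : ∀ x : X, ∃ V : Y.Opens, IsAffineOpen V ∧ f x ∈ V := fun x => by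
    obtain ⟨_, ⟨V, hV, rfl⟩, hxV, -⟩ := Y.isBasis_affineOpens.exists_subset_of_mem_open
      (Set.mem_univ (f x)) isOpen_univ
    exact ⟨V, hV, hxV⟩
  choose V hV hxV using hx
  choose B n₀ hxB hB using fun x => exists_nhd_locus h hL' (hV x) (hxV x)
  obtain ⟨s, hs⟩ := isCompact_univ.elim_finite_subcover (fun x => (B x : Set X)) (fun x => (B x).2)
    fun x _ => Set.mem_iUnion.mpr ⟨x, hxB x⟩
  refine ⟨s.sup n₀, fun n hn x => ?_⟩
  obtain ⟨y, hy, hxy⟩ := Set.mem_iUnion₂.mp (hs (Set.mem_univ x))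
  obtain ⟨σ, hσ⟩ := hB y n ((Finset.le_sup hy).trans hn)
  exact ⟨V y, hV y, σ, AmpleX.locus_le σ (hσ hxy), hσ hxy⟩

/-- Some positive power of a relatively ample module is very ample. -/
theorem exists_pos_isRelVeryAmple_tensorPow [CompactSpace Y] [LocallyOfFiniteType f]
    (h : RelAmple.IsRelAmple f L) : ∃ n : ℕ, 0 < n ∧ RelProj.IsRelVeryAmple f (CohB1.tensorPow L n) := by
  classical
  obtain ⟨n, K, hK, U, hU, σ, G, hn, hcov, hσ, hG, hτ⟩ := RelProj34.exists_sections_with_generators h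
  choose τ hτ using hτ
  have : IsSeparated f := AmpleX.isSeparated_of_ampleOn fun y => AmpleX.ampleOn_of_isRelAmple h (f y)
  have hN : PicF.IsInvertible (CohB1.tensorPow L n) :=
    InvX.isInvertible_tensorPow (AmpleX.isInvertible_of_isRelAmple h) n
  have hNq : Coh.IsQCoh (CohB1.tensorPow L n) := ProjUPX.isQCoh_of_isInvertible hN
  have hE := QCoh.isQCoh_pushforward f hNq
  obtain ⟨𝒯, jE, hjE⟩ := SymAlgX.exists_isGrSymAlg _ hE
  obtain ⟨𝒮N, jN, hjN⟩ := SymAlgX.exists_isGrSymAlg _ hNq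
  obtain ⟨PN, pN, chartN, hPN⟩ := Proj16.exists_isRelProj (𝒮 := 𝒮N)
  obtain ⟨P, p, chart, hP⟩ := Proj16.exists_isRelProj (𝒮 := 𝒯)
  obtain ⟨u, hu⟩ := exists_qLift_gen hE hjE 𝒮N ((Scheme.Modules.pushforward f).map jN) fun U hU x V hV hVU => by
    show rB 𝒮N.toQCAlg hVU (LineCone35.elt jN x) ∈ _
    rw [show rB 𝒮N.toQCAlg hVU (LineCone35.elt jN x) = _ from LineCone35.elt_res jN hVU x]
    exact LineCone35.elt_mem jN hjN hV
  obtain ⟨r, hr, -⟩ := ProjQMapX.existsUnique_isProjQMapOn u hP hPN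
  have := isIso_pL hNq hjN hPN hN
  choose σ' hσ' hσl using fun k => RelProj34.exists_section_elt hN hNq hjN (σ k)
  have hue : ∀ k, (u.app (U k)).hom ((jE.app (U k)) (σ k)) = LineCone35.elt jN (σ k) := fun k => hu (U k) (σ k)
  let c : K → Piece u pN chartN := fun k =>
    ⟨U k, hU k, 1, one_pos, (jE.app (U k)) (σ k), hjE.2 _ (hU k) (σ k), AmpleX.locus (σ k), hσ k,
      AmpleX.locus_le (σ k), fun z => by
        rw [← hσl k]
        exact hit_iff_locus hN hNq hjN hPN hP one_pos (hjE.2 _ (hU k) (σ k)) ((hσ' k).trans (hue k).symm) z⟩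
  obtain ⟨htop, himm⟩ := Piece.isImmersion_of_cover hP hPN hr c (fun z => hcov (pN z)) fun k =>
    Piece.cond_of_generators hP hPN (c k) (G k) (hG k) fun g hg => by
      refine ⟨1, (jE.app (U k)) (τ k g hg), hjE.2 _ (hU k) _, ?_⟩
      rw [pow_one]
      show _ * rB 𝒮N.toQCAlg (AmpleX.locus_le (σ k)) ((u.app (U k)).hom ((jE.app (U k)) (σ k))) =
        rB 𝒮N.toQCAlg (AmpleX.locus_le (σ k)) ((u.app (U k)).hom ((jE.app (U k)) (τ k g hg)))
      rw [hue k, hu (U k) (τ k g hg)]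
      show _ * rB 𝒮N.toQCAlg _ (LineCone35.elt jN (σ k)) = rB 𝒮N.toQCAlg _ (LineCone35.elt jN (τ k g hg))
      rw [show rB 𝒮N.toQCAlg (AmpleX.locus_le (σ k)) (LineCone35.elt jN (σ k)) = _ from LineCone35.elt_res jN _ _,
        show rB 𝒮N.toQCAlg (AmpleX.locus_le (σ k)) (LineCone35.elt jN (τ k g hg)) = _ from LineCone35.elt_res jN _ _,
        hτ k g hg, LineCone35.elt_smul]
  obtain ⟨O1, lam, i, hO1, hi, hip, hθ⟩ :=
    exists_immersion_of_isImmersion hN hNq hjN hPN hE hjE u hP hr htop himm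
  exact ⟨n, hn, _, hE, 𝒯, jE, hjE, P, p, chart, hP, O1, lam, hO1, i, hi, hip, hθ⟩

/-- All large powers of a relatively ample module, twisted by an invertible one, are very ample. -/
theorem eventually_isRelVeryAmple [CompactSpace Y] [LocallyOfFiniteType f] (h : RelAmple.IsRelAmple f L)
    (hL' : PicF.IsInvertible L') :
    ∃ n₀ : ℕ, ∀ n, n₀ ≤ n → RelProj.IsRelVeryAmple f (CohB1.tensorMod (CohB1.tensorPow L n) L') := by
  have : IsSeparated f := AmpleX.isSeparated_of_ampleOn fun y => AmpleX.ampleOn_of_isRelAmple h (f y)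
  have hL := AmpleX.isInvertible_of_isRelAmple h
  obtain ⟨n₁, -, hva⟩ := exists_pos_isRelVeryAmple_tensorPow h
  obtain ⟨n₂, hn₂⟩ := eventually_exists_locus h hL'
  refine ⟨n₁ + n₂, fun n hn => ?_⟩
  obtain ⟨k, rfl⟩ := Nat.exists_eq_add_of_le (show n₁ ≤ n by omega)
  have hM : PicF.IsInvertible (CohB1.tensorMod (CohB1.tensorPow L k) L') :=
    InvX.isInvertible_tensorMod (InvX.isInvertible_tensorPow hL k) hL'
  have h1 := isRelVeryAmple_tensor_of_locus (InvX.isInvertible_tensorPow hL n₁) hva hM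
    (QCoh.isQCoh_pushforward f (ProjUPX.isQCoh_of_isInvertible hM)) (𝟙 _)
    fun x => by
      obtain ⟨U, hU, σ, hxU, hσ⟩ := hn₂ k (by omega) x
      exact ⟨U, hU, σ, hxU, hσ⟩
  refine isRelVeryAmple_of_iso (cl_eq_iff.1 ?_).some h1
  rw [cl_tensor, cl_tensor, cl_tensor, cl_tensorPow, cl_tensorPow, cl_tensorPow, ← mul_assoc, pow_add]

end Groth.Agent.RLPsi35
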