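import Groth.Agent.RLPsi35.VATensor
import Groth.Agent.LimMor.VALocal

/-!
A very ample module has, near every point, sections giving an immersion over an affine open of the base.
-/

universe u

set_option backward.isDefEq.respectTransparency false
set_option backward.isDefEq.respectTransparency.types false

open CategoryTheory CategoryTheory.Limits AlgebraicGeometry TopologicalSpace Opposite
open Groth.Agent.QCoh (rB)

noncomputable section

namespace Groth.Agent.RLPsi35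

variable {X Y : Scheme.{u}} {q : X ⟶ Y} {L : X.Modules} (hL : PicF.IsInvertible L) (hLq : Coh.IsQCoh L)
  {𝒮L : RelProj.QCGrAlg X} {jL : L ⟶ 𝒮L.toModule} (hjL : RelProj.IsGrSymAlg L 𝒮L jL)
  {PL : Scheme.{u}} {pL : PL ⟶ X}
  {chartL : ∀ (U : X.Opens) (hU : IsAffineOpen U), (((pL ⁻¹ᵁ U : PL.Opens) : Scheme.{u}) ≅ Proj (𝒮L.deg U hU))}
  (hPL : RelProj.IsRelProj 𝒮L pL chartL)
  {E : Y.Modules} {𝒯 : RelProj.QCGrAlg Y} {jE : E ⟶ 𝒯.toModule}
  (hE : Coh.IsQCoh E) (hjE : RelProj.IsGrSymAlg E 𝒯 jE)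
  {ψ : E ⟶ (Scheme.Modules.pushforward q).obj L} {u : RelProj.QGrHom q 𝒯 𝒮L}
  (hu : ∀ (U : Y.Opens) (x : Γ(E, U)), (u.app U).hom ((jE.app U) x) = LineCone35.elt jL (ψ.app U x))
  {P : Scheme.{u}} {p : P ⟶ Y}
  {chart : ∀ (U : Y.Opens) (hU : IsAffineOpen U), (((p ⁻¹ᵁ U : P.Opens) : Scheme.{u}) ≅ Proj (𝒯.deg U hU))}
  (hP : RelProj.IsRelProj 𝒯 p chart)

include hu in
lemma appLE_deg_one {U : Y.Opens} (e : Γ(E, U)) {W : X.Opens} (h : W ≤ q ⁻¹ᵁ U) :
    (u.appLE U W h).hom ((jE.app U) e) =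
      LineCone35.elt jL (AModX.res L h (show Γ(L, q ⁻¹ᵁ U) from ψ.app U e)) := by
  rw [← rB_app, hu]
  exact LineCone35.elt_res jL h _

include hL hLq hjL hPL hjE hu hP in
/-- Where a degree one element is invertible the section is a frame. -/
lemma mem_locus_of_hit {U : Y.Opens} {hU : IsAffineOpen U} (e : Γ(E, U)) {z : PL}
    (he : Hit u pL chartL U hU ((jE.app U) e) z) :
    pL z ∈ AmpleX.locus (show Γ(L, q ⁻¹ᵁ U) from ψ.app U e) := by
  obtain ⟨U', hU', hle', w', hw', -⟩ := id he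
  have hzU : pL z ∈ q ⁻¹ᵁ U := hle' (hw' ▸ ProjQMapX.emb_mem U' hU' w')
  obtain ⟨W, hW, t, ht, hzW, h⟩ := exists_affine_frame hL hzU
  obtain ⟨β, hβ⟩ := ht.exists_coord le_rfl (AModX.res L h (show Γ(L, q ⁻¹ᵁ U) from ψ.app U e))
  rw [AModX.res_self] at hβ
  obtain ⟨w, rfl⟩ := ProjQMapX.exists_emb_eq (chart := chartL) W hW hzW
  rw [hit_emb_iff hP hPL one_pos (hjE.2 U hU e) W hW h w] at he
  rw [show u.gradedAt U hU W hW h ((jE.app U) e) = (𝒮L.str.app (op W)).hom β * LineCone35.elt jL t ^ 1 from by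
      show (u.appLE U W h).hom _ = _
      rw [appLE_deg_one hu e h, hβ, LineCone35.elt_smul, pow_one],
    mem_basicOpen_iff hLq hjL hW ht hPL one_pos, ← AmpleX.locus_inf _ h ht hβ] at he
  exact he.1

include hu hE hjE in
/-- Homogeneous elements give elements of the ring of ratios. -/
lemma exists_mem_ratRing {U : Y.Opens} (hU : IsAffineOpen U) (s : Γ(L, q ⁻¹ᵁ U)) {O : X.Opens}
    (hle : O ≤ q ⁻¹ᵁ U) (hs : InvX.IsFrame (AModX.res L hle s)) {k : ℕ} {g : 𝒯.presheaf.obj (op U)}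
    (hg : g ∈ 𝒯.deg U hU k) :
    ∃ a ∈ LimMor.VALocal.ratRing q L U s hle hle,
      (u.appLE U O hle).hom g = (𝒮L.str.app (op O)).hom a * LineCone35.elt jL (AModX.res L hle s) ^ k := by
  obtain ⟨b, rfl⟩ := (SymAlgX.secMap_bijective hE hjE U hU).2 g
  rw [SymAlgX.secMap_mem_iff hE hjE U hU] at hg
  let K := LimMor.VALocal.ratRing q L U s hle hle
  let T := LineCone35.elt jL (AModX.res L hle s)
  let M : ℕ → AddSubgroup (𝒮L.presheaf.obj (op O)) := fun k =>
    { carrier := {y | ∃ a ∈ K, y = (𝒮L.str.app (op O)).hom a * T ^ k}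
      zero_mem' := ⟨0, zero_mem _, by rw [map_zero, zero_mul]⟩
      add_mem' := by
        rintro y y' ⟨a, ha, rfl⟩ ⟨a', ha', rfl⟩
        exact ⟨a + a', add_mem ha ha', by rw [map_add, add_mul]⟩
      neg_mem' := by
        rintro y ⟨a, ha, rfl⟩
        exact ⟨-a, neg_mem ha, by rw [map_neg, neg_mul]⟩ }
  haveI : SetLike.GradedMonoid M :=
    { one_mem := ⟨1, one_mem _, by rw [map_one, pow_zero, one_mul]⟩
      mul_mem := by
        rintro i j y y' ⟨a, ha, rfl⟩ ⟨a', ha', rfl⟩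
        exact ⟨a * a', mul_mem ha ha', by rw [map_mul, pow_add]; ring⟩ }
  refine SymAlgX.mem_of_mem_symDeg M ((u.appLE U O hle).hom.comp (SymAlgX.secMap jE U)) (fun r => ?_)
    (fun x => ?_) hg
  · refine ⟨(q.appLE U O hle).hom r, Subring.subset_closure (Or.inl ⟨r, rfl⟩), ?_⟩
    rw [RingHom.comp_apply, SymAlgX.secMap_algebraMap, pow_zero, mul_one]
    exact ConcreteCategory.congr_hom (u.str_appLE U O hle) r
  · obtain ⟨c, hc⟩ := hs.exists_coord le_rfl (AModX.res L hle (show Γ(L, q ⁻¹ᵁ U) from ψ.app U x))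
    rw [AModX.res_self] at hc
    refine ⟨c, Subring.subset_closure (Or.inr ⟨_, hc⟩), ?_⟩
    rw [RingHom.comp_apply, SymAlgX.secMap_ι, appLE_deg_one hu x hle, hc, LineCone35.elt_smul, pow_one]

omit hL hLq hjL in
lemma res_val {U : Y.Opens} {O W : X.Opens} (hle : O ≤ q ⁻¹ᵁ U) (h : W ≤ O) {k : ℕ}
    {g : 𝒯.presheaf.obj (op U)} {a : Γ(X, O)} {t : Γ(L, O)}
    (hg : (u.appLE U O hle).hom g = (𝒮L.str.app (op O)).hom a * LineCone35.elt jL t ^ k) :
    (u.appLE U W (h.trans hle)).hom g =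
      (𝒮L.str.app (op W)).hom (AModX.resR h a) * LineCone35.elt jL (AModX.res L h t) ^ k := by
  rw [← u.toQHom.appLE_map hle h, CommRingCat.comp_apply, hg, map_mul, map_pow, LineCone35.str_res,
    LineCone35.elt_res]

/-- A very ample module satisfies the local criterion at every point. -/
theorem good_of_isRelVeryAmple (hL : PicF.IsInvertible L) (hva : RelProj.IsRelVeryAmple q L) (x : X) :
    LimMor.VALocal.Good q L x := by
  have hLq := ProjUPX.isQCoh_of_isInvertible hL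
  obtain ⟨𝒮L, jL, hjL⟩ := SymAlgX.exists_isGrSymAlg L hLq
  obtain ⟨PL, pL, chartL, hPL⟩ := Proj16.exists_isRelProj (𝒮 := 𝒮L)
  obtain ⟨E, hE, 𝒯, jE, hjE, P, p, chart, hP, ψ, u, r, hr, hu, htop, himm⟩ := exists_qdata hL hLq hjL hPL hva
  have := isIso_pL hLq hjL hPL hL
  have := ProjQMapX.isIso_ι_of_eq_top htop
  obtain ⟨z, hz⟩ := ((RelProj.domQ u pL chartL).ι ≫ pL).surjective x
  obtain ⟨U, hU, e, he⟩ := exists_hit_deg_one hE hjE u (z := (RelProj.domQ u pL chartL).ι z) z.2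
  have hzO := (hit_iff_apply_mem hP hPL hr hU one_pos (hjE.2 U hU e) z).mp he
  obtain ⟨d, f, hd, hf, hfz, hfle⟩ := exists_open_le (p := p) (chart := chart) hU (y := r z)
    (O := (RelProj.emb p chart U hU ''ᵁ Proj.basicOpen (𝒯.deg U hU) ((jE.app U) e)) ⊓ r.coborderRange)
    (preimage_le_of_emb U hU _ hzO) ⟨hzO, subset_coborder ⟨z, rfl⟩⟩
  obtain ⟨c, hcU, -, hco, hc⟩ := exists_piece hP hPL hr hU hd hf
    (isClosedImmersion_morphismRestrict r (hfle.trans inf_le_right))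
  subst hcU
  set s : Γ(L, q ⁻¹ᵁ c.U) := ψ.app c.U e
  set O := AmpleX.locus s
  have hle : O ≤ q ⁻¹ᵁ c.U := AmpleX.locus_le _
  have hxc : x ∈ c.V := by
    rw [← hz]
    exact (c.mem_iff _).mp ((hit_iff_apply_mem hP hPL hr c.hU c.hd c.hf z).mpr (hco.ge hfz))
  have hcO : c.V ≤ O := fun y hy => by
    obtain ⟨w, rfl⟩ := ((RelProj.domQ u pL chartL).ι ≫ pL).surjective y
    exact mem_locus_of_hit hL hLq hjL hPL hjE hu hP e
      ((hit_iff_apply_mem hP hPL hr c.hU one_pos (hjE.2 c.U c.hU e) w).mpr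
        ((hco.le.trans hfle) ((hit_iff_apply_mem hP hPL hr c.hU c.hd c.hf w).mp ((c.mem_iff _).mpr hy))).1)
  have hfr : InvX.IsFrame (AModX.res L hle s) := AmpleX.isFrame_res_locus s
  obtain ⟨a, ha, hfa⟩ := exists_mem_ratRing hE hjE hu c.hU s hle hfr c.hf
  have hV : X.basicOpen a = c.V := by
    have key : ∀ y, y ∈ O → (y ∈ X.basicOpen a ↔ y ∈ c.V) := fun y hy => by
      obtain ⟨_, ⟨W, hW, rfl⟩, hyW, hWO⟩ := X.isBasis_affineOpens.exists_subset_of_mem_open hy O.2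
      obtain ⟨z₁, rfl⟩ := pL.surjective y
      obtain ⟨w₁, rfl⟩ := ProjQMapX.exists_emb_eq (chart := chartL) W hW hyW
      rw [← c.mem_iff, hit_emb_iff hP hPL c.hd c.hf W hW (le_trans hWO hle) w₁,
        show u.gradedAt c.U c.hU W hW (le_trans hWO hle) c.f = _ from res_val hle hWO hfa,
        mem_basicOpen_iff hLq hjL hW (hfr.res hWO) hPL c.hd,
        show AModX.resR hWO a = X.presheaf.map (homOfLE hWO).op a from rfl, Scheme.basicOpen_res]
      exact ⟨fun h => ⟨hyW, h⟩, fun h => h.2⟩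
    exact le_antisymm (fun y hy => (key y (X.basicOpen_le a hy)).mp hy) fun y hy => (key y (hcO hy)).mpr hy
  refine ⟨c.U, c.hU, q ⁻¹ᵁ c.U, rfl, s, O, rfl, hle, a, hV.ge hxc, hV ▸ c.hV, ha, fun t => ?_⟩
  obtain ⟨m, -, s', hs', hts⟩ := hc (AModX.resR hV.ge t)
  obtain ⟨b, hb, hsb⟩ := exists_mem_ratRing hE hjE hu c.hU s hle hfr hs'
  refine ⟨b, hb, m, ?_⟩
  have h0 : AModX.resR hV.ge t * AModX.resR hcO a ^ m = AModX.resR hcO b := by
    refine sub_eq_zero.mp (LineCone35.eq_zero_of_mul_pow jL hLq hjL c.hV (hfr.res hcO) _ (m * c.d) ?_)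
    rw [res_val hle hcO hfa, res_val hle hcO hsb] at hts
    rw [map_sub, sub_mul, ← hts, map_mul, map_pow, mul_pow, ← pow_mul, mul_comm c.d m]
    ring
  have h1 := congrArg (AModX.resR hV.le) h0
  simp only [map_mul, map_pow, AModX.resR_resR, AModX.resR_self] at h1
  exact h1

end Groth.Agent.RLPsi35
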