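import Groth.Agent.RLPsi35.VeryAmple
import Groth.Agent.RLPsi35.SymLift
import Groth.Agent.RLPsi35.Comp

/-!
For a very ample module the morphism `r_{L,σ}` into `P(q_* L)` is an immersion.
-/

universe u

set_option backward.isDefEq.respectTransparency false
set_option backward.isDefEq.respectTransparency.types false

open CategoryTheory CategoryTheory.Limits AlgebraicGeometry TopologicalSpace Opposite

noncomputable section

namespace Groth.Agent.RLPsi35

variable {X Y : Scheme.{u}} {L : X.Modules} (hLq : Coh.IsQCoh L)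
  {𝒮L : RelProj.QCGrAlg X} {jL : L ⟶ 𝒮L.toModule} (hjL : RelProj.IsGrSymAlg L 𝒮L jL)
  {PL : Scheme.{u}} {pL : PL ⟶ X}
  {chartL : ∀ (U : X.Opens) (hU : IsAffineOpen U), (((pL ⁻¹ᵁ U : PL.Opens) : Scheme.{u}) ≅ Proj (𝒮L.deg U hU))}
  (hPL : RelProj.IsRelProj 𝒮L pL chartL)

include hLq hjL hPL in
theorem isImmersion_of_isRelVeryAmple {q : X ⟶ Y} (hL : PicF.IsInvertible L)
    (hEq : Coh.IsQCoh ((Scheme.Modules.pushforward q).obj L))
    {𝒜 : RelProj.QCGrAlg Y} {jE : (Scheme.Modules.pushforward q).obj L ⟶ 𝒜.toModule}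
    (h𝒜 : RelProj.IsGrSymAlg ((Scheme.Modules.pushforward q).obj L) 𝒜 jE)
    {u : RelProj.QGrHom q 𝒜 𝒮L}
    (hu : ∀ (U : Y.Opens) (x : Γ((Scheme.Modules.pushforward q).obj L, U)),
      (u.app U).hom ((jE.app U) x) = (jL.app (q ⁻¹ᵁ U)) x)
    {P : Scheme.{u}} {p : P ⟶ Y}
    {chart : ∀ (U : Y.Opens) (hU : IsAffineOpen U), (((p ⁻¹ᵁ U : P.Opens) : Scheme.{u}) ≅ Proj (𝒜.deg U hU))}
    (hP : RelProj.IsRelProj 𝒜 p chart)
    {r : ((RelProj.domQ u pL chartL : PL.Opens) : Scheme.{u}) ⟶ P}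
    (hr : RelProj.IsProjQMapOn u p chart pL chartL (RelProj.domQ u pL chartL) r)
    (h : RelProj.IsRelVeryAmple q L) :
    RelProj.domQ u pL chartL = ⊤ ∧ IsImmersion r := by
  obtain ⟨E, hE, 𝒮, j, hj, P', p', chart', hP', O1, lam, hO1, i, himm, hi, ⟨θ⟩⟩ := h
  subst hi
  have := isIso_pL hLq hjL hPL hL
  let ψ : E ⟶ (Scheme.Modules.pushforward (i ≫ p')).obj L :=
    tautMap hO1 hj.2 hP' ≫ (Scheme.Modules.pushforward p').map
      ((Scheme.Modules.pullbackPushforwardAdjunction i).unit.app O1 ≫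
        (Scheme.Modules.pushforward i).map θ.inv) ≫ (Scheme.Modules.pushforwardComp i p').hom.app L
  obtain ⟨v, hv, hvj⟩ := exists_symLift hE hj (ψ ≫ jE) fun U hU x => h𝒜.2 U hU _
  let u' := compHom u v hv
  have hu' : ∀ (U : Y.Opens) (hU : IsAffineOpen U) (e : 𝒮.presheaf.obj (op U)) (he : e ∈ 𝒮.deg U hU 1),
      (u'.app U).hom e = LineCone35.elt jL (pullSec hO1 i θ hU he) := by
    intro U hU e he
    obtain ⟨x, rfl⟩ := SymAlgX.exists_of_mem_deg_one hE hj U hU he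
    show (u.app U).hom ((v.hom.app (op U)).hom ((j.app U) x)) = _
    rw [hvj U x]
    refine (hu U (ψ.app U x)).trans ?_
    show (jL.app _) (θ.inv.app _ (InvX.pullElt i ((tautMap hO1 hj.2 hP').app U x))) = _
    rw [tautMap_app hO1 hj.2 hP' hU]
    rfl
  obtain ⟨r', hr', -⟩ := ProjQMapX.existsUnique_isProjQMapOn u' hP' hPL
  obtain ⟨htop, he⟩ := eq_comp_of_pullback hP' hO1 hLq hjL hPL i θ (SymAlgX.isGenDegOne hE hj) hu' hr'
  have : IsImmersion r' := by rw [he]; infer_instance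
  exact isImmersion_of_comp hv (fun U => rfl) hPL hP hr hP' hr' htop this

end Groth.Agent.RLPsi35
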