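import Groth.Agent.RLPsi35.VAProj
import Groth.Agent.RLPsi35.VeryAmple
import Groth.Agent.RLPsi35.QLiftGen
import Groth.Agent.RLPsi35.Crit
import Groth.Agent.H23.TensorDesc
import Groth.Agent.InvX.Tensor
import Groth.Agent.KFlatLib.Scheme.QCohTensor
import Groth.Agent.QCoh.PullbackBC
import Groth.Agent.QCoh.Support
import Groth.Agent.AmpleX.Rel
import Groth.Agent.RLPsi35.Ample

/-!
The tensor product of a very ample module and a module generated by sections coming from the base is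
very ample.
-/

universe u

set_option backward.isDefEq.respectTransparency false
set_option backward.isDefEq.respectTransparency.types false

open CategoryTheory CategoryTheory.Limits AlgebraicGeometry TopologicalSpace Opposite

noncomputable section

namespace Groth.Agent.RLPsi35

open Groth.Agent.QCoh (rB)

lemma tmul_add_left {Z : Scheme.{u}} {A B : Z.Modules} {U : Z.Opens} (a a' : Γ(A, U)) (b : Γ(B, U)) :
    InvX.tmul (a + a') b = InvX.tmul a b + InvX.tmul a' b :=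
  (congrArg _ (KFlatLib.tm_add_left a a' b)).trans (map_add _ _ _)

lemma tmul_add_right {Z : Scheme.{u}} {A B : Z.Modules} {U : Z.Opens} (a : Γ(A, U)) (b b' : Γ(B, U)) :
    InvX.tmul a (b + b') = InvX.tmul a b + InvX.tmul a b' :=
  (congrArg _ (KFlatLib.tm_add_right a b b')).trans (map_add _ _ _)

variable {X Y : Scheme.{u}} {q : X ⟶ Y}

/-- The data of a very ample module: a morphism `r` into a projective bundle which is an immersion. -/
theorem exists_qdata {L : X.Modules} (hL : PicF.IsInvertible L) (hLq : Coh.IsQCoh L)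
    {𝒮L : RelProj.QCGrAlg X} {jL : L ⟶ 𝒮L.toModule} (hjL : RelProj.IsGrSymAlg L 𝒮L jL)
    {PL : Scheme.{u}} {pL : PL ⟶ X}
    {chartL : ∀ (U : X.Opens) (hU : IsAffineOpen U), (((pL ⁻¹ᵁ U : PL.Opens) : Scheme.{u}) ≅ Proj (𝒮L.deg U hU))}
    (hPL : RelProj.IsRelProj 𝒮L pL chartL) (h : RelProj.IsRelVeryAmple q L) :
    ∃ (E : Y.Modules) (_ : Coh.IsQCoh E) (𝒯 : RelProj.QCGrAlg Y) (jE : E ⟶ 𝒯.toModule)
      (_ : RelProj.IsGrSymAlg E 𝒯 jE) (P : Scheme.{u}) (p : P ⟶ Y)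
      (chart : ∀ (U : Y.Opens) (hU : IsAffineOpen U), (((p ⁻¹ᵁ U : P.Opens) : Scheme.{u}) ≅ Proj (𝒯.deg U hU)))
      (_ : RelProj.IsRelProj 𝒯 p chart)
      (ψ : E ⟶ (Scheme.Modules.pushforward q).obj L) (u : RelProj.QGrHom q 𝒯 𝒮L)
      (r : ((RelProj.domQ u pL chartL : PL.Opens) : Scheme.{u}) ⟶ P),
      RelProj.IsProjQMapOn u p chart pL chartL (RelProj.domQ u pL chartL) r ∧
      (∀ (U : Y.Opens) (x : Γ(E, U)), (u.app U).hom ((jE.app U) x) = LineCone35.elt jL (ψ.app U x)) ∧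
      RelProj.domQ u pL chartL = ⊤ ∧ IsImmersion r := by
  obtain ⟨E, hE, 𝒯, j, hj, P, p, chart, hP, O1, lam, hO1, i, himm, hi, ⟨θ⟩⟩ := h
  subst hi
  have := isIso_pL hLq hjL hPL hL
  let ψ : E ⟶ (Scheme.Modules.pushforward (i ≫ p)).obj L :=
    tautMap hO1 hj.2 hP ≫ (Scheme.Modules.pushforward p).map
      ((Scheme.Modules.pullbackPushforwardAdjunction i).unit.app O1 ≫
        (Scheme.Modules.pushforward i).map θ.inv) ≫ (Scheme.Modules.pushforwardComp i p).hom.app L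
  obtain ⟨u, hu⟩ := exists_qLift_gen hE hj 𝒮L (ψ ≫ (Scheme.Modules.pushforward (i ≫ p)).map jL)
    fun U hU x V hV hVU => by
      show rB 𝒮L.toQCAlg hVU (LineCone35.elt jL (ψ.app U x)) ∈ _
      rw [show rB 𝒮L.toQCAlg hVU (LineCone35.elt jL (ψ.app U x)) = _ from LineCone35.elt_res jL hVU _]
      exact LineCone35.elt_mem jL hjL hV
  have hu' : ∀ (U : Y.Opens) (hU : IsAffineOpen U) (e : 𝒯.presheaf.obj (op U)) (he : e ∈ 𝒯.deg U hU 1),
      (u.app U).hom e = LineCone35.elt jL (pullSec hO1 i θ hU he) := by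
    intro U hU e he
    obtain ⟨x, rfl⟩ := SymAlgX.exists_of_mem_deg_one hE hj U hU he
    refine (hu U x).trans ?_
    show (jL.app _) (θ.inv.app _ (InvX.pullElt i ((tautMap hO1 hj.2 hP).app U x))) = _
    rw [tautMap_app hO1 hj.2 hP hU]
    rfl
  obtain ⟨r, hr, -⟩ := ProjQMapX.existsUnique_isProjQMapOn u hP hPL
  obtain ⟨htop, he⟩ := eq_comp_of_pullback hP hO1 hLq hjL hPL i θ (SymAlgX.isGenDegOne hE hj) hu' hr
  have := ProjQMapX.isIso_ι_of_eq_top htop
  exact ⟨E, hE, 𝒯, j, hj, P, p, chart, hP, ψ, u, r, hr, hu, htop, by rw [he]; infer_instance⟩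

/-- A module generated by sections from the base has, near every point, such a section which is a frame. -/
theorem exists_mem_locus_of_epi {L' : X.Modules} (hL' : PicF.IsInvertible L') {E' : Y.Modules}
    (hE' : Coh.IsQCoh E') (φ : (Scheme.Modules.pullback q).obj E' ⟶ L') [Epi φ] {U : Y.Opens}
    (hU : IsAffineOpen U) {x : X} (hx : q x ∈ U) :
    ∃ e : Γ(E', U), x ∈ AmpleX.locus
      (show Γ(L', q ⁻¹ᵁ U) from (((Scheme.Modules.pullbackPushforwardAdjunction q).unit.app E') ≫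
        (Scheme.Modules.pushforward q).map φ).app U e) := by
  obtain ⟨V, hV, t, ht, hxV, hle⟩ := exists_affine_frame hL' (show x ∈ q ⁻¹ᵁ U from hx)
  obtain ⟨m, hm⟩ := QCoh.app_surjective_of_epi (QCoh.isQCoh_pullback q hE')
    (ProjUPX.isQCoh_of_isInvertible hL') φ hV t
  letI := (q.appLE U V hle).hom.toAlgebra
  let M := Γ((Scheme.Modules.pullback q).obj E', V)
  letI : Module Γ(Y, U) M := Module.compHom M (algebraMap Γ(Y, U) Γ(X, V))
  haveI : IsScalarTower Γ(Y, U) Γ(X, V) M := IsScalarTower.of_algebraMap_smul fun _ _ => rfl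
  let l : Γ(E', U) →ₗ[Γ(Y, U)] M :=
    { toFun := QCoh.pullSec q E' hle
      map_add' := QCoh.pullSec_add q E' hle
      map_smul' := QCoh.pullSec_smul q E' hle }
  have hbc := QCoh.isBaseChange_pullback hU q hV hE' hle (fun _ => rfl) l fun _ => rfl
  by_contra! hno
  let J : Ideal Γ(X, V) := (IsLocalRing.maximalIdeal (X.presheaf.stalk x)).comap (X.presheaf.germ V x hxV).hom
  have key : ∀ n : M, ∃ c ∈ J, φ.app V n = c • t := fun n => by
    induction n using hbc.inductionOn with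
    | zero => exact ⟨0, zero_mem _, by rw [map_zero, zero_smul]⟩
    | tmul e =>
      obtain ⟨c, hc⟩ := ht.exists_coord le_rfl (φ.app V (l e))
      rw [AModX.res_self] at hc
      refine ⟨c, ?_, hc⟩
      rw [Ideal.mem_comap, IsLocalRing.mem_maximalIdeal, mem_nonunits_iff]
      intro hunit
      refine hno e ?_
      have h1 : AModX.res L' hle ((((Scheme.Modules.pullbackPushforwardAdjunction q).unit.app E') ≫
          (Scheme.Modules.pushforward q).map φ).app U e) = c • t := by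
        rw [← hc]
        exact (AModX.app_res φ hle _).symm
      have h2 := (AmpleX.locus_inf _ hle ht h1).ge ((X.mem_basicOpen c x hxV).mpr hunit)
      exact h2.1
    | smul r n ih =>
      obtain ⟨c, hc, hc'⟩ := ih
      exact ⟨r * c, J.mul_mem_left r hc, by rw [Scheme.Modules.Hom.app_smul, hc', smul_smul]⟩
    | add n n' ih ih' =>
      obtain ⟨c, hc, hc'⟩ := ih
      obtain ⟨d, hd, hd'⟩ := ih'
      exact ⟨c + d, add_mem hc hd, by rw [map_add, hc', hd', add_smul]⟩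
  obtain ⟨c, hc, hc'⟩ := key m
  obtain rfl : c = 1 := (ht V le_rfl).1 (by
    show c • AModX.res L' le_rfl t = (1 : Γ(X, V)) • AModX.res L' le_rfl t
    rw [AModX.res_self, ← hc', one_smul, hm])
  rw [Ideal.mem_comap, map_one, IsLocalRing.mem_maximalIdeal, mem_nonunits_iff] at hc
  exact hc isUnit_one

section tensor

variable {L L' : X.Modules} {E E' : Y.Modules}
  (ψ : E ⟶ (Scheme.Modules.pushforward q).obj L) (ψ' : E' ⟶ (Scheme.Modules.pushforward q).obj L')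

/-- The product of two maps into direct images. -/
def tensorPush : CohB1.tensorMod E E' ⟶ (Scheme.Modules.pushforward q).obj (CohB1.tensorMod L L') :=
  H23.TensorDesc.desc
    { b := fun U a b => InvX.tmul (show Γ(L, q ⁻¹ᵁ U) from ψ.app U a) (show Γ(L', q ⁻¹ᵁ U) from ψ'.app U b)
      add_left := fun U a a' b => by
        rw [map_add]
        exact tmul_add_left _ _ _
      smul_left := fun U r a b => by
        rw [Scheme.Modules.Hom.app_smul]
        exact InvX.tmul_smul_left (q.app U r) _ _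
      add_right := fun U a b b' => by
        rw [map_add]
        exact tmul_add_right _ _ _
      smul_right := fun U r a b => by
        rw [Scheme.Modules.Hom.app_smul]
        exact InvX.tmul_smul_right (q.app U r) _ _
      res := fun {U V} h a b => by
        refine (InvX.res_tmul (q.preimage_mono h) _ _).trans ?_
        exact congrArg₂ InvX.tmul (AModX.app_res ψ h a).symm (AModX.app_res ψ' h b).symm }

lemma tensorPush_tmul (U : Y.Opens) (a : Γ(E, U)) (b : Γ(E', U)) :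
    (tensorPush ψ ψ').app U (InvX.tmul a b) =
      InvX.tmul (show Γ(L, q ⁻¹ᵁ U) from ψ.app U a) (show Γ(L', q ⁻¹ᵁ U) from ψ'.app U b) :=
  H23.TensorDesc.desc_tmul _ U a b

end tensor

section twist

variable {L L' : X.Modules} (hLq : Coh.IsQCoh L)
  {𝒮L : RelProj.QCGrAlg X} {jL : L ⟶ 𝒮L.toModule} (hjL : RelProj.IsGrSymAlg L 𝒮L jL)
  {𝒮M : RelProj.QCGrAlg X} (jM : CohB1.tensorMod L L' ⟶ 𝒮M.toModule)
  {W : X.Opens} (hW : IsAffineOpen W) (s : Γ(L', W))

/-- Multiplication by a section, on degree one elements. -/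
def twistOne : Γ(L, W) →+ 𝒮M.presheaf.obj (op W) :=
  AddMonoidHom.mk' (fun x => LineCone35.elt jM (InvX.tmul x s)) fun x y => by
    show LineCone35.elt jM _ = _
    rw [tmul_add_left]
    exact map_add (jM.app W).hom _ _

/-- The ring map `Sym L → Sym (L ⊗ L')` given by a section of `L'`. -/
def twistMap : 𝒮L.presheaf.obj (op W) →+* 𝒮M.presheaf.obj (op W) :=
  (SymAlgX.symLift (A := 𝒮M.presheaf.obj (op W)) (𝒮M.str.app (op W)).hom (twistOne jM s) fun r x => by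
    show LineCone35.elt jM (InvX.tmul (r • x) s) = _ * LineCone35.elt jM (InvX.tmul x s)
    rw [InvX.tmul_smul_left, LineCone35.elt_smul]).comp
      (RingEquiv.ofBijective _ (SymAlgX.secMap_bijective hLq hjL W hW)).symm.toRingHom

lemma twistMap_secMap_algebraMap (r : Γ(X, W)) :
    twistMap hLq hjL jM hW s ((𝒮L.str.app (op W)).hom r) = (𝒮M.str.app (op W)).hom r := by
  have h : (RingEquiv.ofBijective _ (SymAlgX.secMap_bijective hLq hjL W hW)).symm
      ((𝒮L.str.app (op W)).hom r) = algebraMap _ _ r :=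
    RingEquiv.symm_apply_eq _ |>.mpr (SymAlgX.secMap_algebraMap (j := jL) W r).symm
  rw [twistMap, RingHom.comp_apply]
  exact (congrArg _ h).trans (SymAlgX.symLift_algebraMap _ _ _ r)

lemma twistMap_elt (x : Γ(L, W)) :
    twistMap hLq hjL jM hW s (LineCone35.elt jL x) = LineCone35.elt jM (InvX.tmul x s) := by
  have h : (RingEquiv.ofBijective _ (SymAlgX.secMap_bijective hLq hjL W hW)).symm
      (LineCone35.elt jL x) = SymmetricAlgebra.ι _ _ x :=
    RingEquiv.symm_apply_eq _ |>.mpr (SymAlgX.secMap_ι (j := jL) W x).symm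
  rw [twistMap, RingHom.comp_apply]
  exact (congrArg _ h).trans (SymAlgX.symLift_ι (A := 𝒮M.presheaf.obj (op W)) _ _ _ x)

end twist

section piece

variable {L L' : X.Modules} (hLq : Coh.IsQCoh L) {𝒮L : RelProj.QCGrAlg X} {jL : L ⟶ 𝒮L.toModule}
  (hjL : RelProj.IsGrSymAlg L 𝒮L jL) {𝒮M : RelProj.QCGrAlg X} {jM : CohB1.tensorMod L L' ⟶ 𝒮M.toModule}
  {E E' : Y.Modules} {𝒯 : RelProj.QCGrAlg Y} {jE : E ⟶ 𝒯.toModule}
  {𝒯M : RelProj.QCGrAlg Y} {jF : CohB1.tensorMod E E' ⟶ 𝒯M.toModule}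
  {ψ : E ⟶ (Scheme.Modules.pushforward q).obj L} {ψ' : E' ⟶ (Scheme.Modules.pushforward q).obj L'}
  {u : RelProj.QGrHom q 𝒯 𝒮L} {u' : RelProj.QGrHom q 𝒯M 𝒮M}
  (hu : ∀ (U : Y.Opens) (x : Γ(E, U)), (u.app U).hom ((jE.app U) x) = LineCone35.elt jL (ψ.app U x))
  (hu' : ∀ (U : Y.Opens) (x : Γ(CohB1.tensorMod E E', U)),
    (u'.app U).hom ((jF.app U) x) = LineCone35.elt jM ((tensorPush ψ ψ').app U x))

/-- Multiplication by a section from the base, on `Sym`. -/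
def baseTwist (jF : CohB1.tensorMod E E' ⟶ 𝒯M.toModule) (U : Y.Opens) (e : Γ(E', U)) :
    SymmetricAlgebra Γ(Y, U) Γ(E, U) →+* 𝒯M.presheaf.obj (op U) :=
  SymAlgX.symLift (A := 𝒯M.presheaf.obj (op U)) (𝒯M.str.app (op U)).hom (twistOne (L := E) jF e) fun r a => by
    show LineCone35.elt jF (InvX.tmul (r • a) e) = _ * LineCone35.elt jF (InvX.tmul a e)
    rw [InvX.tmul_smul_left, LineCone35.elt_smul]

lemma baseTwist_algebraMap (U : Y.Opens) (e : Γ(E', U)) (r : Γ(Y, U)) :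
    baseTwist (E := E) jF U e (algebraMap _ _ r) = (𝒯M.str.app (op U)).hom r :=
  SymAlgX.symLift_algebraMap _ _ _ r

lemma baseTwist_ι (U : Y.Opens) (e : Γ(E', U)) (a : Γ(E, U)) :
    baseTwist jF U e (SymmetricAlgebra.ι _ _ a) = LineCone35.elt jF (InvX.tmul a e) :=
  SymAlgX.symLift_ι (A := 𝒯M.presheaf.obj (op U)) _ _ _ a

lemma baseTwist_mem (hjF : RelProj.IsGrSymAlg (CohB1.tensorMod E E') 𝒯M jF) {U : Y.Opens}
    (hU : IsAffineOpen U) (e : Γ(E', U)) {k : ℕ} {b : SymmetricAlgebra Γ(Y, U) Γ(E, U)}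
    (hb : b ∈ SymAlgX.symDeg Γ(Y, U) Γ(E, U) k) : baseTwist jF U e b ∈ 𝒯M.deg U hU k :=
  SymAlgX.mem_of_mem_symDeg (𝒯M.deg U hU) _
    (fun r => by rw [baseTwist_algebraMap]; exact 𝒯M.str_mem U hU r)
    (fun a => by rw [baseTwist_ι]; exact LineCone35.elt_mem jF hjF hU) hb

include hu hu' in
lemma appLE_baseTwist {U : Y.Opens} (e : Γ(E', U)) {W : X.Opens} (hW : IsAffineOpen W) (h : W ≤ q ⁻¹ᵁ U)
    (b : SymmetricAlgebra Γ(Y, U) Γ(E, U)) :
    (u'.appLE U W h).hom (baseTwist jF U e b) =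
      twistMap hLq hjL jM hW (AModX.res L' h (show Γ(L', q ⁻¹ᵁ U) from ψ'.app U e))
        ((u.appLE U W h).hom (SymAlgX.secMap jE U b)) := by
  refine RingHom.congr_fun (f := (u'.appLE U W h).hom.comp (baseTwist jF U e))
    (g := (twistMap hLq hjL jM hW (AModX.res L' h (show Γ(L', q ⁻¹ᵁ U) from ψ'.app U e))).comp
      ((u.appLE U W h).hom.comp (SymAlgX.secMap jE U)))
    (SymAlgX.sym_ringHom_ext (fun r => ?_) fun a => ?_) b
  · simp only [RingHom.comp_apply]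
    rw [baseTwist_algebraMap, SymAlgX.secMap_algebraMap,
      show (u'.appLE U W h).hom ((𝒯M.str.app (op U)).hom r) = _ from
        ConcreteCategory.congr_hom (u'.str_appLE U W h) r,
      show (u.appLE U W h).hom ((𝒯.str.app (op U)).hom r) = _ from
        ConcreteCategory.congr_hom (u.str_appLE U W h) r]
    exact (twistMap_secMap_algebraMap hLq hjL jM hW _ _).symm
  · simp only [RingHom.comp_apply]
    rw [baseTwist_ι, SymAlgX.secMap_ι, ← rB_app, ← rB_app, hu]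
    show rB 𝒮M.toQCAlg h ((u'.app U).hom ((jF.app U) (InvX.tmul a e))) = _
    rw [hu', tensorPush_tmul, show rB 𝒮M.toQCAlg h (LineCone35.elt jM _) = _ from LineCone35.elt_res jM h _,
      show rB 𝒮L.toQCAlg h (LineCone35.elt jL (ψ.app U a)) = _ from LineCone35.elt_res jL h _, InvX.res_tmul]
    exact (twistMap_elt hLq hjL jM hW _ _).symm

variable (hL : PicF.IsInvertible L) (hL' : PicF.IsInvertible L') (hMq : Coh.IsQCoh (CohB1.tensorMod L L'))
  (hjM : RelProj.IsGrSymAlg (CohB1.tensorMod L L') 𝒮M jM) (hE : Coh.IsQCoh E)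
  (hjE : RelProj.IsGrSymAlg E 𝒯 jE) (hjF : RelProj.IsGrSymAlg (CohB1.tensorMod E E') 𝒯M jF)
  {PL : Scheme.{u}} {pL : PL ⟶ X}
  {chartL : ∀ (U : X.Opens) (hU : IsAffineOpen U), (((pL ⁻¹ᵁ U : PL.Opens) : Scheme.{u}) ≅ Proj (𝒮L.deg U hU))}
  (hPL : RelProj.IsRelProj 𝒮L pL chartL)
  {P : Scheme.{u}} {p : P ⟶ Y}
  {chart : ∀ (U : Y.Opens) (hU : IsAffineOpen U), (((p ⁻¹ᵁ U : P.Opens) : Scheme.{u}) ≅ Proj (𝒯.deg U hU))}
  (hP : RelProj.IsRelProj 𝒯 p chart)
  {PM : Scheme.{u}} {pM : PM ⟶ X}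
  {chartM : ∀ (U : X.Opens) (hU : IsAffineOpen U), (((pM ⁻¹ᵁ U : PM.Opens) : Scheme.{u}) ≅ Proj (𝒮M.deg U hU))}
  (hPM : RelProj.IsRelProj 𝒮M pM chartM)
  {Q : Scheme.{u}} {qQ : Q ⟶ Y}
  {chartQ : ∀ (U : Y.Opens) (hU : IsAffineOpen U), (((qQ ⁻¹ᵁ U : Q.Opens) : Scheme.{u}) ≅ Proj (𝒯M.deg U hU))}
  (hQ : RelProj.IsRelProj 𝒯M qQ chartQ)

include hLq hjL hu hu' hL hL' hMq hjM hjF hPL hP hPM hQ in
lemma hit_baseTwist_iff (c : Piece u pL chartL) (e : Γ(E', c.U))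
    {b₀ : SymmetricAlgebra Γ(Y, c.U) Γ(E, c.U)} (hb₀ : SymAlgX.secMap jE c.U b₀ = c.f)
    (hb₀' : b₀ ∈ SymAlgX.symDeg Γ(Y, c.U) Γ(E, c.U) c.d) {z' : PM} (hz' : pM z' ∈ q ⁻¹ᵁ c.U) :
    Hit u' pM chartM c.U c.hU (baseTwist jF c.U e b₀) z' ↔
      pM z' ∈ c.V ∧ pM z' ∈ AmpleX.locus (show Γ(L', q ⁻¹ᵁ c.U) from ψ'.app c.U e) := by
  have := isIso_pL hLq hjL hPL hL
  obtain ⟨W₁, -, t₁, ht₁, hy₁, hW₁⟩ := exists_affine_frame hL hz'
  obtain ⟨W, hW, t', ht', hyW, hWle⟩ := exists_affine_frame hL' hy₁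
  have h : W ≤ q ⁻¹ᵁ c.U := hWle.trans hW₁
  have ht : InvX.IsFrame (AModX.res L hWle t₁) := ht₁.res hWle
  obtain ⟨α, hα⟩ := LineCone35.exists_of_mem_deg jL hLq hjL hW ht c.d _ (u.map_mem c.U c.hU W hW h c.hf)
  obtain ⟨β, hβ⟩ := ht'.exists_coord le_rfl (AModX.res L' h (show Γ(L', q ⁻¹ᵁ c.U) from ψ'.app c.U e))
  rw [AModX.res_self] at hβ
  have hval : u'.gradedAt c.U c.hU W hW h (baseTwist jF c.U e b₀) = (𝒮M.str.app (op W)).hom (α * β ^ c.d) *
      LineCone35.elt jM (InvX.tmul (AModX.res L hWle t₁) t') ^ c.d := by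
    show (u'.appLE c.U W h).hom (baseTwist jF c.U e b₀) = _
    rw [appLE_baseTwist hLq hjL hu hu' e hW h b₀, hb₀, show (u.appLE c.U W h).hom c.f = _ from hα, map_mul,
      twistMap_secMap_algebraMap, map_pow, twistMap_elt, hβ, InvX.tmul_smul_right, LineCone35.elt_smul,
      mul_pow, map_mul, map_pow, mul_assoc]
  obtain ⟨w, rfl⟩ := ProjQMapX.exists_emb_eq (chart := chartM) W hW hyW
  rw [hit_emb_iff hQ hPM c.hd (baseTwist_mem hjF c.hU e hb₀') W hW h w, hval,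
    mem_basicOpen_iff hMq hjM hW (InvX.isFrame_tmul ht ht') hPM c.hd, Scheme.basicOpen_mul,
    Scheme.basicOpen_pow _ _ c.hd, ← AmpleX.locus_inf _ h ht' hβ]
  set y := pM (RelProj.emb pM chartM W hW w) with hy
  have hA : y ∈ X.basicOpen α ↔ y ∈ c.V := by
    obtain ⟨z₁, hz₁⟩ := pL.surjective y
    obtain ⟨w₁, rfl⟩ := ProjQMapX.exists_emb_eq (chart := chartL) W hW (show pL z₁ ∈ W from hz₁ ▸ hyW)
    rw [← hz₁, ← c.mem_iff, hit_emb_iff hP hPL c.hd c.hf W hW h w₁,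
      show u.gradedAt c.U c.hU W hW h c.f = _ from hα, mem_basicOpen_iff hLq hjL hW ht hPL c.hd]
  exact ⟨fun h' => ⟨hA.mp h'.1, h'.2.1⟩, fun h' => ⟨hA.mpr h'.1, h'.2, hyW⟩⟩

include hLq hjL hu hu' hL hL' hMq hjM hE hjE hjF hPL hP hPM hQ in
lemma exists_piece_baseTwist (c : Piece u pL chartL) (hc : c.Cond) (e : Γ(E', c.U))
    (hle : c.V ≤ AmpleX.locus (show Γ(L', q ⁻¹ᵁ c.U) from ψ'.app c.U e)) :
    ∃ c' : Piece u' pM chartM, c'.V = c.V ∧ c'.Cond := by
  obtain ⟨b₀, hb₀⟩ := (SymAlgX.secMap_bijective hE hjE c.U c.hU).2 c.f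
  have hb₀' : b₀ ∈ SymAlgX.symDeg Γ(Y, c.U) Γ(E, c.U) c.d :=
    (SymAlgX.secMap_mem_iff hE hjE c.U c.hU c.d b₀).mp (hb₀ ▸ c.hf)
  have hmem := fun z' hz' => hit_baseTwist_iff hLq hjL hu hu' hL hL' hMq hjM hjF hPL hP hPM hQ c e hb₀ hb₀'
    (z' := z') hz'
  refine ⟨⟨c.U, c.hU, c.d, c.hd, baseTwist jF c.U e b₀, baseTwist_mem hjF c.hU e hb₀', c.V, c.hV, c.hle,
    fun z' => ⟨fun hh => ((hmem z' ?_).mp hh).1, fun hh => (hmem z' (c.hle hh)).mpr ⟨hh, hle hh⟩⟩⟩,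
    rfl, fun t => ?_⟩
  · obtain ⟨U', hU', hle', w, rfl, -⟩ := hh
    exact hle' (ProjQMapX.emb_mem U' hU' w)
  · show ∃ m : ℕ, 0 < m ∧ ∃ s'' ∈ 𝒯M.deg c.U c.hU (m * c.d), (𝒮M.str.app (op c.V)).hom t *
      (u'.appLE c.U c.V c.hle).hom (baseTwist jF c.U e b₀) ^ m = (u'.appLE c.U c.V c.hle).hom s''
    obtain ⟨m, hm, s', hs', hts⟩ := hc t
    obtain ⟨b₁, hb₁⟩ := (SymAlgX.secMap_bijective hE hjE c.U c.hU).2 s'
    have hb₁' : b₁ ∈ SymAlgX.symDeg Γ(Y, c.U) Γ(E, c.U) (m * c.d) :=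
      (SymAlgX.secMap_mem_iff hE hjE c.U c.hU _ b₁).mp (by rw [hb₁]; exact hs')
    refine ⟨m, hm, baseTwist jF c.U e b₁, baseTwist_mem hjF c.hU e hb₁', ?_⟩
    rw [appLE_baseTwist hLq hjL hu hu' e c.hV c.hle, appLE_baseTwist hLq hjL hu hu' e c.hV c.hle, hb₀, hb₁,
      ← hts, map_mul, map_pow, twistMap_secMap_algebraMap]

end piece

variable {L L' : X.Modules}

/-- If `L` is very ample and sections of `L'` coming from the base have no common zero then `L ⊗ L'` is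
very ample. -/
theorem isRelVeryAmple_tensor_of_locus (hL : PicF.IsInvertible L) (hva : RelProj.IsRelVeryAmple q L)
    (hL' : PicF.IsInvertible L') {E' : Y.Modules} (hE' : Coh.IsQCoh E')
    (ψ' : E' ⟶ (Scheme.Modules.pushforward q).obj L')
    (hψ' : ∀ x : X, ∃ (U : Y.Opens) (_ : IsAffineOpen U) (e : Γ(E', U)), q x ∈ U ∧
      x ∈ AmpleX.locus (show Γ(L', q ⁻¹ᵁ U) from ψ'.app U e)) :
    RelProj.IsRelVeryAmple q (CohB1.tensorMod L L') := by
  classical
  have hLq := ProjUPX.isQCoh_of_isInvertible hL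
  have hM := InvX.isInvertible_tensorMod hL hL'
  have hMq := ProjUPX.isQCoh_of_isInvertible hM
  obtain ⟨𝒮L, jL, hjL⟩ := SymAlgX.exists_isGrSymAlg L hLq
  obtain ⟨PL, pL, chartL, hPL⟩ := Proj16.exists_isRelProj (𝒮 := 𝒮L)
  obtain ⟨𝒮M, jM, hjM⟩ := SymAlgX.exists_isGrSymAlg _ hMq
  obtain ⟨PM, pM, chartM, hPM⟩ := Proj16.exists_isRelProj (𝒮 := 𝒮M)
  obtain ⟨E, hE, 𝒯, jE, hjE, P, p, chart, hP, ψ, u, r, hr, hu, htop, himm⟩ := exists_qdata hL hLq hjL hPL hva
  have hF : Coh.IsQCoh (CohB1.tensorMod E E') := KFlatLib.isQCoh_tensor hE hE'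
  obtain ⟨𝒯M, jF, hjF⟩ := SymAlgX.exists_isGrSymAlg _ hF
  obtain ⟨Q, qQ, chartQ, hQ⟩ := Proj16.exists_isRelProj (𝒮 := 𝒯M)
  obtain ⟨u', hu'⟩ := exists_qLift_gen hF hjF 𝒮M
    (tensorPush ψ ψ' ≫ (Scheme.Modules.pushforward q).map jM) fun U hU x V hV hVU => by
      show rB 𝒮M.toQCAlg hVU (LineCone35.elt jM ((tensorPush ψ ψ').app U x)) ∈ _
      rw [show rB 𝒮M.toQCAlg hVU (LineCone35.elt jM ((tensorPush ψ ψ').app U x)) = _ from
        LineCone35.elt_res jM hVU _]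
      exact LineCone35.elt_mem jM hjM hV
  have := isIso_pL hLq hjL hPL hL
  have := isIso_pL hMq hjM hPM hM
  have := ProjQMapX.isIso_ι_of_eq_top htop
  have hpiece : ∀ x : X, ∃ c : Piece u' pM chartM, x ∈ c.V ∧ c.Cond := fun x => by
    obtain ⟨U, hU, e, hxU, he⟩ := hψ' x
    set W₀ := AmpleX.locus (show Γ(L', q ⁻¹ᵁ U) from ψ'.app U e)
    -- the point of `PL` over `x`, and an open of `P` cutting out the locus
    obtain ⟨z, hz⟩ := ((RelProj.domQ u pL chartL).ι ≫ pL).surjective x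
    obtain ⟨O, hO, hOeq⟩ := r.isEmbedding.isInducing.isOpen_iff.mp
      (((RelProj.domQ u pL chartL).ι ≫ pL) ⁻¹ᵁ W₀).2
    have hmemO : ∀ y, r y ∈ O ↔ ((RelProj.domQ u pL chartL).ι ≫ pL) y ∈ W₀ := fun y => by
      exact Set.ext_iff.mp hOeq y
    have hrz : p (r z) = q x := by
      rw [← hz, ← Scheme.Hom.comp_apply, ← Scheme.Hom.comp_apply, ProjQMapX.isProjQMapOn_comp hP hPL hr]
      rfl
    have hrz' : r z ∈ (⟨O, hO⟩ : P.Opens) ⊓ r.coborderRange :=
      ⟨(hmemO z).mpr (hz ▸ he), subset_coborder ⟨z, rfl⟩⟩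
    obtain ⟨d, f, hd, hf, hfz, hfle⟩ := exists_open_le (p := p) (chart := chart) hU (hrz ▸ hxU) hrz'
    obtain ⟨c, hcU, -, hco, hc⟩ := exists_piece hP hPL hr hU hd hf
      (isClosedImmersion_morphismRestrict r (hfle.trans inf_le_right))
    subst hcU
    have hxc : x ∈ c.V := by
      rw [← hz]
      exact (c.mem_iff _).mp ((hit_iff_apply_mem hP hPL hr c.hU c.hd c.hf z).mpr (hco.ge hfz))
    have hcle : c.V ≤ W₀ := fun y hy => by
      obtain ⟨w, rfl⟩ := ((RelProj.domQ u pL chartL).ι ≫ pL).surjective y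
      exact (hmemO w).mp ((hco.le.trans hfle)
        ((hit_iff_apply_mem hP hPL hr c.hU c.hd c.hf w).mp ((c.mem_iff _).mpr hy))).1
    obtain ⟨c', hc'V, hc'⟩ := exists_piece_baseTwist hLq hjL hu hu' hL hL' hMq hjM hE hjE hjF hPL hP hPM hQ
      c hc e hcle
    exact ⟨c', hc'V ▸ hxc, hc'⟩
  choose c hxc hc using hpiece
  obtain ⟨r', hr', -⟩ := ProjQMapX.existsUnique_isProjQMapOn u' hQ hPM
  obtain ⟨htop', himm'⟩ := Piece.isImmersion_of_cover hQ hPM hr' c (fun z => ⟨pM z, hxc _⟩) hc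
  obtain ⟨O1, lam, i, hO1, hi, hip, hθ⟩ :=
    exists_immersion_of_isImmersion hM hMq hjM hPM hF hjF u' hQ hr' htop' himm'
  exact ⟨_, hF, 𝒯M, jF, hjF, Q, qQ, chartQ, hQ, O1, lam, hO1, i, hi, hip, hθ⟩

/-- If `L` is very ample and `L'` is generated by sections from the base then `L ⊗ L'` is very ample. -/
theorem isRelVeryAmple_tensor_of_epi (hL : PicF.IsInvertible L) (hva : RelProj.IsRelVeryAmple q L)
    (hL' : PicF.IsInvertible L') {E' : Y.Modules} (hE' : Coh.IsQCoh E')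
    (φ : (Scheme.Modules.pullback q).obj E' ⟶ L') [Epi φ] :
    RelProj.IsRelVeryAmple q (CohB1.tensorMod L L') :=
  isRelVeryAmple_tensor_of_locus hL hva hL' hE'
    ((Scheme.Modules.pullbackPushforwardAdjunction q).unit.app E' ≫ (Scheme.Modules.pushforward q).map φ)
    fun x => by
      obtain ⟨_, ⟨U, hU, rfl⟩, hxU, -⟩ := Y.isBasis_affineOpens.exists_subset_of_mem_open
        (Set.mem_univ (q x)) isOpen_univ
      obtain ⟨e, he⟩ := exists_mem_locus_of_epi hL' hE' φ hU hxU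
      exact ⟨U, hU, e, hxU, he⟩

/-- A very ample module has, near every point, a section from the base which is a frame. -/
theorem exists_locus_data_of_isRelVeryAmple (hL : PicF.IsInvertible L) (hva : RelProj.IsRelVeryAmple q L) :
    ∃ (E : Y.Modules) (_ : Coh.IsQCoh E) (ψ : E ⟶ (Scheme.Modules.pushforward q).obj L),
      ∀ x : X, ∃ (U : Y.Opens) (_ : IsAffineOpen U) (e : Γ(E, U)), q x ∈ U ∧
        x ∈ AmpleX.locus (show Γ(L, q ⁻¹ᵁ U) from ψ.app U e) := by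
  have hLq := ProjUPX.isQCoh_of_isInvertible hL
  obtain ⟨𝒮L, jL, hjL⟩ := SymAlgX.exists_isGrSymAlg L hLq
  obtain ⟨PL, pL, chartL, hPL⟩ := Proj16.exists_isRelProj (𝒮 := 𝒮L)
  obtain ⟨E, hE, 𝒯, jE, hjE, P, p, chart, hP, ψ, u, r, -, hu, htop, -⟩ := exists_qdata hL hLq hjL hPL hva
  have := isIso_pL hLq hjL hPL hL
  refine ⟨E, hE, ψ, fun x => ?_⟩
  obtain ⟨z, rfl⟩ := pL.surjective x
  obtain ⟨U, hU, e, he⟩ := exists_hit_deg_one hE hjE u (z := z) (by rw [htop]; trivial)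
  obtain ⟨U', hU', hle', w', hw', -⟩ := id he
  have hzU : pL z ∈ q ⁻¹ᵁ U := hle' (hw' ▸ ProjQMapX.emb_mem U' hU' w')
  refine ⟨U, hU, e, hzU, ?_⟩
  obtain ⟨W, hW, t, ht, hzW, h⟩ := exists_affine_frame hL hzU
  obtain ⟨β, hβ⟩ := ht.exists_coord le_rfl (AModX.res L h (show Γ(L, q ⁻¹ᵁ U) from ψ.app U e))
  rw [AModX.res_self] at hβ
  obtain ⟨w, rfl⟩ := ProjQMapX.exists_emb_eq (chart := chartL) W hW hzW
  rw [hit_emb_iff hP hPL one_pos (hjE.2 U hU e) W hW h w] at he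
  rw [show u.gradedAt U hU W hW h ((jE.app U) e) = (𝒮L.str.app (op W)).hom β * LineCone35.elt jL t ^ 1 from by
      show (u.appLE U W h).hom _ = _
      rw [← rB_app, hu, show rB 𝒮L.toQCAlg h (LineCone35.elt jL _) = _ from LineCone35.elt_res jL h _, hβ,
        LineCone35.elt_smul, pow_one],
    mem_basicOpen_iff hLq hjL hW ht hPL one_pos, ← AmpleX.locus_inf _ h ht hβ] at he
  exact he.1

/-- The tensor product of two very ample modules is very ample. -/
theorem isRelVeryAmple_tensor (hL : PicF.IsInvertible L) (hL' : PicF.IsInvertible L')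
    (hva : RelProj.IsRelVeryAmple q L) (hva' : RelProj.IsRelVeryAmple q L') :
    RelProj.IsRelVeryAmple q (CohB1.tensorMod L L') := by
  obtain ⟨E', hE', ψ', hψ'⟩ := exists_locus_data_of_isRelVeryAmple hL' hva'
  exact isRelVeryAmple_tensor_of_locus hL hva hL' hE' ψ' hψ'

end Groth.Agent.RLPsi35

namespace Groth.Agent.RLPsi35

variable {X Y : Scheme.{u}} {q : X ⟶ Y} {L : X.Modules}

/-- Very ampleness only depends on the isomorphism class. -/
theorem isRelVeryAmple_of_iso {A B : X.Modules} (e : A ≅ B) (h : RelProj.IsRelVeryAmple q A) :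
    RelProj.IsRelVeryAmple q B := by
  obtain ⟨E, hE, 𝒮, j, hj, P, p, chart, hP, O1, lam, hO1, i, hi, hip, ⟨θ⟩⟩ := h
  exact ⟨E, hE, 𝒮, j, hj, P, p, chart, hP, O1, lam, hO1, i, hi, hip, ⟨e.symm ≪≫ θ⟩⟩

/-- Positive tensor powers of a very ample module are very ample. -/
theorem isRelVeryAmple_tensorPow (hL : PicF.IsInvertible L) (hva : RelProj.IsRelVeryAmple q L) :
    ∀ n : ℕ, 0 < n → RelProj.IsRelVeryAmple q (CohB1.tensorPow L n)
  | 0, h => absurd h (lt_irrefl 0)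
  | 1, _ => isRelVeryAmple_of_iso (tensorPowOneIso L).symm hva
  | n + 2, _ => isRelVeryAmple_tensor (InvX.isInvertible_tensorPow hL (n + 1)) hL
      (isRelVeryAmple_tensorPow hL hva (n + 1) (Nat.succ_pos n)) hva

end Groth.Agent.RLPsi35
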